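import Cfsg.Agent.Lib.BigExtra.Radical
import Cfsg.Agent.Lib.Basics.CoprimeAction
import Cfsg.Agent.Lib.Components.FStar
import Cfsg.Prelude.Def_CaseTheorems

/-!
# Criteria for largeness and simplicity
-/

set_option autoImplicit false
set_option linter.unusedSectionVars false

open scoped commutatorElement

namespace Cfsg.Agent.BigExtra

open Subgroup

universe u

variable {G : Type u} [Group G] [Finite G] {Q : Subgroup G} {z : G}

theorem exData_of_fStar (hz : orderOf z = 2) (hQC : Q ≤ centralizer ({z} : Set G))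
    (hF : (Cfsg.generalizedFittingSubgroup ↥(centralizer ({z} : Set G))).map
      (centralizer ({z} : Set G)).subtype = Q)
    (hQ : Cfsg.IsExtraspecial 2 ↥Q) :
    ExData Q z ∧ (center ↥Q).map Q.subtype = zpowers z := by
  set C := centralizer ({z} : Set G)
  have hin : ∀ a : G, a ∈ C → (∀ b ∈ Q, Commute a b) → a ∈ Q := by
    intro a ha hab
    rw [← hF]
    refine ⟨⟨a, ha⟩, Components.centralizer_fStar_le (mem_centralizer_iff.2 fun b hb => ?_), rfl⟩
    exact Subtype.ext (hab b (hF ▸ mem_map_of_mem C.subtype hb)).eq.symm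
  have hzb : ∀ b ∈ Q, Commute z b := fun b hb => (mem_centralizer_singleton_iff.1 (hQC hb)).symm
  have hzQ : z ∈ Q := hin z (mem_centralizer_singleton_iff.2 rfl) hzb
  have hzc : (⟨z, hzQ⟩ : Q) ∈ center Q := mem_center_iff.2 fun b => Subtype.ext (hzb b b.2).eq.symm
  have hcen : (center ↥Q).map Q.subtype = zpowers z := by
    refine (eq_of_le_of_card_ge (zpowers_le.2 (mem_map_of_mem Q.subtype hzc)) ?_).symm
    rw [Nat.card_zpowers, show orderOf (Q.subtype ⟨z, hzQ⟩) = 2 from hz, card_map_of_injective Q.subtype_injective, hQ.2]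
  refine ⟨exData_of_center hQ hcen (le_antisymm ?_ ?_) ?_, hcen⟩
  · intro a ha
    have hab : ∀ b ∈ Q, Commute a b := fun b hb => (mem_centralizer_iff.1 ha b hb).symm
    have haQ := hin a (mem_centralizer_singleton_iff.2 (hab z hzQ).eq) hab
    exact ⟨⟨a, haQ⟩, mem_center_iff.2 fun b => Subtype.ext (hab b b.2).eq.symm, rfl⟩
  · rintro _ ⟨a, ha, rfl⟩
    exact mem_centralizer_iff.2 fun b hb => congrArg Subtype.val (mem_center_iff.1 ha ⟨b, hb⟩)
  · rw [hcen]
    have hn : (Q.subgroupOf C).Normal := by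
      have e : Q.subgroupOf C = Cfsg.generalizedFittingSubgroup ↥C := by
        rw [← hF, subgroupOf, comap_map_eq_self_of_injective C.subtype_injective]
      rw [e]
      infer_instance
    intro c hc
    have hcC : c ∈ C :=
      centralizer_le (Set.singleton_subset_iff.2 (mem_zpowers z)) hc
    exact (normal_subgroupOf_iff_le_normalizer hQC).1 hn hcC

theorem ExData.center_eq (h : ExData Q z) :
    (center ↥Q).map Q.subtype = zpowers z := by
  refine le_antisymm ?_ (zpowers_le.2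
    ⟨⟨z, h.mem⟩, mem_center_iff.2 fun b => Subtype.ext (h.le_cent b b.2).eq, rfl⟩)
  rintro _ ⟨a, ha, rfl⟩
  rcases h.self_centralizing a fun b hb =>
    (congrArg Subtype.val (mem_center_iff.1 ha ⟨b, hb⟩)).symm with e | e
  · show (a : G) ∈ zpowers z
    rw [e]; exact one_mem _
  · show (a : G) ∈ zpowers z
    rw [e]; exact mem_zpowers z

theorem ExData.isExtraspecial (h : ExData Q z) (hcard : 9 ≤ Nat.card Q) :
    Cfsg.IsExtraspecial 2 ↥Q := by
  haveI := Fact.mk Nat.prime_two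
  let zQ : Q := ⟨z, h.mem⟩
  have hc : center ↥Q = zpowers zQ := by
    apply map_injective Q.subtype_injective
    rw [h.center_eq, MonoidHom.map_zpowers]; rfl
  have hp : Invol.ExtraPairs.Pre 2 Q zQ := by
    refine ⟨by rw [← Subgroup.orderOf_coe]; exact h.ord, hc, fun a b => ?_, fun a => ?_⟩
    · rcases h.comm a a.2 b b.2 with e | e
      · rw [show ⁅a, b⁆ = 1 from Subtype.ext (by simpa [commutatorElement_def] using e)]
        exact one_mem _
      · rw [show ⁅a, b⁆ = zQ from Subtype.ext (by simpa [commutatorElement_def] using e)]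
        exact mem_zpowers _
    · rcases h.sq a a.2 with e | e
      · rw [show a ^ 2 = 1 from Subtype.ext (by simpa [_root_.sq] using e)]
        exact one_mem _
      · rw [show a ^ 2 = zQ from Subtype.ext (by simpa [_root_.sq] using e)]
        exact mem_zpowers _
  exact hp.extraspecial (by omega)

theorem ExData.isLargeExtraspecial (h : ExData Q z) (hcard : 9 ≤ Nat.card Q)
    (hodd : ∀ K : Subgroup G, Odd (Nat.card K) → Q ≤ normalizer (K : Set G) → K = ⊥) :
    Cfsg.IsLargeExtraspecial Q := by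
  refine ⟨h.isExtraspecial hcard, ?_, ?_, hodd⟩
  · rw [h.center_eq]
    refine le_antisymm (fun a ha => ?_) (zpowers_le.2
      (mem_centralizer_iff.2 fun b hb => (h.le_cent b hb).eq))
    rcases h.self_centralizing a (fun b hb => (mem_centralizer_iff.1 ha b hb).symm) with e | e
      <;> rw [e]
    exacts [one_mem _, mem_zpowers z]
  · rw [h.center_eq]
    intro c hc
    have hcz : Commute c z := (mem_centralizer_iff.1 hc z (mem_zpowers z)).symm
    refine mem_normalizer_iff.2 fun a => ⟨h.normal c hcz a, fun ha => ?_⟩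
    have := h.normal c⁻¹ hcz.inv_left _ ha
    rwa [show c⁻¹ * (c * a * c⁻¹) * c⁻¹⁻¹ = a by group] at this

/-- A normalized two-group containing the subgroup lies in the centralizer of the centre, and so
does its normalizer. -/
theorem ExData.sylow_le (h : ExData Q z) (T : Sylow 2 G) (hQT : Q ≤ T) :
    (T : Subgroup G) ≤ centralizer ({z} : Set G) ∧
      normalizer ((T : Subgroup G) : Set G) ≤ centralizer ({z} : Set G) := by
  haveI := Fact.mk Nat.prime_two
  haveI : Nontrivial (T : Subgroup G) :=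
    ⟨⟨⟨z, hQT h.mem⟩, 1, fun e => h.ne_one (congrArg Subtype.val e)⟩⟩
  haveI := T.isPGroup'.center_nontrivial
  obtain ⟨⟨a, ha⟩, ha1⟩ := exists_ne (1 : center (T : Subgroup G))
  have haT : ∀ b ∈ (T : Subgroup G), Commute (a : G) b := fun b hb =>
    (congrArg Subtype.val (mem_center_iff.1 ha ⟨b, hb⟩)).symm
  have haz : (a : G) = z := (h.self_centralizing a fun b hb => haT b (hQT hb)).resolve_left
    fun e => ha1 (Subtype.ext (Subtype.ext e))
  rw [haz] at haT
  refine ⟨fun b hb => mem_centralizer_singleton_iff.2 (haT b hb).eq.symm, fun n hn => ?_⟩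
  have hcent : ∀ b ∈ Q, Commute (n * z * n⁻¹) b := by
    intro b hb
    have h2 := (haT _ ((mem_normalizer_iff.1 (inv_mem hn) b).1 (hQT hb))).map
      (MulAut.conj n).toMonoidHom
    simpa [mul_assoc] using h2
  rcases h.self_centralizing _ hcent with e | e
  · exact absurd (conj_eq_one_iff.1 e) h.ne_one
  · exact mem_centralizer_singleton_iff.2 (mul_inv_eq_iff_eq_mul.1 e)

/-- A normal subgroup contains the central involution when there is no odd core. -/
theorem ExData.mem_of_normal (h : ExData Q z)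
    (hodd : ∀ K : Subgroup G, Odd (Nat.card K) → Q ≤ normalizer (K : Set G) → K = ⊥)
    {N : Subgroup G} (hN : N.Normal) (hNb : N ≠ ⊥) : z ∈ N := by
  classical
  by_contra hzN
  have hNQ : ∀ a ∈ N, a ∈ Q → a = 1 := by
    intro a ha haQ
    by_contra ha1
    obtain ⟨b, hb, hab⟩ := h.pair a haQ ha1 fun e => hzN (e ▸ ha)
    exact hzN (by
      rw [← hab, commutatorElement_def, show a * b * a⁻¹ * b⁻¹ = a * (b * a⁻¹ * b⁻¹) by group]
      exact mul_mem ha (hN.conj_mem _ (inv_mem ha) b))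
  have hfix : ∀ k ∈ N, Commute k z → k = 1 := by
    intro k hk hkz
    refine (h.self_centralizing k fun b hb => ?_).resolve_right fun e => hzN (e ▸ hk)
    have h1 : k * b * k⁻¹ * b⁻¹ = 1 := hNQ _ (by
      rw [show k * b * k⁻¹ * b⁻¹ = k * (b * k⁻¹ * b⁻¹) by group]
      exact mul_mem hk (hN.conj_mem _ (inv_mem hk) b))
      (mul_mem (h.normal k hkz b hb) (inv_mem hb))
    exact mul_inv_eq_iff_eq_mul.1 (mul_inv_eq_one.1 h1)
  haveI := Fact.mk Nat.prime_two
  refine hNb (hodd N (Nat.not_even_iff_odd.1 fun hev => ?_)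
    fun q _ => (Subgroup.normalizer_eq_top (H := N)).symm ▸ mem_top q)
  haveI := Fintype.ofFinite N
  let f : N → N := fun a =>
    ⟨(a : G)⁻¹ * (z * a * z⁻¹), mul_mem (inv_mem a.2) (hN.conj_mem _ a.2 z)⟩
  have hinj : Function.Injective f := by
    intro a b e
    have e' : (a : G)⁻¹ * (z * a * z⁻¹) = (b : G)⁻¹ * (z * b * z⁻¹) := congrArg Subtype.val e
    refine Subtype.ext (mul_inv_eq_one.1 (hfix _ (mul_mem b.2 (inv_mem a.2)) ?_)).symm
    show (b : G) * (a : G)⁻¹ * z = z * ((b : G) * (a : G)⁻¹)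
    calc (b : G) * (a : G)⁻¹ * z = (b : G) * ((a : G)⁻¹ * (z * a * z⁻¹)) * (z * (a : G)⁻¹) := by
          group
      _ = z * ((b : G) * (z⁻¹ * z) * (a : G)⁻¹) := by rw [e']; group
      _ = _ := by group
  obtain ⟨i, hi⟩ := exists_prime_orderOf_dvd_card' 2 (G := N) hev.two_dvd
  obtain ⟨a, ha⟩ := (Finite.injective_iff_surjective.1 hinj) i
  have hai : (a : G)⁻¹ * (z * a * z⁻¹) = i := congrArg Subtype.val ha
  have hinv : z * (i : G) * z⁻¹ = (i : G)⁻¹ := by
    rw [← hai, h.inv_eq]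
    calc z * ((a : G)⁻¹ * (z * a * z)) * z = z * (a : G)⁻¹ * z * a * (z * z) := by group
      _ = ((a : G)⁻¹ * (z * a * z))⁻¹ := by
        rw [h.mul_self, mul_one, mul_inv_rev, mul_inv_rev, mul_inv_rev, inv_inv, h.inv_eq]
        group
  have hii : (i : G) * i = 1 := by
    rw [← _root_.sq, ← hi, ← Subgroup.orderOf_coe, pow_orderOf_eq_one]
  have : i = 1 := Subtype.ext (hfix _ i.2 (Commute.symm (mul_inv_eq_iff_eq_mul.1
    (hinv.trans (inv_eq_of_mul_eq_one_right hii)))))
  rw [this, orderOf_one] at hi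
  omega

/-- The simplicity criterion. -/
theorem ExData.isSimpleGroup (h : ExData Q z) (hQ2 : IsPGroup 2 Q)
    (hodd : ∀ K : Subgroup G, Odd (Nat.card K) → Q ≤ normalizer (K : Set G) → K = ⊥)
    (hstep : ∀ N : Subgroup G, N.Normal → z ∈ N → centralizer ({z} : Set G) ≤ N) :
    IsSimpleGroup G := by
  haveI := Fact.mk Nat.prime_two
  haveI : Nontrivial G := ⟨⟨z, 1, h.ne_one⟩⟩
  refine IsSimpleGroup.mk fun N hN => or_iff_not_imp_left.2 fun hNb => ?_
  have hC := hstep N hN (h.mem_of_normal hodd hN hNb)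
  obtain ⟨T, hT⟩ := hQ2.exists_le_sylow
  obtain ⟨hTC, hTN⟩ := h.sylow_le T hT
  haveI := hN
  rw [← Sylow.normalizer_sup_eq_top' T (hTC.trans hC)]
  exact (sup_eq_right.2 (hTN.trans hC)).symm

/-- A mover fixing an involution. -/
theorem ExData.mover_fixing (h : ExData Q z) {t a : G} (ht : t ∈ Q) (ht2 : t * t = 1)
    (ht1 : t ≠ 1) (htz : t ≠ z) (ha : a ∈ Q) (ha1 : a ≠ 1) (ha2 : a ≠ z) (ha3 : a ≠ t)
    (ha4 : a ≠ t * z) : ∃ q ∈ Q, Commute q t ∧ q * a * q⁻¹ = z * a := by
  by_contra! hh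
  rcases h.centralizer_perp ht ht2 ht1 htz ha fun p hp hpt =>
    Commute.symm (mul_inv_eq_iff_eq_mul.1 ((h.conj_cases hp ha).resolve_right (hh p hp hpt)))
    with e | e | e | e
  exacts [ha1 e, ha2 e, ha3 e, ha4 e]

/-- A mover fixed by a subgroup of odd order. -/
theorem ExData.mover_fixed (h : ExData Q z) (hQ2 : IsPGroup 2 Q) {A : Subgroup G}
    (hAodd : Odd (Nat.card A)) (hAz : ∀ a ∈ A, Commute a z) {x : G} (hx : x ∈ Q)
    (hAx : ∀ a ∈ A, Commute a x) (hx1 : x ≠ 1) (hxz : x ≠ z) :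
    ∃ q ∈ Q, (∀ a ∈ A, Commute q a) ∧ q * x * q⁻¹ = z * x := by
  haveI := Fact.mk Nat.prime_two
  obtain ⟨q, hq, hqx⟩ := h.mover hx hx1 hxz
  set D := perpIn Q x
  have hAD : A ≤ normalizer (D : Set G) := by
    have key : ∀ a ∈ A, ∀ p ∈ D, a * p * a⁻¹ ∈ D := fun a ha p hp =>
      mem_perpIn.2 ⟨h.normal a (hAz a ha) p (mem_perpIn.1 hp).1,
        ((hAx a ha).mul_left (mem_perpIn.1 hp).2).mul_left (hAx a ha).inv_left⟩
    intro a ha
    refine mem_normalizer_iff.2 fun p => ⟨key a ha p, fun hp => ?_⟩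
    have := key a⁻¹ (inv_mem ha) _ hp
    rwa [show a⁻¹ * (a * p * a⁻¹) * a⁻¹⁻¹ = p by group] at this
  have hD2 : IsPGroup 2 D := hQ2.to_le inf_le_left
  obtain ⟨n, hn⟩ := IsPGroup.iff_card.1 hD2
  haveI := hD2.isNilpotent
  obtain ⟨c, hcA, hcD⟩ := Basics.exists_centralizer_mem_leftCoset A D hAD
    (hn ▸ (Nat.coprime_two_right.2 hAodd).pow_right n)
    (.inr inferInstance) q fun a ha => by
      rw [show q⁻¹ * a * q * a⁻¹ = q⁻¹ * (a * q * a⁻¹) by group]
      refine mem_perpIn.2 ⟨mul_mem (inv_mem hq) (h.normal a (hAz a ha) q hq),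
        mul_inv_eq_iff_eq_mul.1 ?_⟩
      have e1 : a⁻¹ * x * a = x := by rw [mul_assoc, ← (hAx a ha).eq, inv_mul_cancel_left]
      have e2 : a * (z * x) * a⁻¹ = z * x := by
        rw [((hAz a ha).mul_right (hAx a ha)).eq, mul_inv_cancel_right]
      calc q⁻¹ * (a * q * a⁻¹) * x * (q⁻¹ * (a * q * a⁻¹))⁻¹
          = q⁻¹ * (a * (q * (a⁻¹ * x * a) * q⁻¹) * a⁻¹) * q := by group
        _ = x := by rw [e1, hqx, e2, ← hqx]; group
  obtain ⟨hd, hdx⟩ := mem_perpIn.1 hcD
  refine ⟨c, by simpa using mul_mem hq hd, fun a ha => (mem_centralizer_iff.1 hcA a ha).symm, ?_⟩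
  calc c * x * c⁻¹ = q * ((q⁻¹ * c) * x * (q⁻¹ * c)⁻¹) * q⁻¹ := by group
    _ = z * x := by rw [hdx.eq, mul_inv_cancel_right, hqx]

/-- Two movers carry one centre to the other. -/
theorem conj_of_movers {x q r : G} (h : ExData Q z) (hzx : Commute x z) (hq : q ∈ Q)
    (hqx : q * x * q⁻¹ = z * x) (hrz : r * z * r⁻¹ = x * z) :
    (q * r)⁻¹ * x * (q * r)⁻¹⁻¹ = z := by
  have e : q * r * z * (q * r)⁻¹ = x := by
    rw [show q * r * z * (q * r)⁻¹ = q * (r * z * r⁻¹) * q⁻¹ by group, hrz,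
      show q * (x * z) * q⁻¹ = (q * x * q⁻¹) * (q * z * q⁻¹) by group, hqx,
      (h.le_cent q hq).eq, mul_inv_cancel_right, mul_assoc, hzx.eq, ← mul_assoc, h.mul_self,
      one_mul]
  rw [← e]; group

/-- A central involution with cofactor of odd order. -/
theorem exists_odd_mul {C : Subgroup G} (hzC : z ∈ C) (hz : orderOf z = 2)
    (hcz : ∀ c ∈ C, Commute c z) (h4 : ¬ 4 ∣ Nat.card C) :
    ∀ c ∈ C, ∃ o ∈ (Cfsg.oddCore ↥C).map C.subtype, c = o ∨ c = o * z := by
  haveI := Fact.mk Nat.prime_two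
  let zC : C := ⟨z, hzC⟩
  haveI hn : (zpowers zC).Normal := ⟨fun y hy g => by
    obtain ⟨k, rfl⟩ := hy
    refine ⟨k, ?_⟩
    have : Commute g zC := Subtype.ext (hcz g g.2).eq
    rw [(this.zpow_right k).eq, mul_inv_cancel_right]⟩
  have hcard : Nat.card (zpowers zC) = 2 := by
    rw [Nat.card_zpowers, ← Subgroup.orderOf_coe]; exact hz
  have hidx : Odd (zpowers zC).index := by
    rw [← Nat.not_even_iff_odd]
    intro hev
    refine h4 ?_
    rw [← card_mul_index (zpowers zC), hcard]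
    obtain ⟨m, hm⟩ := hev.two_dvd
    exact ⟨m, by rw [hm]; ring⟩
  obtain ⟨H, hH⟩ := exists_left_complement'_of_coprime (N := zpowers zC)
    (by rw [hcard]; exact Nat.coprime_two_left.2 hidx)
  haveI : H.Normal := normal_of_index_eq_two (by rw [hH.symm.index_eq_card, hcard])
  have hHodd : (Nat.card H).Coprime 2 := by
    rw [← hH.index_eq_card]
    exact Nat.coprime_two_right.2 hidx
  intro c hc
  obtain ⟨⟨o, s⟩, hos⟩ := hH.2 ⟨c, hc⟩
  refine ⟨(o : C), ⟨o, Basics.le_pPrimeCore hHodd o.2, rfl⟩, ?_⟩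
  have hos' : ((o : C) : G) * ((s : C) : G) = c := congrArg Subtype.val hos
  obtain ⟨k, hk⟩ := s.2
  have hk' : z ^ k = ((s : C) : G) := by simpa [zC] using congrArg Subtype.val hk
  rw [← hos', ← hk', ← zpow_mod_orderOf, hz]
  rcases Int.emod_two_eq_zero_or_one k with e | e <;> simp [e]

end Cfsg.Agent.BigExtra
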