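import Cfsg.Agent.Lib.BigExtra.Pair

/-!
# The four-group spanned by two orthogonal centres and the group generated by the two cores
-/

set_option autoImplicit false
set_option linter.unusedSectionVars false

open scoped commutatorElement

namespace Cfsg.Agent.BigExtra

open Subgroup

universe u

variable {G : Type u} [Group G] [Finite G]

/-- Two self-centralizing extraspecial subgroups with centres in each other. -/
structure Four (Q Q' : Subgroup G) (z x : G) : Prop where
  h : ExData Q z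
  h' : ExData Q' x
  memQ : x ∈ Q
  memQ' : z ∈ Q'
  ne : x ≠ z
  conj_eq : ∀ r ∈ Q', ∀ q ∈ Q, r * z * r⁻¹ = q * x * q⁻¹ →
    Q.map (MulAut.conj r).toMonoidHom = Q'.map (MulAut.conj q).toMonoidHom

/-- The four-group of two involutions. -/
abbrev fourV (z x : G) : Subgroup G := closure ({z, x} : Set G)

/-- The part of `Q` fixing the pair. -/
abbrev perpIn (Q : Subgroup G) (x : G) : Subgroup G := Q ⊓ centralizer ({x} : Set G)

theorem mem_perpIn {Q : Subgroup G} {x a : G} : a ∈ perpIn Q x ↔ a ∈ Q ∧ Commute a x :=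
  and_congr Iff.rfl ⟨fun h => mem_centralizer_singleton_iff.1 h,
    fun h => mem_centralizer_singleton_iff.2 h.eq⟩

variable {Q Q' : Subgroup G} {z x : G}

theorem Four.of_conj (h : ExData Q z) (hcard : 9 ≤ Nat.card Q) {g : G} (hgQ : g * z * g⁻¹ ∈ Q)
    (hne : g * z * g⁻¹ ≠ z) :
    Four Q (Q.map (MulAut.conj g).toMonoidHom) z (g * z * g⁻¹) := by
  refine ⟨h, h.conj g, hgQ, h.orth hcard hgQ hne, hne, fun r _ q _ e => ?_⟩
  have := h.map_eq (a := r) (b := q * g) (by rw [e]; group)
  rw [this, map_map]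
  congr 1
  ext a
  simp [mul_assoc]

theorem Four.symm (d : Four Q Q' z x) : Four Q' Q x z :=
  ⟨d.h', d.h, d.memQ', d.memQ, d.ne.symm, fun r hr q hq e => (d.conj_eq q hq r hr e.symm).symm⟩

theorem Four.comm (d : Four Q Q' z x) : Commute x z := d.h.le_cent x d.memQ

theorem Four.zx_ne (d : Four Q Q' z x) : z * x ≠ 1 ∧ z * x ≠ z ∧ z * x ≠ x :=
  ⟨fun e => d.ne (by rw [← inv_eq_of_mul_eq_one_right e, d.h.inv_eq]),
    fun e => d.h'.ne_one (mul_eq_left.1 e), fun e => d.h.ne_one (mul_eq_right.1 e)⟩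

theorem Four.mem_fourV (d : Four Q Q' z x) {v : G} :
    v ∈ fourV z x ↔ v = 1 ∨ v = z ∨ v = x ∨ v = z * x := by
  constructor
  · intro hv
    have zz := d.h.mul_self
    have xx := d.h'.mul_self
    have zz' : ∀ a : G, z * (z * a) = a := fun a => by rw [← mul_assoc, zz, one_mul]
    have xx' : ∀ a : G, x * (x * a) = a := fun a => by rw [← mul_assoc, xx, one_mul]
    have xz : x * z = z * x := d.comm.eq
    have xz' : ∀ a : G, x * (z * a) = z * (x * a) := fun a => by rw [← mul_assoc, xz, mul_assoc]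
    induction hv using closure_induction with
    | mem a ha => rcases ha with rfl | rfl <;> simp
    | one => simp
    | mul a b _ _ ha hb =>
      rcases ha with rfl | rfl | rfl | rfl <;> rcases hb with rfl | rfl | rfl | rfl <;>
        simp [mul_assoc, zz, xx, zz', xx', xz, xz']
    | inv a _ ha =>
      rcases ha with rfl | rfl | rfl | rfl <;>
        simp [d.h.inv_eq, d.h'.inv_eq, xz]
  · rintro (rfl | rfl | rfl | rfl)
    · exact one_mem _
    · exact subset_closure (by simp)
    · exact subset_closure (by simp)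
    · exact mul_mem (subset_closure (by simp)) (subset_closure (by simp))

theorem Four.fourV_comm (d : Four Q Q' z x) : fourV z x = fourV x z := by
  rw [fourV, fourV, Set.pair_comm]

theorem mem_centralizer_fourV {c : G} :
    c ∈ centralizer (fourV z x : Set G) ↔ Commute c z ∧ Commute c x := by
  rw [centralizer_closure, mem_centralizer_iff]
  refine ⟨fun h => ⟨(h z (by simp)).symm, (h x (by simp)).symm⟩, ?_⟩
  rintro h v (rfl | rfl)
  exacts [h.1.eq.symm, h.2.eq.symm]

theorem Four.perpIn_le (d : Four Q Q' z x) : perpIn Q x ≤ centralizer (fourV z x : Set G) :=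
  fun a ha => mem_centralizer_fourV.2
    ⟨d.h.le_cent a (mem_perpIn.1 ha).1, (mem_perpIn.1 ha).2⟩

theorem Four.z_mem_perp (d : Four Q Q' z x) : z ∈ perpIn Q x :=
  mem_perpIn.2 ⟨d.h.mem, d.comm.symm⟩

theorem Four.x_mem_perp (d : Four Q Q' z x) : x ∈ perpIn Q x :=
  mem_perpIn.2 ⟨d.memQ, Commute.refl x⟩

theorem Four.mover (d : Four Q Q' z x) : ∃ q ∈ Q, q * x * q⁻¹ = z * x :=
  d.h.mover d.memQ d.h'.ne_one d.ne

theorem Four.le_normalizer (d : Four Q Q' z x) : Q ≤ normalizer (fourV z x : Set G) := by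
  have key : ∀ a ∈ Q, ∀ v ∈ fourV z x, a * v * a⁻¹ ∈ fourV z x := by
    intro a ha v hv
    have hz : a * z * a⁻¹ = z := by rw [(d.h.le_cent a ha).eq, mul_inv_cancel_right]
    have hx : a * x * a⁻¹ ∈ fourV z x := by
      rcases d.h.conj_cases ha d.memQ with e | e <;> rw [e]
      · exact d.mem_fourV.2 (by simp)
      · exact d.mem_fourV.2 (by simp)
    rcases d.mem_fourV.1 hv with e | e | e | e <;> subst v
    · simp
    · rw [hz]; exact d.mem_fourV.2 (by simp)
    · exact hx
    · rw [show a * (z * x) * a⁻¹ = (a * z * a⁻¹) * (a * x * a⁻¹) by group, hz]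
      exact mul_mem (d.mem_fourV.2 (by simp)) hx
  intro a ha
  refine mem_normalizer_iff.2 fun v => ⟨key a ha v, fun hv => ?_⟩
  have := key a⁻¹ (inv_mem ha) _ hv
  rwa [show a⁻¹ * (a * v * a⁻¹) * a⁻¹⁻¹ = v by group] at this

theorem Four.le_normalizer' (d : Four Q Q' z x) : Q' ≤ normalizer (fourV z x : Set G) := by
  rw [d.fourV_comm]
  exact d.symm.le_normalizer

theorem Four.sup_le_normalizer (d : Four Q Q' z x) :
    Q ⊔ Q' ≤ normalizer (fourV z x : Set G) :=
  sup_le d.le_normalizer d.le_normalizer'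

theorem conj_mem_centralizer {V : Subgroup G} {n c : G} (hn : n ∈ normalizer (V : Set G))
    (hc : c ∈ centralizer (V : Set G)) : n * c * n⁻¹ ∈ centralizer (V : Set G) := by
  rw [mem_centralizer_iff] at hc ⊢
  intro v hv
  have h1 := hc (n⁻¹ * v * n) (by
    have := (mem_normalizer_iff.1 hn (n⁻¹ * v * n)).2
    exact this (by rwa [show n * (n⁻¹ * v * n) * n⁻¹ = v by group]))
  calc v * (n * c * n⁻¹) = n * ((n⁻¹ * v * n) * c) * n⁻¹ := by group
    _ = n * c * n⁻¹ * v := by rw [h1]; group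

/-- The radical. -/
abbrev radR (Q Q' : Subgroup G) (z x : G) : Subgroup G := perpIn Q' z ⊔ perpIn Q x

theorem Four.radR_le_centralizer (d : Four Q Q' z x) :
    radR Q Q' z x ≤ centralizer (fourV z x : Set G) :=
  sup_le (by rw [d.fourV_comm]; exact d.symm.perpIn_le) d.perpIn_le

theorem Four.radR_le_sup (_d : Four Q Q' z x) : radR Q Q' z x ≤ Q ⊔ Q' :=
  sup_le (inf_le_left.trans le_sup_right) (inf_le_left.trans le_sup_left)

theorem radR_comm : radR Q Q' z x = radR Q' Q x z := sup_comm _ _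

theorem Four.comm_perp (d : Four Q Q' z x) {q t : G} (hq : q ∈ Q) (ht : t ∈ perpIn Q' z) :
    q * t * q⁻¹ * t⁻¹ ∈ perpIn Q x := by
  obtain ⟨htQ, htz⟩ := mem_perpIn.1 ht
  have htV : t ∈ centralizer (fourV z x : Set G) := by
    rw [d.fourV_comm]; exact d.symm.perpIn_le ht
  refine mem_perpIn.2 ⟨?_, (mem_centralizer_fourV.1
    (mul_mem (conj_mem_centralizer (d.le_normalizer hq) htV) (inv_mem htV))).2⟩
  rw [show q * t * q⁻¹ * t⁻¹ = q * (t * q⁻¹ * t⁻¹) by group]
  exact mul_mem hq (d.h.normal t htz _ (inv_mem hq))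

theorem Four.conj_perp (d : Four Q Q' z x) {q p : G} (hq : q ∈ Q) (hp : p ∈ perpIn Q x) :
    q * p * q⁻¹ ∈ perpIn Q x :=
  mem_perpIn.2 ⟨mul_mem (mul_mem hq (mem_perpIn.1 hp).1) (inv_mem hq),
    (mem_centralizer_fourV.1 (conj_mem_centralizer (d.le_normalizer hq) (d.perpIn_le hp))).2⟩

theorem Four.conj_radR (d : Four Q Q' z x) : ∀ q ∈ Q, ∀ a ∈ radR Q Q' z x,
    q * a * q⁻¹ ∈ radR Q Q' z x := by
  intro q hq a ha
  suffices h : radR Q Q' z x ≤ (radR Q Q' z x).comap (MulAut.conj q).toMonoidHom from h ha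
  refine sup_le (fun t ht => ?_) fun p hp => mem_sup_right (d.conj_perp hq hp)
  show q * t * q⁻¹ ∈ radR Q Q' z x
  have := mul_mem (mem_sup_right (S := perpIn Q' z) (d.comm_perp hq ht)) (mem_sup_left ht)
  rwa [inv_mul_cancel_right] at this

theorem Four.sup_le_normalizer_radR (d : Four Q Q' z x) :
    Q ⊔ Q' ≤ normalizer (radR Q Q' z x : Set G) := by
  have h2 : ∀ q ∈ Q', ∀ a ∈ radR Q Q' z x, q * a * q⁻¹ ∈ radR Q Q' z x := by
    rw [radR_comm]; exact d.symm.conj_radR
  refine sup_le (fun q hq => mem_normalizer_iff.2 fun a => ⟨d.conj_radR q hq a, fun ha => ?_⟩)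
    fun q hq => mem_normalizer_iff.2 fun a => ⟨h2 q hq a, fun ha => ?_⟩
  · have := d.conj_radR q⁻¹ (inv_mem hq) _ ha
    rwa [show q⁻¹ * (q * a * q⁻¹) * q⁻¹⁻¹ = a by group] at this
  · have := h2 q⁻¹ (inv_mem hq) _ ha
    rwa [show q⁻¹ * (q * a * q⁻¹) * q⁻¹⁻¹ = a by group] at this

theorem Four.radR_isPGroup (d : Four Q Q' z x) (hQ : IsPGroup 2 Q) (hQ' : IsPGroup 2 Q') :
    IsPGroup 2 (radR Q Q' z x) := by
  refine IsPGroup.to_sup_of_normal_right' (hQ'.to_le inf_le_left) (hQ.to_le inf_le_left)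
    fun t ht => mem_normalizer_iff.2 fun p => ?_
  obtain ⟨htQ, htz⟩ := mem_perpIn.1 ht
  have htx : Commute t x := d.h'.le_cent t htQ
  have key : ∀ t : G, Commute t z → Commute t x → ∀ p ∈ perpIn Q x, t * p * t⁻¹ ∈ perpIn Q x := by
    intro t h1 h2 p hp
    refine mem_perpIn.2 ⟨d.h.normal t h1 p (mem_perpIn.1 hp).1, ?_⟩
    exact (h2.mul_left (mem_perpIn.1 hp).2).mul_left h2.inv_left
  refine ⟨key t htz htx p, fun hp => ?_⟩
  have := key t⁻¹ htz.inv_left htx.inv_left _ hp
  rwa [show t⁻¹ * (t * p * t⁻¹) * t⁻¹⁻¹ = p by group] at this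

/-- The action of the normalizer on the three involutions, on three letters. -/
theorem Four.exists_hom (d : Four Q Q' z x) :
    ∃ φ : normalizer (fourV z x : Set G) →* Equiv.Perm (Fin 3),
      φ.ker = (centralizer (fourV z x : Set G)).subgroupOf (normalizer (fourV z x : Set G)) ∧
      ((Q ⊔ Q').subgroupOf (normalizer (fourV z x : Set G))).map φ = ⊤ := by
  classical
  set V := fourV z x
  let N := normalizer (V : Set G)
  let α := {v : G // v ∈ V ∧ v ≠ 1}
  letI act : MulAction N α :=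
    { smul := fun n v => ⟨n * v * (n : G)⁻¹, (mem_normalizer_iff.1 n.2 _).1 v.2.1,
        fun e => v.2.2 (conj_eq_one_iff.1 e)⟩
      one_smul := fun v => Subtype.ext (show ((1 : N) : G) * v * ((1 : N) : G)⁻¹ = v by simp)
      mul_smul := fun a b v => Subtype.ext (show ((a * b : N) : G) * v * ((a * b : N) : G)⁻¹ =
        a * (b * v * (b : G)⁻¹) * (a : G)⁻¹ by simp [mul_assoc]) }
  have hcard : Nat.card α = 3 := by
    have e : ∀ v : G, v ∈ ({z, x, z * x} : Finset G) ↔ v ∈ V ∧ v ≠ 1 := fun v => by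
      simp only [Finset.mem_insert, Finset.mem_singleton, V, d.mem_fourV]
      constructor
      · rintro (rfl | rfl | rfl)
        exacts [⟨by simp, d.h.ne_one⟩, ⟨by simp, d.h'.ne_one⟩, ⟨by simp, d.zx_ne.1⟩]
      · tauto
    rw [← Nat.card_congr (Equiv.subtypeEquivRight e), Nat.card_eq_finsetCard,
      Finset.card_insert_of_notMem (by simp [d.ne.symm, d.zx_ne.2.1.symm]),
      Finset.card_insert_of_notMem (by simp [d.zx_ne.2.2.symm]), Finset.card_singleton]
  let e := Finite.equivFinOfCardEq hcard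
  refine ⟨e.permCongrHom.toMonoidHom.comp (MulAction.toPermHom N α), ?_, ?_⟩
  · ext n
    rw [MonoidHom.mem_ker, mem_subgroupOf, mem_centralizer_fourV]
    refine (MulEquiv.map_eq_one_iff e.permCongrHom).trans ?_
    constructor
    · intro hn
      have hv : ∀ v : α, (n : G) * v * (n : G)⁻¹ = v := fun v =>
        congrArg Subtype.val (DFunLike.congr_fun hn v :)
      exact ⟨mul_inv_eq_iff_eq_mul.1 (hv ⟨z, d.mem_fourV.2 (by simp), d.h.ne_one⟩),
        mul_inv_eq_iff_eq_mul.1 (hv ⟨x, d.mem_fourV.2 (by simp), d.h'.ne_one⟩)⟩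
    · intro hn
      refine Equiv.ext fun v => Subtype.ext ?_
      show (n : G) * v * (n : G)⁻¹ = v
      have : (n : G) ∈ centralizer (V : Set G) := mem_centralizer_fourV.2 hn
      rw [(mem_centralizer_iff.1 this _ v.2.1).symm, mul_inv_cancel_right]
  · rw [← map_map]
    suffices h : ((Q ⊔ Q').subgroupOf N).map (MulAction.toPermHom N α) = ⊤ by
      rw [h, map_top_of_surjective _ e.permCongrHom.surjective]
    set M := ((Q ⊔ Q').subgroupOf N).map (MulAction.toPermHom N α)
    obtain ⟨q, hq, hqx⟩ := d.mover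
    obtain ⟨r, hr, hrz⟩ := d.symm.mover
    let qN : N := ⟨q, d.le_normalizer hq⟩
    let rN : N := ⟨r, d.le_normalizer' hr⟩
    let zα : α := ⟨z, d.mem_fourV.2 (by simp), d.h.ne_one⟩
    let xα : α := ⟨x, d.mem_fourV.2 (by simp), d.h'.ne_one⟩
    let f := MulAction.toPermHom N α
    have hqz : ((f qN) zα : G) = z := show q * z * q⁻¹ = z by
      rw [(d.h.le_cent q hq).eq, mul_inv_cancel_right]
    have hqx' : ((f qN) xα : G) = z * x := hqx
    have hrz' : ((f rN) zα : G) = x * z := hrz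
    have hrx : ((f rN) xα : G) = x := show r * x * r⁻¹ = x by
      rw [(d.h'.le_cent r hr).eq, mul_inv_cancel_right]
    have hqrz : ((f (qN * rN)) zα : G) = x := by
      show q * r * z * (q * r)⁻¹ = x
      rw [show q * r * z * (q * r)⁻¹ = q * (r * z * r⁻¹) * q⁻¹ by group, hrz,
        show q * (x * z) * q⁻¹ = (q * x * q⁻¹) * (q * z * q⁻¹) by group, hqx,
        (d.h.le_cent q hq).eq, mul_inv_cancel_right, mul_assoc, d.comm.eq, ← mul_assoc,
        d.h.mul_self, one_mul]
    have hqM : f qN ∈ M := mem_map_of_mem _ (mem_subgroupOf.2 (mem_sup_left hq))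
    have hrM : f rN ∈ M := mem_map_of_mem _ (mem_subgroupOf.2 (mem_sup_right hr))
    have hmem : ∀ a ∈ ({1, f qN, f rN, f (qN * rN)} : Finset (Equiv.Perm α)), a ∈ M := by
      simp only [Finset.mem_insert, Finset.mem_singleton]
      rintro a (rfl | rfl | rfl | rfl)
      exacts [one_mem M, hqM, hrM, by rw [map_mul]; exact mul_mem hqM hrM]
    have h4 : ({1, f qN, f rN, f (qN * rN)} : Finset (Equiv.Perm α)).card = 4 := by
      have hx1 : z * x ≠ x := d.zx_ne.2.2
      have hxz : x * z ≠ z := fun e => d.h'.ne_one (mul_eq_right.1 e)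
      have n1 : f qN ≠ 1 := fun e => hx1 (by rw [← hqx', e]; rfl)
      have n2 : f rN ≠ 1 := fun e => hxz (by rw [← hrz', e]; rfl)
      have n3 : f qN ≠ f rN := fun e => hx1 (by rw [← hqx', e, hrx])
      have n4 : f (qN * rN) ≠ 1 := fun e => d.ne (by rw [← hqrz, e]; rfl)
      have n5 : f (qN * rN) ≠ f qN := fun e => d.ne (by rw [← hqrz, e, hqz])
      have n6 : f (qN * rN) ≠ f rN := fun e => n1 (by rw [map_mul] at e; exact mul_eq_right.1 e)
      rw [Finset.card_insert_of_notMem (by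
            simp only [Finset.mem_insert, Finset.mem_singleton, not_or]
            exact ⟨n1.symm, n2.symm, n4.symm⟩),
        Finset.card_insert_of_notMem (by
            simp only [Finset.mem_insert, Finset.mem_singleton, not_or]
            exact ⟨n3, n5.symm⟩),
        Finset.card_insert_of_notMem (by
            simp only [Finset.mem_singleton]
            exact n6.symm), Finset.card_singleton]
    have hle : 4 ≤ Nat.card M := by
      rw [← h4, ← Nat.card_eq_finsetCard]
      exact Nat.card_le_card_of_injective (fun a => ⟨a.1, hmem a.1 a.2⟩)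
        fun a b e => Subtype.ext (by simpa using e)
    have h6 : Nat.card (Equiv.Perm α) = 6 := by
      rw [Nat.card_congr e.permCongr]; simp [Nat.card_eq_fintype_card, Fintype.card_perm]; rfl
    refine eq_top_of_le_card M ?_
    have hdvd := h6 ▸ card_subgroup_dvd_card M
    have := Nat.le_of_dvd (by norm_num) hdvd
    rw [h6]
    interval_cases hk : Nat.card M <;> first | omega | norm_num at hdvd

theorem Four.relIndex_eq (d : Four Q Q' z x) :
    (centralizer (fourV z x : Set G)).relIndex (normalizer (fourV z x : Set G)) = 6 := by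
  obtain ⟨φ, hker, htop⟩ := d.exists_hom
  have hr : φ.range = ⊤ := eq_top_iff.2 (htop ▸ map_le_range φ _)
  rw [relIndex, ← hker, index_ker, hr, card_top, Nat.card_perm, Nat.card_fin]
  rfl

/-- The group of the two cores modulo the radical. -/
theorem Four.sup_inf_centralizer (d : Four Q Q' z x) :
    (Q ⊔ Q') ⊓ centralizer (fourV z x : Set G) = radR Q Q' z x := by
  classical
  refine le_antisymm ?_ (le_inf d.radR_le_sup d.radR_le_centralizer)
  set X := Q ⊔ Q' with hX
  set R := radR Q Q' z x with hRdef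
  haveI hn : (R.subgroupOf X).Normal :=
    normal_subgroupOf_of_le_normalizer d.sup_le_normalizer_radR
  let π := QuotientGroup.mk' (R.subgroupOf X)
  have h1 : ∀ u : X, (u : G) ∈ R → π u = 1 := fun u hu =>
    (QuotientGroup.eq_one_iff u).2 (mem_subgroupOf.2 hu)
  obtain ⟨q, hq, hqx⟩ := d.mover
  obtain ⟨r, hr, hrz⟩ := d.symm.mover
  let qX : X := ⟨q, mem_sup_left hq⟩
  let rX : X := ⟨r, mem_sup_right hr⟩
  set a := π qX with had
  set b := π rX with hbd
  have hzR : z ∈ R := mem_sup_right d.z_mem_perp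
  have hxR : x ∈ R := mem_sup_right d.x_mem_perp
  have ha : a * a = 1 := by
    rw [had, ← map_mul]
    refine h1 _ ?_
    rcases d.h.sq q hq with e | e <;> rw [Subgroup.coe_mul, show (qX : G) * qX = q * q from rfl, e]
    exacts [one_mem R, hzR]
  have hb : b * b = 1 := by
    rw [hbd, ← map_mul]
    refine h1 _ ?_
    rcases d.h'.sq r hr with e | e <;> rw [Subgroup.coe_mul, show (rX : G) * rX = r * r from rfl, e]
    exacts [one_mem R, hxR]
  have hab : a * b * a = b * a * b := by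
    have hqz : q * z * q⁻¹ = z := by rw [(d.h.le_cent q hq).eq, mul_inv_cancel_right]
    have hrx : r * x * r⁻¹ = x := by rw [(d.h'.le_cent r hr).eq, mul_inv_cancel_right]
    -- the two conjugates lie in the same third core
    have hM : q * r * q⁻¹ ∈ Q.map (MulAut.conj r).toMonoidHom := by
      rw [d.conj_eq r hr q hq (by rw [hrz, hqx, d.comm.eq])]
      exact ⟨r, hr, rfl⟩
    obtain ⟨a', ha', hae⟩ := hM
    have hae' : r * a' * r⁻¹ = q * r * q⁻¹ := hae
    have hV : q * r * q⁻¹ * (r * q * r⁻¹) ∈ centralizer (fourV z x : Set G) := by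
      have hxx := d.h'.mul_self
      have hzz := d.h.mul_self
      have hqi : q⁻¹ * x * q = z * x := by
        calc q⁻¹ * x * q = q⁻¹ * (z * (z * x)) * q := by rw [← mul_assoc z z, hzz, one_mul]
          _ = (q⁻¹ * z * q) * x := by rw [← hqx]; group
          _ = z * x := by rw [mul_assoc q⁻¹ z, ← (d.h.le_cent q hq).eq, inv_mul_cancel_left]
      have hri : r⁻¹ * z * r = x * z := by
        calc r⁻¹ * z * r = r⁻¹ * (x * (x * z)) * r := by rw [← mul_assoc x x, hxx, one_mul]
          _ = (r⁻¹ * x * r) * z := by rw [← hrz]; group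
          _ = x * z := by rw [mul_assoc r⁻¹ x, ← (d.h'.le_cent r hr).eq, inv_mul_cancel_left]
      have e1 : q * (x * z) * q⁻¹ = x := by
        rw [show q * (x * z) * q⁻¹ = (q * x * q⁻¹) * (q * z * q⁻¹) by group, hqx, hqz, mul_assoc,
          d.comm.eq, ← mul_assoc, hzz, one_mul]
      have e2 : r * (z * x) * r⁻¹ = z := by
        rw [show r * (z * x) * r⁻¹ = (r * z * r⁻¹) * (r * x * r⁻¹) by group, hrz, hrx, mul_assoc,
          ← d.comm.eq, ← mul_assoc, hxx, one_mul]
      have u1 : q * r * q⁻¹ * x * (q * r * q⁻¹)⁻¹ = z := by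
        calc q * r * q⁻¹ * x * (q * r * q⁻¹)⁻¹ = q * (r * (q⁻¹ * x * q) * r⁻¹) * q⁻¹ := by group
          _ = z := by rw [hqi, e2, hqz]
      have u2 : q * r * q⁻¹ * z * (q * r * q⁻¹)⁻¹ = x := by
        calc q * r * q⁻¹ * z * (q * r * q⁻¹)⁻¹ = q * (r * (q⁻¹ * z * q) * r⁻¹) * q⁻¹ := by group
          _ = x := by
            rw [mul_assoc q⁻¹ z, ← (d.h.le_cent q hq).eq, inv_mul_cancel_left, hrz, e1]
      have v1 : r * q * r⁻¹ * z * (r * q * r⁻¹)⁻¹ = x := by
        calc r * q * r⁻¹ * z * (r * q * r⁻¹)⁻¹ = r * (q * (r⁻¹ * z * r) * q⁻¹) * r⁻¹ := by group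
          _ = x := by rw [hri, e1, hrx]
      have v2 : r * q * r⁻¹ * x * (r * q * r⁻¹)⁻¹ = z := by
        calc r * q * r⁻¹ * x * (r * q * r⁻¹)⁻¹ = r * (q * (r⁻¹ * x * r) * q⁻¹) * r⁻¹ := by group
          _ = z := by
            rw [mul_assoc r⁻¹ x, ← (d.h'.le_cent r hr).eq, inv_mul_cancel_left, hqx, e2]
      generalize q * r * q⁻¹ = u at u1 u2 ⊢
      generalize r * q * r⁻¹ = v at v1 v2 ⊢
      refine mem_centralizer_fourV.2 ⟨mul_inv_eq_iff_eq_mul.1 ?_, mul_inv_eq_iff_eq_mul.1 ?_⟩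
      · rw [show u * v * z * (u * v)⁻¹ = u * (v * z * v⁻¹) * u⁻¹ by group, v1, u1]
      · rw [show u * v * x * (u * v)⁻¹ = u * (v * x * v⁻¹) * u⁻¹ by group, v2, u2]
    have hR' : q * r * q⁻¹ * (r * q * r⁻¹) ∈ R := by
      rw [← hae', show r * a' * r⁻¹ * (r * q * r⁻¹) = r * (a' * q) * r⁻¹ by group] at hV ⊢
      refine (mem_normalizer_iff.1 (d.sup_le_normalizer_radR (mem_sup_right hr)) _).1
        (mem_sup_right (mem_perpIn.2 ⟨mul_mem ha' hq, ((mem_centralizer_fourV (z := z)).1 ?_).2⟩))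
      have := conj_mem_centralizer (inv_mem (d.le_normalizer' hr)) hV
      rwa [show r⁻¹ * (r * (a' * q) * r⁻¹) * r⁻¹⁻¹ = a' * q by group] at this
    have h2 : π (qX * rX * qX⁻¹ * (rX * qX * rX⁻¹)) = 1 := h1 _ hR'
    simp only [map_mul, map_inv, ← had, ← hbd, inv_eq_of_mul_eq_one_right ha,
      inv_eq_of_mul_eq_one_right hb] at h2
    rw [← inv_eq_of_mul_eq_one_left h2]
    simp [inv_eq_of_mul_eq_one_right ha, inv_eq_of_mul_eq_one_right hb, mul_assoc]
  -- the six cosets
  let S : Finset (X ⧸ R.subgroupOf X) := {1, a, b, a * b, b * a, a * b * a}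
  have ha' : ∀ v, a * (a * v) = v := fun v => by rw [← mul_assoc, ha, one_mul]
  have hb' : ∀ v, b * (b * v) = v := fun v => by rw [← mul_assoc, hb, one_mul]
  have hbab : b * (a * b) = a * (b * a) := by rw [← mul_assoc, ← mul_assoc, hab]
  have hbaba : b * (a * (b * a)) = a * b := by rw [← hbab, hb']
  have hSa : ∀ v ∈ S, a * v ∈ S := by
    intro v hv
    simp only [S, Finset.mem_insert, Finset.mem_singleton] at hv ⊢
    rcases hv with rfl | rfl | rfl | rfl | rfl | rfl <;> simp [mul_assoc, ha, ha']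
  have hSb : ∀ v ∈ S, b * v ∈ S := by
    intro v hv
    simp only [S, Finset.mem_insert, Finset.mem_singleton] at hv ⊢
    rcases hv with rfl | rfl | rfl | rfl | rfl | rfl <;> simp [mul_assoc, hb, hb', hbab, hbaba]
  have hgenQ : ∀ u : X, (u : G) ∈ Q → π u = 1 ∨ π u = a := by
    intro u hu
    rcases d.h.comm_or d.memQ hu hq hqx with e | e
    · exact .inl (h1 u (mem_sup_right (mem_perpIn.2 ⟨hu, e⟩)))
    · refine .inr ?_
      have := h1 (u * qX) (mem_sup_right (mem_perpIn.2 ⟨mul_mem hu hq, e⟩))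
      rw [map_mul, ← had] at this
      rw [eq_inv_of_mul_eq_one_left this, inv_eq_of_mul_eq_one_right ha]
  have hgenQ' : ∀ u : X, (u : G) ∈ Q' → π u = 1 ∨ π u = b := by
    intro u hu
    rcases d.h'.comm_or d.memQ' hu hr hrz with e | e
    · exact .inl (h1 u (mem_sup_left (mem_perpIn.2 ⟨hu, e⟩)))
    · refine .inr ?_
      have := h1 (u * rX) (mem_sup_left (mem_perpIn.2 ⟨mul_mem hu hr, e⟩))
      rw [map_mul, ← hbd] at this
      rw [eq_inv_of_mul_eq_one_left this, inv_eq_of_mul_eq_one_right hb]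
  have hS : ∀ u : X, ∀ v ∈ S, π u * v ∈ S := by
    rintro ⟨u, hu⟩
    have hu' := hu
    rw [hX, sup_eq_closure] at hu'
    induction hu' using closure_induction'' with
    | mem y hy =>
      intro v hv
      rcases hy with hy | hy
      · rcases hgenQ ⟨y, hu⟩ hy with e | e <;> rw [e] <;> [simpa using hv; exact hSa v hv]
      · rcases hgenQ' ⟨y, hu⟩ hy with e | e <;> rw [e] <;> [simpa using hv; exact hSb v hv]
    | inv_mem y hy =>
      intro v hv
      rcases hy with hy | hy
      · rcases hgenQ ⟨y⁻¹, hu⟩ (Q.inv_mem hy) with e | e <;> rw [e] <;>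
          [simpa using hv; exact hSa v hv]
      · rcases hgenQ' ⟨y⁻¹, hu⟩ (Q'.inv_mem hy) with e | e <;> rw [e] <;>
          [simpa using hv; exact hSb v hv]
    | one =>
      intro v hv
      rw [show (⟨1, hu⟩ : X) = 1 from rfl, map_one, one_mul]
      exact hv
    | mul y w hy hw ihy ihw =>
      intro v hv
      have hy' : y ∈ X := by rw [hX, sup_eq_closure]; exact hy
      have hw' : w ∈ X := by rw [hX, sup_eq_closure]; exact hw
      rw [show (⟨y * w, hu⟩ : X) = ⟨y, hy'⟩ * ⟨w, hw'⟩ from rfl, map_mul, mul_assoc]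
      exact ihy hy' _ (ihw hw' v hv)
  have hcard6 : Nat.card (X ⧸ R.subgroupOf X) ≤ 6 := by
    have hinj : Function.Injective (fun u : X ⧸ R.subgroupOf X => (⟨u, by
        obtain ⟨w, rfl⟩ := QuotientGroup.mk'_surjective _ u
        show π w ∈ S
        simpa only [mul_one] using hS w 1 (by simp [S])⟩ : S)) := fun u v e => by simpa using e
    refine (Nat.card_le_card_of_injective _ hinj).trans ?_
    rw [Nat.card_eq_finsetCard]
    exact Finset.card_le_six
  obtain ⟨φ, hker, htop⟩ := d.exists_hom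
  let ψ : X →* Equiv.Perm (Fin 3) := φ.comp (inclusion d.sup_le_normalizer)
  have hψ : Function.Surjective ψ := by
    intro s
    obtain ⟨n, hn, rfl⟩ : s ∈ ((Q ⊔ Q').subgroupOf (normalizer (fourV z x : Set G))).map φ := by
      rw [htop]; trivial
    exact ⟨⟨n, mem_subgroupOf.1 hn⟩, rfl⟩
  have hψker : ∀ u : X, ψ u = 1 ↔ (u : G) ∈ centralizer (fourV z x : Set G) := fun u => by
    rw [show ψ u = φ (inclusion d.sup_le_normalizer u) from rfl, ← MonoidHom.mem_ker, hker,
      mem_subgroupOf]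
    rfl
  have hle : R.subgroupOf X ≤ ψ.ker := fun u hu =>
    (hψker u).2 (d.radR_le_centralizer (mem_subgroupOf.1 hu))
  have heq : R.subgroupOf X = ψ.ker := by
    refine hle.eq_or_lt.resolve_right fun hlt => ?_
    have h6 := index_strictAnti hlt
    rw [index_ker, MonoidHom.range_eq_top.2 hψ, card_top, Nat.card_perm, Nat.card_fin,
      index_eq_card] at h6
    exact absurd (h6.trans_le hcard6) (by decide)
  rintro u ⟨hu, huC⟩
  exact mem_subgroupOf.1 (heq ▸ ((hψker ⟨u, hu⟩).2 huC) : (⟨u, hu⟩ : X) ∈ R.subgroupOf X)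

theorem Four.quotient_iso (d : Four Q Q' z x) :
    ∃ h : ((radR Q Q' z x).subgroupOf (Q ⊔ Q')).Normal,
      Nonempty (↥(Q ⊔ Q') ⧸ (radR Q Q' z x).subgroupOf (Q ⊔ Q') ≃* Equiv.Perm (Fin 3)) := by
  obtain ⟨φ, hker, htop⟩ := d.exists_hom
  let ψ : ↥(Q ⊔ Q') →* Equiv.Perm (Fin 3) := φ.comp (inclusion d.sup_le_normalizer)
  have hψ : Function.Surjective ψ := by
    intro s
    obtain ⟨n, hn, rfl⟩ : s ∈ ((Q ⊔ Q').subgroupOf (normalizer (fourV z x : Set G))).map φ := by
      rw [htop]; trivial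
    exact ⟨⟨n, mem_subgroupOf.1 hn⟩, rfl⟩
  have hk : ψ.ker = (radR Q Q' z x).subgroupOf (Q ⊔ Q') := by
    rw [← d.sup_inf_centralizer]
    ext u
    rw [MonoidHom.mem_ker, show ψ u = φ (inclusion d.sup_le_normalizer u) from rfl,
      ← MonoidHom.mem_ker, hker, mem_subgroupOf, mem_subgroupOf, mem_inf]
    exact (and_iff_right u.2).symm
  refine ⟨hk ▸ inferInstance, ?_⟩
  haveI : ((radR Q Q' z x).subgroupOf (Q ⊔ Q')).Normal := hk ▸ inferInstance
  exact ⟨(QuotientGroup.quotientMulEquivOfEq hk.symm).trans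
    (QuotientGroup.quotientKerEquivOfSurjective ψ hψ)⟩

theorem Four.pCore_eq (d : Four Q Q' z x) (hQ : IsPGroup 2 Q) (hQ' : IsPGroup 2 Q') :
    (Cfsg.pCore 2 ↥(Q ⊔ Q')).map (Q ⊔ Q').subtype = radR Q Q' z x := by
  haveI := Fact.mk Nat.prime_two
  obtain ⟨hn, ⟨e⟩⟩ := d.quotient_iso
  haveI := hn
  refine le_antisymm ?_ ?_
  · rintro _ ⟨u, hu, rfl⟩
    let f := e.toMonoidHom.comp (QuotientGroup.mk' ((radR Q Q' z x).subgroupOf (Q ⊔ Q')))
    have hM : IsPGroup 2 ((Cfsg.pCore 2 ↥(Q ⊔ Q')).map f) := (Basics.pCore_isPGroup 2).map f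
    haveI hMn : ((Cfsg.pCore 2 ↥(Q ⊔ Q')).map f).Normal :=
      (inferInstance : (Cfsg.pCore 2 ↥(Q ⊔ Q')).Normal).map f
        (e.surjective.comp (QuotientGroup.mk'_surjective _))
    have key : ∀ s : Equiv.Perm (Fin 3), s ≠ 1 → s ^ 2 = 1 → ∃ t, t * s * t⁻¹ ≠ s := by decide
    set M := (Cfsg.pCore 2 ↥(Q ⊔ Q')).map f
    have hM2 : Nat.card M ≤ 2 := by
      obtain ⟨k, hk⟩ := IsPGroup.iff_card.1 hM
      have hdvd := card_subgroup_dvd_card M
      rw [hk, Nat.card_perm, Nat.card_fin] at hdvd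
      rcases k with _ | _ | k
      · simp [hk]
      · simp [hk]
      · exfalso
        have : 4 ∣ Nat.factorial 3 := (dvd_trans (by simp [pow_succ, mul_assoc]) hdvd)
        norm_num [Nat.factorial] at this
    have hfu : f u = 1 := by
      by_contra hne
      have hs : f u ∈ M := mem_map_of_mem f hu
      have hord : (f u) ^ 2 = 1 := by
        have h2 : Nat.card M = 2 := le_antisymm hM2 (one_lt_card_iff_ne_bot M |>.2
          fun hb => hne ((eq_bot_iff_forall M).1 hb _ hs))
        have := pow_card_eq_one' (x := (⟨f u, hs⟩ : M))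
        rw [h2] at this
        exact congrArg Subtype.val this
      obtain ⟨t, ht⟩ := key _ hne hord
      have hts := hMn.conj_mem _ hs t
      classical
      have h3 : ({1, f u, t * f u * t⁻¹} : Finset (Equiv.Perm (Fin 3))).card = 3 := by
        rw [Finset.card_insert_of_notMem (by
            simp only [Finset.mem_insert, Finset.mem_singleton, not_or]
            exact ⟨Ne.symm hne, fun e => hne (conj_eq_one_iff.1 e.symm)⟩),
          Finset.card_insert_of_notMem (by simpa using ht.symm), Finset.card_singleton]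
      have h5 : Nat.card ({1, f u, t * f u * t⁻¹} : Finset (Equiv.Perm (Fin 3))) ≤ Nat.card M := by
        refine Nat.card_le_card_of_injective (fun v => ⟨v.1, ?_⟩)
          fun v w e => Subtype.ext (by simpa using e)
        have := v.2
        simp only [Finset.mem_insert, Finset.mem_singleton] at this
        rcases this with e | e | e <;> rw [e] <;> [exact one_mem M; exact hs; exact hts]
      rw [Nat.card_eq_finsetCard, h3] at h5
      omega
    exact mem_subgroupOf.1 ((QuotientGroup.eq_one_iff u).1 (e.map_eq_one_iff.1 hfu))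
  · haveI : ((radR Q Q' z x).subgroupOf (Q ⊔ Q')).Normal := hn
    have := map_mono (f := (Q ⊔ Q').subtype) (Basics.le_pCore (p := 2)
      (((d.radR_isPGroup hQ hQ').of_equiv (subgroupOfEquivOfLe d.radR_le_sup).symm)) :
        (radR Q Q' z x).subgroupOf (Q ⊔ Q') ≤ _)
    rwa [map_subgroupOf_eq_of_le d.radR_le_sup] at this

theorem Four.conj_sup (d : Four Q Q' z x) {c : G} (hc : c ∈ centralizer (fourV z x : Set G)) :
    ∀ u ∈ Q ⊔ Q', c * u * c⁻¹ ∈ Q ⊔ Q' := by
  intro u hu
  obtain ⟨hcz, hcx⟩ := mem_centralizer_fourV.1 hc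
  suffices h : Q ⊔ Q' ≤ (Q ⊔ Q').comap (MulAut.conj c).toMonoidHom from h hu
  exact sup_le (fun a ha => mem_sup_left (d.h.normal c hcz a ha))
    fun a ha => mem_sup_right (d.h'.normal c hcx a ha)

theorem Four.normalizer_eq (d : Four Q Q' z x) :
    normalizer (fourV z x : Set G) = (Q ⊔ Q') ⊔ centralizer (fourV z x : Set G) := by
  refine le_antisymm ?_ (sup_le d.sup_le_normalizer (centralizer_le_normalizer _))
  intro n hn
  obtain ⟨φ, hker, htop⟩ := d.exists_hom
  obtain ⟨a, ha, hae⟩ : φ ⟨n, hn⟩ ∈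
      ((Q ⊔ Q').subgroupOf (normalizer (fourV z x : Set G))).map φ := by rw [htop]; trivial
  have : a⁻¹ * ⟨n, hn⟩ ∈ φ.ker := by
    rw [MonoidHom.mem_ker, map_mul, map_inv, hae, inv_mul_cancel]
  rw [hker, mem_subgroupOf] at this
  have h2 := mul_mem (mem_sup_left (T := centralizer (fourV z x : Set G)) (mem_subgroupOf.1 ha))
    (mem_sup_right (S := Q ⊔ Q') this)
  simpa using h2

theorem Four.conj_sup_normalizer (d : Four Q Q' z x) :
    ∀ n ∈ normalizer (fourV z x : Set G), ∀ u ∈ Q ⊔ Q', n * u * n⁻¹ ∈ Q ⊔ Q' := by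
  intro n hn
  rw [d.normalizer_eq, sup_eq_closure] at hn
  induction hn using closure_induction'' with
  | mem y hy =>
    intro u hu
    rcases hy with hy | hy
    · exact mul_mem (mul_mem hy hu) ((Q ⊔ Q').inv_mem hy)
    · exact d.conj_sup hy u hu
  | inv_mem y hy =>
    intro u hu
    rcases hy with hy | hy
    · exact mul_mem (mul_mem ((Q ⊔ Q').inv_mem hy) hu) ((Q ⊔ Q').inv_mem ((Q ⊔ Q').inv_mem hy))
    · exact d.conj_sup ((centralizer (fourV z x : Set G)).inv_mem hy) u hu
  | one => intro u hu; simpa using hu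
  | mul y w _ _ ihy ihw =>
    intro u hu
    rw [show y * w * u * (y * w)⁻¹ = y * (w * u * w⁻¹) * y⁻¹ by group]
    exact ihy _ (ihw u hu)

theorem Four.commutator_mem_radR (d : Four Q Q' z x) {u c : G} (hu : u ∈ Q ⊔ Q')
    (hc : c ∈ centralizer (fourV z x : Set G)) : u * c * u⁻¹ * c⁻¹ ∈ radR Q Q' z x := by
  rw [← d.sup_inf_centralizer]
  refine mem_inf.2 ⟨?_, mul_mem (conj_mem_centralizer (d.sup_le_normalizer hu) hc) (inv_mem hc)⟩
  rw [show u * c * u⁻¹ * c⁻¹ = u * (c * u⁻¹ * c⁻¹) by group]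
  exact mul_mem hu (d.conj_sup hc _ (inv_mem hu))

end Cfsg.Agent.BigExtra
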