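import Cfsg.Agent.Lib.BigExtra.Criteria
import Cfsg.Agent.Lib.Components.Layer
import Cfsg.Agent.Lib.Components.FStar2
import Cfsg.Agent.Lib.Transfer.Residual
import Cfsg.Agent.Lib.LocalEvenA.FrattiniP
import Cfsg.Agent.Lib.Basics.Cores

/-!
# The normal closure of the centre of a large extraspecial subgroup
-/

set_option autoImplicit false
set_option linter.unusedSectionVars false

open scoped commutatorElement

namespace Cfsg.Agent.BigExtra

open Subgroup

universe u

variable {G : Type u} [Group G] [Finite G]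

/-- An involution of a nonabelian simple group commutes with a third member. -/
theorem exists_third_commute {X : Type u} [Group X] [Finite X] [IsSimpleGroup X]
    (hna : ¬ IsMulCommutative X) {t : X} (ht : t * t = 1) (ht1 : t ≠ 1) :
    ∃ x, Commute x t ∧ x ≠ 1 ∧ x ≠ t := by
  haveI := Fact.mk Nat.prime_two
  by_contra hno
  push Not at hno
  have hall : ∀ x, Commute x t → x = 1 ∨ x = t := fun x hx => or_iff_not_imp_left.2 (hno x hx)
  have hord : orderOf t = 2 := orderOf_eq_prime (by rw [_root_.sq]; exact ht) ht1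
  obtain ⟨T, hT⟩ := (IsPGroup.of_card (G := zpowers t) (n := 1)
    (by rw [Nat.card_zpowers, hord, pow_one])).exists_le_sylow
  have htT : t ∈ (T : Subgroup X) := hT (mem_zpowers t)
  haveI : Nontrivial (T : Subgroup X) :=
    ⟨⟨⟨t, htT⟩, 1, fun e => ht1 (congrArg Subtype.val e)⟩⟩
  haveI := T.isPGroup'.center_nontrivial
  obtain ⟨⟨c, hc⟩, hc1⟩ := exists_ne (1 : center (T : Subgroup X))
  have hcT : ∀ b ∈ (T : Subgroup X), Commute (c : X) b := fun b hb =>
    (congrArg Subtype.val (mem_center_iff.1 hc ⟨b, hb⟩)).symm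
  have hct : (c : X) = t := (hall _ (hcT t htT)).resolve_left fun e =>
    hc1 (Subtype.ext (Subtype.ext e))
  have hTle : ∀ b ∈ (T : Subgroup X), b = 1 ∨ b = t := fun b hb =>
    hall b (hct ▸ (hcT b hb)).symm
  have hP : normalizer ((T : Subgroup X) : Set X) ≤ centralizer ((T : Subgroup X) : Set X) := by
    intro n hn
    rw [mem_centralizer_iff]
    intro b hb
    have hnt : n * t * n⁻¹ = t :=
      (hTle _ ((mem_normalizer_iff.1 hn t).1 htT)).resolve_left fun e => ht1 (conj_eq_one_iff.1 e)
    rcases hTle b hb with rfl | rfl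
    · rw [one_mul, mul_one]
    · exact (mul_inv_eq_iff_eq_mul.1 hnt).symm
  have hc' := MonoidHom.ker_transferSylow_isComplement' T hP
  rcases (inferInstance : (MonoidHom.transferSylow T hP).ker.Normal).eq_bot_or_eq_top with e | e <;>
    rw [e] at hc'
  · have hTtop : (T : Subgroup X) = ⊤ := isComplement'_bot_left.1 hc'
    exact hna ⟨⟨fun a b => by
      rcases hTle a (hTtop ▸ mem_top a) with rfl | rfl <;>
        rcases hTle b (hTtop ▸ mem_top b) with rfl | rfl <;> simp⟩⟩
  · have hTbot : (T : Subgroup X) = ⊥ := isComplement'_top_left.1 hc'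
    exact ht1 (by rwa [hTbot, mem_bot] at htT)

/-- `a` is the part of `y` in `L`. -/
def IsPart (L : Subgroup G) (a y : G) : Prop := a ∈ L ∧ ∀ l ∈ L, Commute (a⁻¹ * y) l

variable {Q : Subgroup G} {z : G}

theorem IsPart.unique {L : Subgroup G} (hL : ∀ c ∈ L, (∀ l ∈ L, Commute c l) → c = 1) {a b y : G}
    (ha : IsPart L a y) (hb : IsPart L b y) : a = b := by
  refine (eq_of_inv_mul_eq_one ?_)
  refine hL _ (mul_mem (inv_mem ha.1) hb.1) fun l hl => ?_
  rw [show a⁻¹ * b = (a⁻¹ * y) * (b⁻¹ * y)⁻¹ by group]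
  exact (ha.2 l hl).mul_left (hb.2 l hl).inv_left

theorem IsPart.one (L : Subgroup G) : IsPart L 1 1 :=
  ⟨one_mem _, fun l _ => by rw [inv_one, one_mul]; exact Commute.one_left l⟩

theorem IsPart.of_mem {L : Subgroup G} {a r : G} (ha : a ∈ L) (hr : ∀ l ∈ L, Commute r l) :
    IsPart L a (a * r) := ⟨ha, fun l hl => by rw [inv_mul_cancel_left]; exact hr l hl⟩

theorem mem_map_conj {L : Subgroup G} {g x : G} :
    x ∈ L.map (MulAut.conj g).toMonoidHom ↔ ∃ l ∈ L, g * l * g⁻¹ = x := Iff.rfl

theorem IsPart.conj {L : Subgroup G} {a y : G} (g : G) (ha : IsPart L a y) :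
    IsPart (L.map (MulAut.conj g).toMonoidHom) (g * a * g⁻¹) (g * y * g⁻¹) := by
  refine ⟨⟨a, ha.1, rfl⟩, ?_⟩
  rintro _ ⟨l, hl, rfl⟩
  have := (ha.2 l hl).map (MulAut.conj g).toMonoidHom
  simpa [mul_assoc] using this

theorem commute_of_bot {L K : Subgroup G} (h : ⁅L, K⁆ = ⊥) {l k : G} (hl : l ∈ L) (hk : k ∈ K) :
    Commute l k := (Components.commutator_eq_bot_iff_forall.1 h l hl k hk)

/-- No component centralizes the centre. -/
theorem ExData.component_not_fixed (h : ExData Q z) (hQ2 : IsPGroup 2 Q) {L : Subgroup G}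
    (hL : Cfsg.IsComponent L) : ¬ ∀ l ∈ L, Commute l z := by
  intro hLz
  haveI := Fact.mk Nat.prime_two
  haveI : Group.IsNilpotent Q := hQ2.isNilpotent
  have hn : L ≤ normalizer (Q : Set G) := by
    intro l hl
    refine mem_normalizer_iff.2 fun a => ⟨h.normal l (hLz l hl) a, fun ha => ?_⟩
    have := h.normal l⁻¹ (hLz l hl).inv_left _ ha
    rwa [show l⁻¹ * (l * a * l⁻¹) * l⁻¹⁻¹ = a by group] at this
  have hbot := Components.component_commute_solvable hL inferInstance hn
  refine Components.isQuasisimple_not_le_centralizer hL.2 fun l hl => ?_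
  rw [mem_centralizer_iff]
  intro m hm
  rcases h.self_centralizing l fun b hb => commute_of_bot hbot hl hb with rfl | rfl
  · rw [one_mul, mul_one]
  · exact (hLz m hm).eq

theorem ExData.normalClosure_le (h : ExData Q z)
    (hodd : ∀ K : Subgroup G, Odd (Nat.card K) → Q ≤ normalizer (K : Set G) → K = ⊥)
    {N : Subgroup G} [hN : N.Normal] (hNb : N ≠ ⊥) : normalClosure ({z} : Set G) ≤ N :=
  normalClosure_le_normal (Set.singleton_subset_iff.2 (h.mem_of_normal hodd hN hNb))

theorem fitting_eq_two (hodd : ∀ K : Subgroup G, Odd (Nat.card K) → Q ≤ normalizer (K : Set G) → K = ⊥) :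
    Cfsg.fittingSubgroup G = Cfsg.pCore 2 G := by
  haveI := Fact.mk Nat.prime_two
  refine Basics.fittingSubgroup_eq_pCore (hodd _ ?_ le_normalizer_of_normal)
  exact Nat.Coprime.odd_of_right (Basics.pPrimeCore_coprime 2)

theorem ExData.abelian_case (h : ExData Q z) (hQ2 : IsPGroup 2 Q)
    (hodd : ∀ K : Subgroup G, Odd (Nat.card K) → Q ≤ normalizer (K : Set G) → K = ⊥)
    (hF : Cfsg.fittingSubgroup G ≠ ⊥) :
    IsMulCommutative (normalClosure ({z} : Set G)) ∧
      Cfsg.generalizedFittingSubgroup G = Cfsg.pCore 2 G := by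
  haveI := Fact.mk Nat.prime_two
  rw [fitting_eq_two hodd] at hF
  set O := Cfsg.pCore 2 G with hO
  set Z := (center ↥O).map O.subtype with hZ
  haveI : Z.Normal := ConjAct.normal_of_characteristic_of_normal
  haveI : Nontrivial O := (nontrivial_iff_ne_bot O).2 hF
  haveI := (Basics.pCore_isPGroup (G := G) 2).center_nontrivial
  have hZb : Z ≠ ⊥ := by
    intro e
    rw [hZ, map_eq_bot_iff_of_injective _ O.subtype_injective] at e
    exact (nontrivial_iff_ne_bot _).1 inferInstance e
  have hMZ := h.normalClosure_le hodd hZb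
  refine ⟨⟨⟨fun a b => Subtype.ext ?_⟩⟩, ?_⟩
  · obtain ⟨a', ha', hae⟩ := hMZ a.2
    obtain ⟨b', -, hbe⟩ := hMZ b.2
    show (a : G) * b = b * a
    rw [← hae, ← hbe, ← map_mul, ← map_mul, mem_center_iff.1 ha' b']
  · have hE : Cfsg.layer G = ⊥ := Components.layer_eq_bot_iff.2 fun L hL => by
      haveI : Group.IsNilpotent O := (Basics.pCore_isPGroup 2).isNilpotent
      have hzO : z ∈ O := (map_subtype_le _) (hMZ (subset_normalClosure rfl))
      exact h.component_not_fixed hQ2 hL fun l hl =>
        commute_of_bot (Components.component_commute_normal_solvable hL inferInstance) hl hzO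
    rw [Cfsg.generalizedFittingSubgroup, hE, bot_sup_eq, fitting_eq_two hodd]

/-- The layer is a product of nonabelian simple components. -/
structure SemiSimple (G : Type u) [Group G] : Prop where
  fit : Cfsg.fittingSubgroup G = ⊥
  triv : ∀ c ∈ Cfsg.layer G, (∀ l ∈ Cfsg.layer G, Commute c l) → c = 1

theorem semiSimple_of_fitting (hF : Cfsg.fittingSubgroup G = ⊥) : SemiSimple G := by
  refine ⟨hF, fun c hc hcc => ?_⟩
  have := Components.layer_inf_centralizer_le_fitting (G := G)
    ⟨hc, mem_centralizer_iff.2 fun l hl => (hcc l hl).eq.symm⟩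
  rwa [hF, mem_bot] at this

theorem SemiSimple.center_trivial (s : SemiSimple G) {L : Subgroup G} (hL : Cfsg.IsComponent L) :
    ∀ c ∈ L, (∀ l ∈ L, Commute c l) → c = 1 := by
  intro c hc hcc
  refine s.triv c (Components.component_le_layer hL hc) fun l hl => ?_
  have hle : Cfsg.layer G ≤ centralizer ({c} : Set G) := Components.layer_le_iff.2 fun K hK k hk => by
    rw [mem_centralizer_singleton_iff]
    rcases Components.component_eq_or_commute hK hL with rfl | e
    · exact (hcc k hk).eq.symm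
    · exact (commute_of_bot e hk hc).eq
  exact (mem_centralizer_singleton_iff.1 (hle hl)).symm

theorem SemiSimple.isSimpleGroup (s : SemiSimple G) {L : Subgroup G} (hL : Cfsg.IsComponent L) :
    IsSimpleGroup L ∧ ¬ IsMulCommutative L := by
  have hb : center L = ⊥ := by
    rw [eq_bot_iff]
    intro c hc
    rw [mem_bot]
    exact Subtype.ext (s.center_trivial hL c c.2 fun l hl =>
      (congrArg Subtype.val (mem_center_iff.1 hc ⟨l, hl⟩)).symm)
  haveI := hL.2.2
  haveI : Nontrivial L := Components.qs_nontrivial hL.2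
  refine ⟨?_, Components.qs_not_isMulCommutative hL.2⟩
  exact IsSimpleGroup.isSimpleGroup_of_surjective
    ((QuotientGroup.quotientMulEquivOfEq hb).trans QuotientGroup.quotientBot).toMonoidHom
    (MulEquiv.surjective _)

theorem SemiSimple.exists_part (_s : SemiSimple G) {L : Subgroup G} (hL : Cfsg.IsComponent L)
    {y : G} (hy : y ∈ Cfsg.layer G) : ∃ a, IsPart L a y := by
  have hle : Cfsg.layer G ≤ L ⊔ centralizer (L : Set G) := Components.layer_le_iff.2 fun K hK => by
    rcases Components.component_eq_or_commute hK hL with rfl | e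
    · exact le_sup_left
    · exact le_sup_of_le_right (commutator_eq_bot_iff_le_centralizer.1 e)
  have hn : L ≤ normalizer (centralizer (L : Set G) : Set G) := by
    intro l hl
    refine mem_normalizer_iff.2 fun c => ⟨fun hc => ?_, fun hc => ?_⟩
    · rwa [mem_centralizer_iff.1 hc l hl, mul_inv_cancel_right]
    · have h1 := mem_centralizer_iff.1 hc l hl
      have : c = l * c * l⁻¹ := by
        calc c = l⁻¹ * ((l * c * l⁻¹) * l) := by group
          _ = l * c * l⁻¹ := by rw [← h1, inv_mul_cancel_left]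
      rwa [← this] at hc
  have := hle hy
  rw [← SetLike.mem_coe, coe_mul_of_left_le_normalizer_right _ _ hn] at this
  obtain ⟨a, ha, r, hr, rfl⟩ := Set.mem_mul.1 this
  exact ⟨a, IsPart.of_mem ha fun l hl => (mem_centralizer_iff.1 hr l hl).symm⟩

/-- The conclusion for two components. -/
theorem ExData.two_components (h : ExData Q z) (hQ2 : IsPGroup 2 Q) (s : SemiSimple G)
    (hz : z ∈ Cfsg.layer G) {L K₀ : Subgroup G} (hL : Cfsg.IsComponent L) (hK₀ : Cfsg.IsComponent K₀)
    (hne : K₀ ≠ L) :
    ∃ u ∈ Q, L ⊓ L.map (MulAut.conj u).toMonoidHom = ⊥ ∧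
      (∀ x ∈ L, ∀ y ∈ L.map (MulAut.conj u).toMonoidHom, x * y = y * x) ∧
      L ⊔ L.map (MulAut.conj u).toMonoidHom = Cfsg.layer G ∧
      ∃ z₁ ∈ L, z = z₁ * (u * z₁ * u⁻¹) ∧
        (∃ R : Sylow 2 ↥L, (R : Subgroup ↥L) = (centralizer ({z₁} : Set G)).subgroupOf L ∧
          (frattini ↥(R : Subgroup ↥L)).map ((L.subtype).comp (R : Subgroup ↥L).subtype) ≤
            zpowers z₁) ∧
        Q ≠ (Cfsg.pCore 2 ↥(centralizer ({z} : Set G))).map (centralizer ({z} : Set G)).subtype := by
  classical
  haveI := Fact.mk Nat.prime_two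
  obtain ⟨hLs, hLna⟩ := s.isSimpleGroup hL
  haveI := hLs
  have hLc := s.center_trivial hL
  obtain ⟨a, ha⟩ := s.exists_part hL hz
  set r := a⁻¹ * z with hr
  have hzar : z = a * r := by rw [hr, mul_inv_cancel_left]
  have hrc : ∀ l ∈ L, Commute r l := ha.2
  have ha1 : a ≠ 1 := fun e => h.component_not_fixed hQ2 hL fun l hl => by
    have := hrc l hl
    rw [hr, e, inv_one, one_mul] at this
    exact this.symm
  have haa : a * a = 1 := by
    refine IsPart.unique hLc (y := z * z) ?_ (h.mul_self ▸ IsPart.one L)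
    have : z * z = (a * a) * (r * r) := by
      rw [hzar]; exact (hrc a ha.1).mul_mul_mul_comm a r
    rw [this]
    exact IsPart.of_mem (mul_mem ha.1 ha.1) fun l hl => (hrc l hl).mul_left (hrc l hl)
  -- commuting with the centre is commuting with the part
  have hzl : ∀ l ∈ L, (Commute l z ↔ Commute l a) := fun l hl => by
    refine ⟨fun e => ?_, fun e => hzar ▸ e.mul_right (hrc l hl).symm⟩
    rw [show a = z * r⁻¹ by rw [hzar, mul_inv_cancel_right]]
    exact e.mul_right (hrc l hl).symm.inv_right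
  have hthird : ∃ x ∈ L, Commute x a ∧ x ≠ 1 ∧ x ≠ a := by
    obtain ⟨x, h1, h2, h3⟩ := exists_third_commute hLna (t := (⟨a, ha.1⟩ : L)) (Subtype.ext haa)
      fun e => ha1 (congrArg Subtype.val e)
    exact ⟨x, x.2, congrArg Subtype.val h1, fun e => h2 (Subtype.ext e), fun e => h3 (Subtype.ext e)⟩
  -- some member of `Q` moves `L`
  obtain ⟨u, hu, huL⟩ : ∃ u ∈ Q, L.map (MulAut.conj u).toMonoidHom ≠ L := by
    by_contra hno
    push Not at hno
    have hzL : z ∉ L := fun hzL => h.component_not_fixed hQ2 hK₀ fun k hk =>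
      commute_of_bot ((Components.component_eq_or_commute hK₀ hL).resolve_left hne) hk hzL
    have hLQ : ∀ c ∈ L, c ∈ Q → c = 1 := by
      intro c hcL hcQ
      by_contra hc1
      obtain ⟨b, hb, hcb⟩ := h.pair c hcQ hc1 fun e => hzL (e ▸ hcL)
      refine hzL ?_
      rw [← hcb, commutatorElement_def, show c * b * c⁻¹ * b⁻¹ = c * (b * c⁻¹ * b⁻¹) by group]
      refine mul_mem hcL ?_
      rw [← hno b hb]
      exact ⟨c⁻¹, inv_mem hcL, rfl⟩
    apply ha1
    refine (h.self_centralizing a fun b hb => ?_).resolve_right fun e => hzL (e ▸ ha.1)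
    have haz : Commute a z := (hzl a ha.1).2 (Commute.refl a)
    have h1 : a * b * a⁻¹ * b⁻¹ = 1 := hLQ _ (by
      rw [show a * b * a⁻¹ * b⁻¹ = a * (b * a⁻¹ * b⁻¹) by group]
      refine mul_mem ha.1 ?_
      rw [← hno b hb]
      exact ⟨a⁻¹, inv_mem ha.1, rfl⟩) (mul_mem (h.normal a haz b hb) (inv_mem hb))
    exact mul_inv_eq_iff_eq_mul.1 (mul_inv_eq_one.1 h1)
  set L' := L.map (MulAut.conj u).toMonoidHom with hL'
  have hL'c : Cfsg.IsComponent L' := Components.isComponent_conj u hL
  have hLL' : ⁅L, L'⁆ = ⊥ :=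
    (Components.component_eq_or_commute hL hL'c).resolve_left fun e => huL e.symm
  have hdis : L ⊓ L' = ⊥ := by
    rw [eq_bot_iff]
    exact fun c hc => mem_bot.2 (hLc c hc.1 fun l hl => (commute_of_bot hLL' hl hc.2).symm)
  have huz : u * z * u⁻¹ = z := by rw [(h.le_cent u hu).eq, mul_inv_cancel_right]
  have ha' : IsPart L' (u * a * u⁻¹) z := huz ▸ ha.conj u
  -- the commutator with `u`
  have hwQ : ∀ x ∈ L, Commute x z → x * (u * x⁻¹ * u⁻¹) ∈ Q := fun x _ hxz => by
    rw [show x * (u * x⁻¹ * u⁻¹) = x * u * x⁻¹ * u⁻¹ by group]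
    exact mul_mem (h.normal x hxz u hu) (inv_mem hu)
  have hw' : ∀ x ∈ L, ∀ l ∈ L, Commute (u * x * u⁻¹) l := fun x hx l hl =>
    (commute_of_bot hLL' hl ⟨x, hx, rfl⟩).symm
  have hsq : ∀ x ∈ L, Commute x z → x * x = 1 ∨ x * x = a := by
    intro x hx hxz
    set y := u * x⁻¹ * u⁻¹ with hy
    have hxy : Commute x y := (hw' x⁻¹ (inv_mem hx) x hx).symm
    have hp : IsPart L (x * x) (x * y * (x * y)) := by
      rw [hxy.symm.mul_mul_mul_comm x y]
      exact IsPart.of_mem (mul_mem hx hx) fun l hl =>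
        (hw' x⁻¹ (inv_mem hx) l hl).mul_left (hw' x⁻¹ (inv_mem hx) l hl)
    rcases h.sq _ (hwQ x hx hxz) with e | e <;> rw [e] at hp
    · exact Or.inl (hp.unique hLc (IsPart.one L))
    · exact Or.inr (hp.unique hLc ha)
  have hfour : ∀ x ∈ L, Commute x z → x ^ 4 = 1 := fun x hx hxz => by
    rw [show x ^ 4 = (x * x) * (x * x) by simp only [pow_succ, pow_zero, one_mul, mul_assoc]]
    rcases hsq x hx hxz with e | e <;> rw [e]
    exacts [one_mul 1, haa]
  obtain ⟨x, hxL, hxa, hx1, hxna⟩ := hthird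
  have hxz : Commute x z := (hzl x hxL).2 hxa
  -- there are only two components
  have honly : ∀ N, Cfsg.IsComponent N → N = L ∨ N = L' := by
    intro N hN
    by_contra hNo
    push Not at hNo
    set y := u * x⁻¹ * u⁻¹ with hy
    have hyL' : y ∈ L' := ⟨x⁻¹, inv_mem hxL, rfl⟩
    set w := x * y with hw
    have hwL : IsPart L x w := IsPart.of_mem hxL fun l hl => (commute_of_bot hLL' hl hyL').symm
    have hw1 : w ≠ 1 := fun e => hx1 (hwL.unique hLc (e ▸ IsPart.one L))
    have hwz : w ≠ z := fun e => hxna (hwL.unique hLc (e ▸ ha))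
    obtain ⟨v, hv, hwv⟩ := h.pair w (hwQ x hxL hxz) hw1 hwz
    rw [commutatorElement_def] at hwv
    set P₁ := L.map (MulAut.conj v).toMonoidHom
    set P₂ := L'.map (MulAut.conj v).toMonoidHom
    have hP₁ : Cfsg.IsComponent P₁ := Components.isComponent_conj v hL
    have hP₂ : Cfsg.IsComponent P₂ := Components.isComponent_conj v hL'c
    have hmove : ∀ C, Cfsg.IsComponent C → C ≠ P₁ → C ≠ P₂ →
        ∀ l ∈ C, Commute (v * w⁻¹ * v⁻¹) l := by
      intro C hC h1 h2 l hl
      rw [hw, show v * (x * y)⁻¹ * v⁻¹ = (v * y⁻¹ * v⁻¹) * (v * x⁻¹ * v⁻¹) by group]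
      refine Commute.mul_left ?_ ?_
      · exact commute_of_bot ((Components.component_eq_or_commute hP₂ hC).resolve_left h2.symm)
          ⟨y⁻¹, inv_mem hyL', rfl⟩ hl
      · exact commute_of_bot ((Components.component_eq_or_commute hP₁ hC).resolve_left h1.symm)
          ⟨x⁻¹, inv_mem hxL, rfl⟩ hl
    have hzw : z = w * (v * w⁻¹ * v⁻¹) := by rw [← hwv]; group
    have hN' : N = P₁ ∨ N = P₂ := by
      by_contra hc
      push Not at hc
      refine h.component_not_fixed hQ2 hN fun l hl => Commute.symm ?_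
      rw [hzw]
      refine Commute.mul_left (Commute.mul_left ?_ ?_) (hmove N hN hc.1 hc.2 l hl)
      · exact commute_of_bot ((Components.component_eq_or_commute hL hN).resolve_left hNo.1.symm) hxL hl
      · exact commute_of_bot ((Components.component_eq_or_commute hL'c hN).resolve_left hNo.2.symm) hyL' hl
    have hL1 : L = P₁ ∨ L = P₂ := by
      by_contra hc
      push Not at hc
      refine hxna (IsPart.unique hLc (y := z) ?_ ha)
      rw [hzw, hw, mul_assoc]
      exact IsPart.of_mem hxL fun l hl =>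
        ((commute_of_bot hLL' hl hyL').symm).mul_left (hmove L hL hc.1 hc.2 l hl)
    have hL2 : L' = P₁ ∨ L' = P₂ := by
      by_contra hc
      push Not at hc
      have hp : IsPart L' y z := by
        have hyx : w = y * x := hw.trans (commute_of_bot hLL' hxL hyL').eq
        rw [hzw]
        nth_rw 1 [hyx]
        rw [mul_assoc]
        exact IsPart.of_mem hyL' fun l hl =>
          (commute_of_bot hLL' hxL hl).mul_left (hmove L' hL'c hc.1 hc.2 l hl)
      have he := hp.unique (s.center_trivial hL'c) ha'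
      have : x⁻¹ = a := mul_left_cancel (mul_right_cancel he)
      exact hxna (by rw [← inv_inv x, this, inv_eq_of_mul_eq_one_right haa])
    rcases hN' with e | e <;> rcases hL1 with e₁ | e₁ <;> rcases hL2 with e₂ | e₂ <;>
      first
        | exact hNo.1 (e.trans e₁.symm)
        | exact hNo.2 (e.trans e₂.symm)
        | exact huL (e₂.trans e₁.symm)
  have hlayer : L ⊔ L' = Cfsg.layer G := by
    refine le_antisymm (sup_le (Components.component_le_layer hL) (Components.component_le_layer hL'c))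
      (Components.layer_le_iff.2 fun N hN => ?_)
    rcases honly N hN with rfl | rfl
    exacts [le_sup_left, le_sup_right]
  have hn' : L ≤ normalizer (L' : Set G) :=
    (Components.component_le_layer hL).trans (Components.layer_le_normalizer hL'c)
  have hsplit : ∀ e ∈ Cfsg.layer G, ∃ l ∈ L, ∃ m ∈ L', e = l * m := by
    intro e he
    rw [← hlayer, ← SetLike.mem_coe, coe_mul_of_left_le_normalizer_right _ _ hn'] at he
    obtain ⟨l, hl, m, hm, rfl⟩ := Set.mem_mul.1 he
    exact ⟨l, hl, m, hm, rfl⟩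
  have hzeq : z = a * (u * a * u⁻¹) := by
    obtain ⟨l, hl, m, hm, he⟩ := hsplit z hz
    have h1 : IsPart L l z := he ▸ IsPart.of_mem hl fun k hk => (commute_of_bot hLL' hk hm).symm
    have h2 : IsPart L' m z := by
      rw [he, (commute_of_bot hLL' hl hm).eq]
      exact IsPart.of_mem hm fun k hk => commute_of_bot hLL' hl hk
    rw [he, h1.unique hLc ha, h2.unique (s.center_trivial hL'c) ha']
  set R := (centralizer ({a} : Set G)).subgroupOf L with hR
  have hRmem : ∀ y : L, y ∈ R ↔ Commute (y : G) a := fun y => by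
    rw [hR, mem_subgroupOf, mem_centralizer_singleton_iff]; rfl
  have hR2 : IsPGroup 2 R := fun y => ⟨2, Subtype.ext (Subtype.ext (by
    simpa using hfour (y.1 : G) y.1.2 ((hzl _ y.1.2).2 ((hRmem y.1).1 y.2))))⟩
  have hRidx : ¬ 2 ∣ R.index := by
    intro hd
    obtain ⟨S, hS⟩ := hQ2.exists_le_sylow
    have hSz := (h.sylow_le S hS).1
    set E := Cfsg.layer G with hE
    have h1 : ¬ 2 ∣ ((S : Subgroup G) ⊓ E).relIndex E := Transfer.not_dvd_relIndex_normal S E
    let SE : Sylow 2 E := (S.2.comap_of_injective E.subtype E.subtype_injective).toSylow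
      (by rw [inf_relIndex_right] at h1; exact h1)
    haveI := Components.component_normal_in_layer hL
    have h2 : ¬ 2 ∣ ((SE : Subgroup E) ⊓ L.subgroupOf E).relIndex (L.subgroupOf E) :=
      Transfer.not_dvd_relIndex_normal SE (L.subgroupOf E)
    apply h2
    refine hd.trans ?_
    have hLE := Components.component_le_layer hL
    have hcoe : (SE : Subgroup E) ⊓ L.subgroupOf E = ((S : Subgroup G) ⊓ L).subgroupOf E := rfl
    rw [hcoe, relIndex_subgroupOf hLE]
    show (centralizer ({a} : Set G)).relIndex L ∣ _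
    rw [← inf_relIndex_right (centralizer ({a} : Set G))]
    refine relIndex_dvd_of_le_left L ?_
    intro y hy
    exact ⟨mem_centralizer_singleton_iff.2
      ((hzl y hy.2).1 (mem_centralizer_singleton_iff.1 (hSz hy.1))).eq, hy.2⟩
  refine ⟨u, hu, hdis, fun p hp q hq => (commute_of_bot hLL' hp hq).eq, hlayer, a, ha.1, hzeq,
    ⟨hR2.toSylow hRidx, rfl, ?_⟩, ?_⟩
  · have hsqR : ∀ y : L, y ∈ R → y * y ∈ (zpowers a).subgroupOf L := fun y hy => by
      rw [mem_subgroupOf, Subgroup.coe_mul]
      rcases hsq (y : G) y.2 ((hzl _ y.2).2 ((hRmem y).1 hy)) with e | e <;> rw [e]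
      exacts [one_mem _, mem_zpowers a]
    have := LocalEvenA.map_frattini_le_of (p := 2) (P := R) (C := (zpowers a).subgroupOf L)
      (Subgroup.commutator_le.2 fun p hp q hq => ?_) fun y hy => by rw [pow_two]; exact hsqR y hy
    · show (frattini ↥R).map ((L.subtype).comp R.subtype) ≤ _
      rw [← map_map, map_le_iff_le_comap]
      exact this
    · rw [commutatorElement_def, show p * q * p⁻¹ * q⁻¹ =
        (p * p) * ((p⁻¹ * q) * (p⁻¹ * q)) * (q⁻¹ * q⁻¹) by group]
      exact mul_mem (mul_mem (hsqR p hp) (hsqR _ (mul_mem (inv_mem hp) hq))) (hsqR _ (inv_mem hq))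
  · intro hQO
    set C := centralizer ({z} : Set G) with hC
    set CE := (Cfsg.layer G).subgroupOf C with hCE
    haveI : CE.Normal := normal_subgroupOf
    have hCE2 : IsPGroup 2 CE := by
      rintro ⟨⟨e, heC⟩, heE⟩
      refine ⟨2, Subtype.ext (Subtype.ext ?_)⟩
      show e ^ 4 = 1
      obtain ⟨l, hl, m, hm, rfl⟩ := hsplit e heE
      have hez : Commute (l * m) z := mem_centralizer_singleton_iff.1 heC
      have hzconj : ∀ {N : Subgroup G}, Cfsg.IsComponent N → ∀ k ∈ N, z * k * z⁻¹ ∈ N :=
        fun hN k hk => (mem_normalizer_iff.1 (Components.layer_le_normalizer hN hz) k).1 hk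
      have heq : (z * l * z⁻¹) * (z * m * z⁻¹) = l * m := by
        calc (z * l * z⁻¹) * (z * m * z⁻¹) = z * (l * m) * z⁻¹ := by group
          _ = l * m := by rw [← hez.eq, mul_inv_cancel_right]
      have e1 : z * l * z⁻¹ = l := by
        have p1 : IsPart L (z * l * z⁻¹) (l * m) := heq ▸ IsPart.of_mem (hzconj hL l hl)
          fun k hk => (commute_of_bot hLL' hk (hzconj hL'c m hm)).symm
        exact p1.unique hLc (IsPart.of_mem hl fun k hk => (commute_of_bot hLL' hk hm).symm)
      have e2 : z * m * z⁻¹ = m := by rw [e1] at heq; exact mul_left_cancel heq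
      rw [(commute_of_bot hLL' hl hm).mul_pow,
        hfour l hl (mul_inv_eq_iff_eq_mul.1 e1).symm, one_mul]
      obtain ⟨m', hm', rfl⟩ := hm
      change z * (u * m' * u⁻¹) * z⁻¹ = u * m' * u⁻¹ at e2
      show (u * m' * u⁻¹) ^ 4 = 1
      rw [conj_pow, hfour m' hm', mul_one, mul_inv_cancel]
      show Commute m' z
      have h3 : Commute (u * m' * u⁻¹) (u * z * u⁻¹) :=
        huz.symm ▸ (mul_inv_eq_iff_eq_mul.1 e2).symm
      simpa [mul_assoc] using h3.map (MulAut.conj u⁻¹).toMonoidHom
    have hxQ : x ∈ Q := by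
      rw [hQO]
      exact ⟨⟨x, mem_centralizer_singleton_iff.2 hxz.eq⟩,
        Basics.le_pCore hCE2 (show (⟨x, _⟩ : C) ∈ CE from Components.component_le_layer hL hxL), rfl⟩
    have hp : IsPart L x (x * u * x⁻¹ * u⁻¹) := by
      rw [show x * u * x⁻¹ * u⁻¹ = x * (u * x⁻¹ * u⁻¹) by group]
      exact IsPart.of_mem hxL (hw' x⁻¹ (inv_mem hxL))
    rcases h.comm x hxQ u hu with e | e <;> rw [commutatorElement_def] at e <;> rw [e] at hp
    · exact hx1 (hp.unique hLc (IsPart.one L))
    · exact hxna (hp.unique hLc ha)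

/-- The four possibilities. -/
theorem ExData.structure_thm (h : ExData Q z) (hQ2 : IsPGroup 2 Q)
    (hodd : ∀ K : Subgroup G, Odd (Nat.card K) → Q ≤ normalizer (K : Set G) → K = ⊥) :
    (IsMulCommutative (normalClosure ({z} : Set G)) ∧
      Cfsg.generalizedFittingSubgroup G = Cfsg.pCore 2 G) ∨
    (normalClosure ({z} : Set G) = Cfsg.generalizedFittingSubgroup G ∧
      ((IsSimpleGroup ↥(normalClosure ({z} : Set G)) ∧
          ¬ IsMulCommutative ↥(normalClosure ({z} : Set G))) ∨
        ∃ (L : Subgroup G) (u : G), u ∈ Q ∧ IsSimpleGroup ↥L ∧ ¬ IsMulCommutative ↥L ∧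
          L ⊓ L.map (MulAut.conj u).toMonoidHom = ⊥ ∧
          (∀ x ∈ L, ∀ y ∈ L.map (MulAut.conj u).toMonoidHom, x * y = y * x) ∧
          L ⊔ L.map (MulAut.conj u).toMonoidHom = normalClosure ({z} : Set G) ∧
          ∃ z₁ ∈ L, z = z₁ * (u * z₁ * u⁻¹) ∧
            (∃ R : Sylow 2 ↥L, (R : Subgroup ↥L) = (centralizer ({z₁} : Set G)).subgroupOf L ∧
              (frattini ↥(R : Subgroup ↥L)).map ((L.subtype).comp (R : Subgroup ↥L).subtype) ≤
                zpowers z₁) ∧
            Q ≠ (Cfsg.pCore 2 ↥(centralizer ({z} : Set G))).map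
              (centralizer ({z} : Set G)).subtype)) := by
  by_cases hF : Cfsg.fittingSubgroup G = ⊥
  · right
    have s := semiSimple_of_fitting hF
    have hFs : Cfsg.generalizedFittingSubgroup G = Cfsg.layer G := by
      rw [Cfsg.generalizedFittingSubgroup, hF, sup_bot_eq]
    obtain ⟨L, hL⟩ : ∃ L : Subgroup G, Cfsg.IsComponent L := by
      by_contra hno
      push Not at hno
      have hb := Components.centralizer_fStar_le (G := G)
      rw [hFs, Components.layer_eq_bot_iff.2 hno] at hb
      exact h.ne_one (mem_bot.1 (hb (mem_centralizer_iff.2 fun g hg => by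
        rw [mem_bot.1 hg, one_mul, mul_one])))
    have hEb : Cfsg.layer G ≠ ⊥ := fun e =>
      Components.isComponent_ne_bot hL (le_bot_iff.1 (e ▸ Components.component_le_layer hL))
    have hz : z ∈ Cfsg.layer G := h.normalClosure_le hodd hEb (subset_normalClosure rfl)
    have hM : normalClosure ({z} : Set G) = Cfsg.layer G := by
      refine le_antisymm (h.normalClosure_le hodd hEb) (Components.layer_le_iff.2 fun N hN => ?_)
      rcases Components.component_le_or_commute hN
        (Components.isSubnormal_of_normal (normalClosure ({z} : Set G))) with e | e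
      · exact e
      · exact absurd (fun l hl => commute_of_bot e hl (subset_normalClosure rfl))
          (h.component_not_fixed hQ2 hN)
    refine ⟨hM.trans hFs.symm, ?_⟩
    by_cases hone : ∀ N, Cfsg.IsComponent N → N = L
    · left
      have hML : normalClosure ({z} : Set G) = L := hM.trans (le_antisymm
        (Components.layer_le_iff.2 fun N hN => (hone N hN).le) (Components.component_le_layer hL))
      rw [hML]
      exact s.isSimpleGroup hL
    · right
      push Not at hone
      obtain ⟨K₀, hK₀, hne⟩ := hone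
      obtain ⟨u, hu, rest⟩ := h.two_components hQ2 s hz hL hK₀ hne
      rw [hM]
      exact ⟨L, u, hu, (s.isSimpleGroup hL).1, (s.isSimpleGroup hL).2, rest⟩
  · exact Or.inl (h.abelian_case hQ2 hodd hF)

end Cfsg.Agent.BigExtra
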