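import Mathlib
import Cfsg.Prelude.Def_Classical
import Cfsg.Prelude.Def_KGroupFacts

/-!
# Outer automorphisms of a twisted elementary abelian 2-group
-/

set_option autoImplicit false
set_option linter.unusedSectionVars false

open scoped Matrix

namespace Cfsg.Agent.BigExtra

universe u

variable {E : Type u} [Group E] {ι : Type} [Fintype ι] [DecidableEq ι]

/-- Coordinates in which multiplication is twisted by a bilinear form with nondegenerate polar. -/
structure TwistModel (E : Type u) [Group E] (ι : Type) [Fintype ι] [DecidableEq ι] where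
  e : E ≃ (ι → ZMod 2) × ZMod 2
  B : Matrix ι ι (ZMod 2)
  e_mul : ∀ g h, e (g * h) = ((e g).1 + (e h).1, (e g).2 + (e h).2 + (e g).1 ⬝ᵥ B *ᵥ (e h).1)
  polar_sq : (B + Bᵀ) * (B + Bᵀ) = 1

namespace TwistModel

variable (M : TwistModel E ι)

/-- The quadratic form. -/
def form (v : ι → ZMod 2) : ZMod 2 := v ⬝ᵥ M.B *ᵥ v

theorem funAdd (v : ι → ZMod 2) : v + v = 0 := funext fun _ => CharTwo.add_self_eq_zero _

theorem e_one : M.e 1 = (0, 0) := by
  have h := M.e_mul 1 1
  rw [mul_one] at h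
  have h1 : (M.e 1).1 = 0 := by
    have := congrArg Prod.fst h
    exact left_eq_add.1 this
  have h2 := congrArg Prod.snd h
  simp only [h1, Matrix.mulVec_zero, dotProduct_zero, add_zero] at h2
  exact Prod.ext h1 (left_eq_add.1 h2)

/-- Sections. -/
def lift (v : ι → ZMod 2) : E := M.e.symm (v, 0)

/-- The central elements. -/
def cen (c : ZMod 2) : E := M.e.symm (0, c)

theorem e_lift (v : ι → ZMod 2) : M.e (M.lift v) = (v, 0) := M.e.apply_symm_apply _

theorem e_cen (c : ZMod 2) : M.e (M.cen c) = (0, c) := M.e.apply_symm_apply _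

theorem eq_lift_mul (g : E) : g = M.lift (M.e g).1 * M.cen (M.e g).2 := M.e.injective (by
  rw [M.e_mul, e_lift, e_cen]; simp)

theorem dot_swap (u v : ι → ZMod 2) (A : Matrix ι ι (ZMod 2)) : u ⬝ᵥ Aᵀ *ᵥ v = v ⬝ᵥ A *ᵥ u := by
  rw [Matrix.mulVec_transpose, dotProduct_comm, ← Matrix.dotProduct_mulVec]

theorem central_iff (g : E) : (∀ h, g * h = h * g) ↔ (M.e g).1 = 0 := by
  constructor
  · intro hg
    set v := (M.e g).1
    have h1 : ∀ u, u ⬝ᵥ (M.B + M.Bᵀ) *ᵥ v = 0 := by
      intro u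
      have h := congrArg (fun x => (M.e x).2) (hg (M.lift u))
      simp only [M.e_mul, e_lift, add_zero, zero_add] at h
      rw [Matrix.add_mulVec, dotProduct_add, dot_swap, add_left_cancel h, CharTwo.add_self_eq_zero]
    have h2 : (M.B + M.Bᵀ) *ᵥ v = 0 := funext fun i => by
      have := h1 (Pi.single i 1)
      rwa [single_one_dotProduct] at this
    have h3 := congrArg ((M.B + M.Bᵀ) *ᵥ ·) h2
    simp only [Matrix.mulVec_mulVec, M.polar_sq, Matrix.one_mulVec, Matrix.mulVec_zero] at h3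
    exact h3
  · intro hv h
    refine M.e.injective ?_
    rw [M.e_mul, M.e_mul, hv, zero_dotProduct, Matrix.mulVec_zero, dotProduct_zero]
    simp [add_comm]

theorem aut_fst_zero (φ : MulAut E) {g : E} (hg : (M.e g).1 = 0) : (M.e (φ g)).1 = 0 := by
  rw [← central_iff] at hg ⊢
  intro h
  have := congrArg φ (hg (φ.symm h))
  simpa using this

theorem aut_cen (φ : MulAut E) (c : ZMod 2) : φ (M.cen c) = M.cen c := by
  have h1 := M.aut_fst_zero φ (g := M.cen c) (by rw [e_cen])
  refine M.e.injective (Prod.ext (by rw [h1, e_cen]) ?_)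
  rw [e_cen]
  rcases (show ∀ c : ZMod 2, c = 0 ∨ c = 1 by decide) c with rfl | rfl
  · have : M.cen 0 = 1 := M.e.injective (by rw [e_cen, e_one])
    rw [this, map_one, e_one]
  · by_contra hne
    have h0 : (M.e (φ (M.cen 1))).2 = 0 :=
      (show ∀ d : ZMod 2, d ≠ 1 → d = 0 by decide) _ hne
    have h2 : φ (M.cen 1) = 1 := M.e.injective (by rw [e_one]; exact Prod.ext h1 h0)
    have h3 := congrArg (fun g => (M.e g).2) (φ.injective (h2.trans (map_one φ).symm))
    simp [e_cen, e_one] at h3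

theorem aut_fst (φ : MulAut E) (g : E) : (M.e (φ g)).1 = (M.e (φ (M.lift (M.e g).1))).1 := by
  conv_lhs => rw [M.eq_lift_mul g, map_mul, aut_cen, M.e_mul, e_cen]
  simp

/-- The induced linear map. -/
def lin (φ : MulAut E) : (ι → ZMod 2) →ₗ[ZMod 2] (ι → ZMod 2) :=
  AddMonoidHom.toZModLinearMap 2
    (AddMonoidHom.mk' (fun v => (M.e (φ (M.lift v))).1) fun u v => by
      have h := M.aut_fst φ (M.lift u * M.lift v)
      rw [map_mul, M.e_mul, M.e_mul, e_lift, e_lift] at h
      exact h.symm)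

theorem lin_apply (φ : MulAut E) (v : ι → ZMod 2) : M.lin φ v = (M.e (φ (M.lift v))).1 := rfl

theorem lin_e (φ : MulAut E) (g : E) : M.lin φ (M.e g).1 = (M.e (φ g)).1 := (M.aut_fst φ g).symm

/-- The matrix representation. -/
def toMat : MulAut E →* Matrix ι ι (ZMod 2) where
  toFun φ := LinearMap.toMatrix' (M.lin φ)
  map_one' := by
    rw [← LinearMap.toMatrix'_one]
    congr 1
    refine LinearMap.ext fun v => ?_
    rw [lin_apply]
    show (M.e (M.lift v)).1 = v
    rw [e_lift]
  map_mul' φ ψ := by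
    rw [← LinearMap.toMatrix'_mul]
    congr 1
    refine LinearMap.ext fun v => ?_
    rw [Module.End.mul_apply, lin_apply M ψ, lin_e]
    rfl

theorem toMat_mulVec (φ : MulAut E) (v : ι → ZMod 2) : M.toMat φ *ᵥ v = M.lin φ v :=
  LinearMap.toMatrix'_mulVec _ _

theorem form_lin (φ : MulAut E) (v : ι → ZMod 2) : M.form (M.lin φ v) = M.form v := by
  have h1 : M.lift v * M.lift v = M.cen (M.form v) := M.e.injective (by
    rw [M.e_mul, e_lift, e_cen, funAdd]; simp [form])
  have h2 := congrArg (fun g => (M.e g).2) ((map_mul φ _ _).symm.trans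
    ((congrArg φ h1).trans (M.aut_cen φ _)))
  simp only [M.e_mul, e_cen, CharTwo.add_self_eq_zero, zero_add] at h2
  rw [← h2, lin_apply, form]

/-- The representation into the isometry group. -/
def rep : MulAut E →* Cfsg.isometryGroup (ZMod 2) M.form :=
  M.toMat.toHomUnits.codRestrict _ fun φ => by
    intro u v
    show M.form (M.toMat φ *ᵥ u) = M.form u
    rw [toMat_mulVec]
    exact M.form_lin φ u

theorem rep_ker : M.rep.ker = Cfsg.Inn E := by
  refine le_antisymm (fun φ hφ => ?_) ?_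
  · have hm : M.toMat φ = 1 := congrArg (fun x : Cfsg.isometryGroup (ZMod 2) M.form =>
      ((x : (Matrix ι ι (ZMod 2))ˣ) : Matrix ι ι (ZMod 2))) hφ
    have hf : ∀ v, M.lin φ v = v := fun v => by rw [← toMat_mulVec, hm, Matrix.one_mulVec]
    have hval : ∀ g : E, M.e (φ g) = ((M.e g).1, (M.e g).2 + (M.e (φ (M.lift (M.e g).1))).2) := by
      intro g
      conv_lhs => rw [M.eq_lift_mul g, map_mul, aut_cen, M.e_mul, e_cen]
      simp [← lin_apply, hf, add_comm]
    let lam : (ι → ZMod 2) →ₗ[ZMod 2] ZMod 2 := AddMonoidHom.toZModLinearMap 2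
      (AddMonoidHom.mk' (fun v => (M.e (φ (M.lift v))).2) fun u v => by
        have h := congrArg Prod.snd (hval (M.lift u * M.lift v))
        rw [map_mul, M.e_mul, M.e_mul] at h
        simp only [e_lift, zero_add, ← lin_apply, hf] at h
        refine (add_left_cancel (a := u ⬝ᵥ M.B *ᵥ v) ?_).symm
        rw [← h, add_comm])
    let l : ι → ZMod 2 := fun i => lam (Pi.single i 1)
    have hl : ∀ v, lam v = l ⬝ᵥ v := by
      intro v
      conv_lhs => rw [← Finset.univ_sum_single v, map_sum]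
      refine Finset.sum_congr rfl fun i _ => ?_
      rw [show Pi.single i (v i) = v i • (Pi.single i 1 : ι → ZMod 2) by
        rw [← Pi.single_smul, smul_eq_mul, mul_one], map_smul, smul_eq_mul, mul_comm]
    refine ⟨M.lift ((M.B + M.Bᵀ) *ᵥ l), ?_⟩
    set w := (M.B + M.Bᵀ) *ᵥ l with hw
    refine MulEquiv.ext fun g => ?_
    show M.lift w * g * (M.lift w)⁻¹ = φ g
    rw [mul_inv_eq_iff_eq_mul]
    refine M.e.injective ?_
    rw [M.e_mul, M.e_mul, e_lift, hval]
    refine Prod.ext (add_comm _ _) ?_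
    simp only [add_zero, zero_add]
    show (M.e g).2 + w ⬝ᵥ M.B *ᵥ (M.e g).1 = (M.e g).2 + lam (M.e g).1 + (M.e g).1 ⬝ᵥ M.B *ᵥ w
    rw [hl, add_assoc]
    congr 1
    have h3 : l ⬝ᵥ (M.e g).1 = (M.e g).1 ⬝ᵥ (M.B + M.Bᵀ) *ᵥ w := by
      rw [hw, Matrix.mulVec_mulVec, M.polar_sq, Matrix.one_mulVec, dotProduct_comm]
    rw [h3, Matrix.add_mulVec, dotProduct_add, dot_swap, add_right_comm,
      CharTwo.add_self_eq_zero, zero_add]
  · rintro _ ⟨g, rfl⟩
    refine Subtype.ext (Units.ext ?_)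
    show LinearMap.toMatrix' (M.lin (MulAut.conj g)) = 1
    rw [← LinearMap.toMatrix'_one]
    congr 1
    refine LinearMap.ext fun v => ?_
    rw [lin_apply]
    show (M.e (g * M.lift v * g⁻¹)).1 = v
    have h1 := congrArg Prod.fst (M.e_mul g g⁻¹)
    rw [mul_inv_cancel, e_one] at h1
    simp only [M.e_mul, e_lift]
    simp only at h1
    rw [add_right_comm, ← h1, zero_add]

theorem rep_surjective : Function.Surjective M.rep := by
  rintro ⟨u, hu⟩
  set A := (u : Matrix ι ι (ZMod 2))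
  have hA : ∀ v, M.form (A *ᵥ v) = M.form v := fun v => hu v v
  set Γ := Aᵀ * M.B * A + M.B with hΓ
  have hγ : ∀ v w, v ⬝ᵥ Γ *ᵥ w = (A *ᵥ v) ⬝ᵥ M.B *ᵥ (A *ᵥ w) + v ⬝ᵥ M.B *ᵥ w := by
    intro v w
    rw [hΓ, Matrix.add_mulVec, dotProduct_add, ← Matrix.mulVec_mulVec, ← Matrix.mulVec_mulVec,
      Matrix.dotProduct_mulVec v Aᵀ, Matrix.vecMul_transpose]
  have halt : ∀ v, v ⬝ᵥ Γ *ᵥ v = 0 := fun v => by
    rw [hγ, ← form, hA, form, CharTwo.add_self_eq_zero]
  have hdiag : ∀ i, Γ i i = 0 := fun i => by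
    simpa [Matrix.mulVec_single_one, single_one_dotProduct] using halt (Pi.single i 1)
  have hsymm : ∀ i j, Γ j i = Γ i j := fun i j => by
    have h := halt (Pi.single i 1 + Pi.single j 1)
    simp only [Matrix.mulVec_add, dotProduct_add, add_dotProduct, Matrix.mulVec_single_one,
      single_one_dotProduct, Matrix.col_apply, hdiag, zero_add, add_zero] at h
    exact CharTwo.add_eq_zero.1 h
  let r := Fintype.equivFin ι
  let μ : (ι → ZMod 2) → ZMod 2 := fun v =>
    ∑ i, ∑ j, if r i < r j then Γ i j * v i * v j else 0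
  have hμ : ∀ v w, μ (v + w) = μ v + μ w + v ⬝ᵥ Γ *ᵥ w := by
    intro v w
    have e1 : μ (v + w) = μ v + μ w +
        ((∑ i, ∑ j, if r i < r j then Γ i j * v i * w j else 0) +
          ∑ i, ∑ j, if r i < r j then Γ i j * w i * v j else 0) := by
      simp only [μ, ← Finset.sum_add_distrib]
      refine Finset.sum_congr rfl fun i _ => Finset.sum_congr rfl fun j _ => ?_
      simp only [Pi.add_apply]
      split_ifs <;> ring
    rw [e1, Finset.sum_comm (f := fun i j => if r i < r j then Γ i j * w i * v j else 0),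
      ← Finset.sum_add_distrib]
    congr 1
    simp only [dotProduct, Matrix.mulVec, Finset.mul_sum, ← Finset.sum_add_distrib]
    refine Finset.sum_congr rfl fun i _ => Finset.sum_congr rfl fun j _ => ?_
    rcases lt_trichotomy (r i) (r j) with h | h | h
    · rw [if_pos h, if_neg (not_lt.2 h.le)]; ring
    · rw [r.injective h, hdiag]; simp
    · rw [if_neg (not_lt.2 h.le), if_pos h, hsymm i j]; ring
  let f : E → E := fun g => M.e.symm (A *ᵥ (M.e g).1, (M.e g).2 + μ (M.e g).1)
  have hf : ∀ g h, f (g * h) = f g * f h := by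
    intro g h
    refine M.e.injective ?_
    simp only [f, Equiv.apply_symm_apply, M.e_mul, Matrix.mulVec_add, hμ, hγ]
    refine Prod.ext rfl ?_
    generalize (M.e g).2 = a
    generalize (M.e h).2 = b
    generalize μ (M.e g).1 = c
    generalize μ (M.e h).1 = d
    generalize (M.e g).1 ⬝ᵥ M.B *ᵥ (M.e h).1 = x
    generalize (A *ᵥ (M.e g).1) ⬝ᵥ M.B *ᵥ (A *ᵥ (M.e h).1) = y
    linear_combination CharTwo.add_self_eq_zero x
  have hinv : (u⁻¹ : (Matrix ι ι (ZMod 2))ˣ).1 * A = 1 := u.inv_mul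
  have hinj : Function.Injective f := by
    intro g h e
    have e' := M.e.symm.injective e
    have h1 : (M.e g).1 = (M.e h).1 := by
      have := congrArg ((u⁻¹ : (Matrix ι ι (ZMod 2))ˣ).1 *ᵥ ·) (congrArg Prod.fst e')
      simpa only [Matrix.mulVec_mulVec, hinv, Matrix.one_mulVec] using this
    exact M.e.injective (Prod.ext h1 (by simpa [h1] using congrArg Prod.snd e'))
  haveI : Finite E := Finite.of_equiv _ M.e.symm
  refine ⟨MulEquiv.ofBijective (MonoidHom.mk' f hf) (Finite.injective_iff_bijective.1 hinj), ?_⟩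
  refine Subtype.ext (Units.ext ?_)
  show LinearMap.toMatrix' (M.lin _) = A
  rw [← LinearMap.toMatrix'_toLin' A]
  congr 1
  refine LinearMap.ext fun v => ?_
  rw [lin_apply]
  show (M.e (f (M.lift v))).1 = _
  simp [f, e_lift]

theorem out_iso : Nonempty (Cfsg.Out E ≃* Cfsg.isometryGroup (ZMod 2) M.form) :=
  ⟨(QuotientGroup.quotientMulEquivOfEq M.rep_ker.symm).trans
    (QuotientGroup.quotientKerEquivOfSurjective M.rep M.rep_surjective)⟩

end TwistModel

end Cfsg.Agent.BigExtra
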