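import Cfsg.Agent.Lib.BigExtra.Symm
import Cfsg.Prelude.Def_MonsterType

/-!
# Two orthogonal conjugates of the centre of a normalized extraspecial subgroup
-/

set_option autoImplicit false
set_option linter.unusedSectionVars false

open scoped commutatorElement

namespace Cfsg.Agent.BigExtra

open Subgroup

universe u

variable {G : Type u} [Group G] [Finite G]

/-- A self-centralizing extraspecial subgroup normalized by the centralizer of its centre. -/
structure ExData (Q : Subgroup G) (z : G) : Prop where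
  ord : orderOf z = 2
  mem : z ∈ Q
  le_cent : ∀ a ∈ Q, Commute a z
  normal : ∀ c : G, Commute c z → ∀ a ∈ Q, c * a * c⁻¹ ∈ Q
  sq : ∀ a ∈ Q, a * a = 1 ∨ a * a = z
  comm : ∀ a ∈ Q, ∀ b ∈ Q, ⁅a, b⁆ = 1 ∨ ⁅a, b⁆ = z
  pair : ∀ a ∈ Q, a ≠ 1 → a ≠ z → ∃ b ∈ Q, ⁅a, b⁆ = z
  self_centralizing : ∀ a : G, (∀ b ∈ Q, Commute a b) → a = 1 ∨ a = z

theorem ExData.mul_self {Q : Subgroup G} {z : G} (h : ExData Q z) : z * z = 1 := by
  rw [← _root_.sq, ← h.ord, pow_orderOf_eq_one]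

theorem ExData.inv_eq {Q : Subgroup G} {z : G} (h : ExData Q z) : z⁻¹ = z :=
  inv_eq_of_mul_eq_one_right h.mul_self

theorem ExData.ne_one {Q : Subgroup G} {z : G} (h : ExData Q z) : z ≠ 1 := fun e => by
  have := h.ord
  rw [e, orderOf_one] at this
  omega

theorem exData_of_center {Q : Subgroup G} {z : G} (hE : Cfsg.IsExtraspecial 2 ↥Q)
    (hz : (center ↥Q).map Q.subtype = zpowers z)
    (hC : centralizer (Q : Set G) = (center ↥Q).map Q.subtype)
    (hN : centralizer (((center ↥Q).map Q.subtype : Subgroup G) : Set G) ≤ normalizer (Q : Set G)) :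
    ExData Q z := by
  haveI := Fact.mk Nat.prime_two
  obtain ⟨w, hw⟩ := Invol.ExtraPairs.pre_of_extraspecial hE
  have hz' : zpowers (w : G) = zpowers z := by
    rw [← hz, hw.center_eq, MonoidHom.map_zpowers]; rfl
  have hord : orderOf z = 2 := by
    rw [← Nat.card_zpowers, ← hz', Nat.card_zpowers, Subgroup.orderOf_coe, hw.ordz]
  have hzz : z * z = 1 := by rw [← _root_.sq, ← hord, pow_orderOf_eq_one]
  have htwo : ∀ t ∈ zpowers z, t = 1 ∨ t = z := fun t ht => by
    obtain ⟨k, rfl⟩ := mem_zpowers_iff.1 ht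
    rw [← zpow_mod_orderOf, hord]
    rcases Int.emod_two_eq_zero_or_one k with e | e <;> simp [e]
  have hwz : (w : G) = z := (htwo _ (hz' ▸ mem_zpowers (w : G))).resolve_left fun e => by
    have := hw.ordz
    rw [show w = 1 from Subtype.ext e, orderOf_one] at this
    omega
  have hsub : ∀ t : Q, t ∈ zpowers w → (t : G) = 1 ∨ (t : G) = z := fun t ht => by
    obtain ⟨k, rfl⟩ := mem_zpowers_iff.1 ht
    exact htwo _ ⟨k, by simp only [SubgroupClass.coe_zpow, hwz]⟩
  refine ⟨hord, hwz ▸ w.2, fun a ha => ?_, fun c hc a ha => ?_, fun a ha => ?_, fun a ha b hb => ?_,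
    fun a ha h1 hne => ?_, fun a h => htwo a (hz ▸ hC ▸ mem_centralizer_iff.2 fun b hb => (h b hb).eq.symm)⟩
  · have := (hw.zcomm ⟨a, ha⟩).map Q.subtype
    rwa [show Q.subtype w = z from hwz] at this
  · refine (mem_normalizer_iff.1 (hN ?_) a).1 ha
    rw [hz, mem_centralizer_iff]
    rintro _ ⟨k, rfl⟩
    exact (hc.symm.zpow_left k).eq
  · have := hsub _ (hw.pow_mem ⟨a, ha⟩)
    rwa [SubmonoidClass.coe_pow, sq] at this
  · simpa [commutatorElement_def] using hsub _ (hw.comm_mem ⟨a, ha⟩ ⟨b, hb⟩)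
  · obtain ⟨y, hy⟩ := hw.exists_pair (x := ⟨a, ha⟩) fun h => by
      rw [hw.center_eq] at h
      exact (hsub _ h).elim h1 hne
    exact ⟨y, y.2, (show ⁅a, (y : G)⁆ = (w : G) by
      simpa [commutatorElement_def] using congrArg Subtype.val hy).trans hwz⟩

theorem ExData.conj {Q : Subgroup G} {z : G} (h : ExData Q z) (g : G) :
    ExData (Q.map (MulAut.conj g).toMonoidHom) (g * z * g⁻¹) := by
  have ecomm : ∀ a b : G, g * ⁅a, b⁆ * g⁻¹ = ⁅g * a * g⁻¹, g * b * g⁻¹⁆ := fun a b => by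
    simp only [commutatorElement_def]; group
  refine ⟨((MulAut.conj g).orderOf_eq z).trans h.ord, ⟨z, h.mem, rfl⟩, ?_, ?_, ?_, ?_, ?_, ?_⟩
  · rintro _ ⟨a, ha, rfl⟩
    exact (h.le_cent a ha).map (MulAut.conj g).toMonoidHom
  · rintro c hc _ ⟨a, ha, rfl⟩
    have hc' := hc.map (MulAut.conj g⁻¹).toMonoidHom
    refine ⟨_, h.normal (g⁻¹ * c * g) (by simpa [mul_assoc] using hc') a ha, ?_⟩
    show g * (g⁻¹ * c * g * a * (g⁻¹ * c * g)⁻¹) * g⁻¹ = c * (g * a * g⁻¹) * c⁻¹
    group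
  · rintro _ ⟨a, ha, rfl⟩
    show (g * a * g⁻¹) * (g * a * g⁻¹) = 1 ∨ (g * a * g⁻¹) * (g * a * g⁻¹) = g * z * g⁻¹
    rw [show (g * a * g⁻¹) * (g * a * g⁻¹) = g * (a * a) * g⁻¹ by group]
    rcases h.sq a ha with e | e <;> rw [e]
    · left; group
    · exact .inr rfl
  · rintro _ ⟨a, ha, rfl⟩ _ ⟨b, hb, rfl⟩
    show ⁅g * a * g⁻¹, g * b * g⁻¹⁆ = 1 ∨ ⁅g * a * g⁻¹, g * b * g⁻¹⁆ = g * z * g⁻¹
    rw [← ecomm]
    rcases h.comm a ha b hb with e | e <;> rw [e]
    · left; group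
    · exact .inr rfl
  · rintro _ ⟨a, ha, rfl⟩ h1 hne
    obtain ⟨b, hb, hab⟩ := h.pair a ha (fun e => h1 (by subst e; simp)) (fun e => hne (e ▸ rfl))
    exact ⟨g * b * g⁻¹, ⟨b, hb, rfl⟩, by
      show ⁅g * a * g⁻¹, g * b * g⁻¹⁆ = g * z * g⁻¹
      rw [← ecomm, hab]⟩
  · intro a ha
    refine (h.self_centralizing (g⁻¹ * a * g) fun b hb => ?_).imp (fun e => ?_) (fun e => ?_)
    · have := (ha _ ⟨b, hb, rfl⟩).map (MulAut.conj g⁻¹).toMonoidHom
      simpa [mul_assoc] using this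
    · rw [show a = g * (g⁻¹ * a * g) * g⁻¹ by group, e]; group
    · rw [show a = g * (g⁻¹ * a * g) * g⁻¹ by group, e]

variable {Q : Subgroup G} {z : G}

theorem ExData.conj_cases (h : ExData Q z) {a b : G} (ha : a ∈ Q) (hb : b ∈ Q) :
    a * b * a⁻¹ = b ∨ a * b * a⁻¹ = z * b := by
  rcases h.comm a ha b hb with e | e
  · exact .inl (by rw [conj_eq_of_commutator e, one_mul])
  · exact .inr (conj_eq_of_commutator e)

theorem ExData.map_eq (h : ExData Q z) {a b : G} (hab : a * z * a⁻¹ = b * z * b⁻¹) :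
    Q.map (MulAut.conj a).toMonoidHom = Q.map (MulAut.conj b).toMonoidHom := by
  have key : ∀ a b : G, a * z * a⁻¹ = b * z * b⁻¹ →
      Q.map (MulAut.conj a).toMonoidHom ≤ Q.map (MulAut.conj b).toMonoidHom := by
    rintro a b e _ ⟨q, hq, rfl⟩
    have hc : Commute (b⁻¹ * a) z := by
      show b⁻¹ * a * z = z * (b⁻¹ * a)
      calc b⁻¹ * a * z = b⁻¹ * (a * z * a⁻¹) * a := by group
        _ = z * (b⁻¹ * a) := by rw [e]; group
    refine ⟨_, h.normal _ hc q hq, ?_⟩
    show b * (b⁻¹ * a * q * (b⁻¹ * a)⁻¹) * b⁻¹ = a * q * a⁻¹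
    group
  exact le_antisymm (key a b hab) (key b a hab.symm)

theorem ExData.comm_or (h : ExData Q z) {x a q : G} (hx : x ∈ Q) (ha : a ∈ Q) (hq : q ∈ Q)
    (hqx : q * x * q⁻¹ = z * x) : Commute a x ∨ Commute (a * q) x := by
  rcases h.conj_cases ha hx with e | e
  · exact .inl (mul_inv_eq_iff_eq_mul.1 e)
  · refine .inr (mul_inv_eq_iff_eq_mul.1 ?_)
    calc a * q * x * (a * q)⁻¹ = a * (q * x * q⁻¹) * a⁻¹ := by group
      _ = (a * z * a⁻¹) * (a * x * a⁻¹) := by rw [hqx]; group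
      _ = x := by
        rw [(h.le_cent a ha).eq, mul_inv_cancel_right, e, ← mul_assoc, h.mul_self, one_mul]

theorem ExData.mover (h : ExData Q z) {x : G} (hx : x ∈ Q) (h1 : x ≠ 1) (hne : x ≠ z) :
    ∃ q ∈ Q, q * x * q⁻¹ = z * x := by
  obtain ⟨b, hb, hxb⟩ := h.pair x hx h1 hne
  exact ⟨b, hb, conj_eq_of_commutator (by rw [← commutatorElement_inv, hxb, h.inv_eq])⟩

/-- The centralizer in `Q` of the perp of `x`. -/
theorem ExData.centralizer_perp (h : ExData Q z) {x u : G} (hx : x ∈ Q) (hx2 : x * x = 1)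
    (hx1 : x ≠ 1) (hxz : x ≠ z) (hu : u ∈ Q) (hc : ∀ p ∈ Q, Commute p x → Commute u p) :
    u = 1 ∨ u = z ∨ u = x ∨ u = x * z := by
  obtain ⟨q, hq, hqx⟩ := h.mover hx hx1 hxz
  have hqx' : q⁻¹ * x * q = z * x := by
    have : q⁻¹ * (q * x * q⁻¹) * q = q⁻¹ * (z * x) * q := by rw [hqx]
    rw [show q⁻¹ * (q * x * q⁻¹) * q = x by group,
      show q⁻¹ * (z * x) * q = (q⁻¹ * z * q) * (q⁻¹ * x * q) by group,
      show q⁻¹ * z * q = z by rw [mul_assoc, ← (h.le_cent q hq).eq, inv_mul_cancel_left]] at this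
    conv_rhs => rw [this, ← mul_assoc, h.mul_self, one_mul]
  have hall : ∀ v ∈ Q, (∀ p ∈ Q, Commute p x → Commute v p) → Commute v q → v = 1 ∨ v = z := by
    intro v hv hvp hvq
    refine h.self_centralizing v fun b hb => ?_
    rcases h.comm_or hx hb hq hqx with e | e
    · exact hvp b hb e
    · have := (hvp _ (mul_mem hb hq) e).mul_right hvq.inv_right
      rwa [mul_inv_cancel_right] at this
  rcases h.conj_cases hq hu with e | e
  · exact (hall u hu hc (Commute.symm (mul_inv_eq_iff_eq_mul.1 e))).imp id .inl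
  · have hxp : ∀ p ∈ Q, Commute p x → Commute (x * u) p := fun p hp hpx =>
      hpx.symm.mul_left (hc p hp hpx)
    have hxq : Commute (x * u) q := by
      refine Commute.symm (mul_inv_eq_iff_eq_mul.1 ?_)
      calc q * (x * u) * q⁻¹ = (q * x * q⁻¹) * (q * u * q⁻¹) := by group
        _ = z * (x * z) * u := by rw [hqx, e]; group
        _ = x * u := by rw [(h.le_cent x hx).eq, ← mul_assoc z z, h.mul_self, one_mul]
    rcases hall _ (mul_mem hx hu) hxp hxq with e' | e'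
    · exact .inr (.inr (.inl (by
        rw [← inv_eq_of_mul_eq_one_right e', inv_eq_of_mul_eq_one_right hx2])))
    · exact .inr (.inr (.inr (by rw [← e', ← mul_assoc, hx2, one_mul])))

/-- With width at least two the perp of `x` is nonabelian. -/
theorem ExData.exists_noncommute (h : ExData Q z) (hcard : 9 ≤ Nat.card Q) {x : G} (hx : x ∈ Q)
    (hx2 : x * x = 1) (hx1 : x ≠ 1) (hxz : x ≠ z) :
    ∃ a ∈ Q, ∃ b ∈ Q, Commute a x ∧ Commute b x ∧ ⁅a, b⁆ = z := by
  classical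
  by_contra! hh
  have hab : ∀ a ∈ Q, ∀ b ∈ Q, Commute a x → Commute b x → Commute a b := fun a ha b hb e1 e2 =>
    commutator_eq_one ((h.comm a ha b hb).resolve_right (hh a ha b hb e1 e2))
  obtain ⟨q, hq, hqx⟩ := h.mover hx hx1 hxz
  have hP : ∀ a ∈ Q, Commute a x → a ∈ ({1, z, x, x * z} : Finset G) := by
    intro a ha hax
    simpa using h.centralizer_perp hx hx2 hx1 hxz ha fun p hp hpx => hab a ha p hp hax hpx
  have hsub : (Q : Set G) ⊆ (({1, z, x, x * z} : Finset G) ∪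
      ({1, z, x, x * z} : Finset G).image (fun a => a * q⁻¹) : Finset G) := by
    intro a ha
    rw [Finset.coe_union, Finset.coe_image]
    rcases h.comm_or hx ha hq hqx with e | e
    · exact .inl (hP a ha e)
    · exact .inr ⟨a * q, hP _ (mul_mem ha hq) e, by simp⟩
  have h1 := Set.ncard_le_ncard hsub (Finset.finite_toSet _)
  have h2 : Q.carrier.ncard = Nat.card Q := (Nat.card_coe_set_eq _).symm
  change Q.carrier.ncard ≤ _ at h1
  rw [Set.ncard_coe_finset, h2] at h1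
  have h4 : ({1, z, x, x * z} : Finset G).card ≤ 4 :=
    (Finset.card_insert_le _ _).trans (Nat.succ_le_succ Finset.card_le_three)
  have h3 := (Finset.card_union_le ({1, z, x, x * z} : Finset G) _).trans
    (add_le_add h4 ((Finset.card_image_le (f := fun a => a * q⁻¹)).trans h4))
  omega

/-- Orthogonality is symmetric in width at least two. -/
theorem ExData.orth (h : ExData Q z) (hcard : 9 ≤ Nat.card Q) {g : G}
    (hgQ : g * z * g⁻¹ ∈ Q) (hne : g * z * g⁻¹ ≠ z) :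
    z ∈ Q.map (MulAut.conj g).toMonoidHom := by
  set x := g * z * g⁻¹ with hxdef
  set R := Q.map (MulAut.conj g).toMonoidHom
  have hx : ExData R x := h.conj g
  have hxx := hx.mul_self
  have hxzc : Commute x z := h.le_cent x hgQ
  obtain ⟨a, ha, b, hb, hax, hbx, habz⟩ := h.exists_noncommute hcard hgQ hxx hx.ne_one hne
  by_cases hr : ∃ r ∈ R, r * z * r⁻¹ = z * x
  · -- a symmetric group on the three involutions
    obtain ⟨r, hr, hrz⟩ := hr
    obtain ⟨q, hq, hqx⟩ := h.mover hgQ hx.ne_one hne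
    have h1 : x ∈ Q.map (MulAut.conj r).toMonoidHom :=
      ⟨x, hgQ, show r * x * r⁻¹ = x by rw [(hx.le_cent r hr).eq, mul_inv_cancel_right]⟩
    have hqx' : q * (z * x) * q⁻¹ = x := by
      rw [show q * (z * x) * q⁻¹ = (q * z * q⁻¹) * (q * x * q⁻¹) by group, hqx,
        (h.le_cent q hq).eq, mul_inv_cancel_right, ← mul_assoc, h.mul_self, one_mul]
    have h2 : Q.map (MulAut.conj (q * r)).toMonoidHom = R := h.map_eq (by
      rw [show q * r * z * (q * r)⁻¹ = q * (r * z * r⁻¹) * q⁻¹ by group, hrz, hqx'])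
    obtain ⟨y, hy, hyx⟩ := h1
    have h3 : z * x ∈ R := by
      rw [← h2]
      refine ⟨y, hy, ?_⟩
      show q * r * y * (q * r)⁻¹ = z * x
      rw [show q * r * y * (q * r)⁻¹ = q * (r * y * r⁻¹) * q⁻¹ by group,
        show r * y * r⁻¹ = x from hyx, hqx]
    have h4 := mul_mem h3 hx.mem
    rwa [mul_assoc, hxx, mul_one] at h4
  push Not at hr
  by_contra hzR
  have hA : ∀ u ∈ R, u ∈ Q → u = 1 ∨ u = x := by
    intro u huR huQ
    have hup : ∀ p ∈ Q, Commute p x → Commute u p := by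
      intro p hp hpx
      refine commutator_eq_one ((h.comm u huQ p hp).resolve_right fun e => hzR ?_)
      have := mul_mem huR (hx.normal p hpx _ (inv_mem huR))
      rw [show u * (p * u⁻¹ * p⁻¹) = ⁅u, p⁆ by rw [commutatorElement_def]; group, e] at this
      exact this
    rcases h.centralizer_perp hgQ hxx hx.ne_one hne huQ hup with e | e | e | e
    · exact .inl e
    · exact absurd (e ▸ huR) hzR
    · exact .inr e
    · refine absurd ?_ hzR
      have := mul_mem hx.mem huR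
      rwa [e, ← mul_assoc, hxx, one_mul] at this
  let K := centralizer ({x} : Set G)
  let xK : K := ⟨x, mem_centralizer_singleton_iff.2 rfl⟩
  haveI hXn : (zpowers xK).Normal := ⟨fun y hy g => by
    obtain ⟨k, rfl⟩ := hy
    refine ⟨k, ?_⟩
    have : Commute g xK := Subtype.ext (mem_centralizer_singleton_iff.1 g.2)
    rw [(this.zpow_right k).eq, mul_inv_cancel_right]⟩
  let π := QuotientGroup.mk' (zpowers xK)
  have hX : ∀ u : K, (u : G) = 1 ∨ (u : G) = x → π u = 1 := by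
    rintro u (e | e) <;> refine (QuotientGroup.eq_one_iff u).2 ?_
    · rw [show u = 1 from Subtype.ext e]; exact one_mem _
    · rw [show u = xK from Subtype.ext e]; exact mem_zpowers xK
  have hRK : ∀ u ∈ R, u ∈ K := fun u hu => mem_centralizer_singleton_iff.2 (hx.le_cent u hu).eq
  have hRab : ∀ u v : K, (u : G) ∈ R → (v : G) ∈ R → Commute (π u) (π v) := by
    intro u v hu hv
    refine commutatorElement_eq_one_iff_commute.1 ?_
    rw [← map_commutatorElement]
    refine hX _ ?_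
    simpa [commutatorElement_def] using hx.comm _ hu _ hv
  let zK : K := ⟨z, mem_centralizer_singleton_iff.2 hxzc.eq.symm⟩
  have hfixT : ∀ u : K, (u : G) ∈ R → π (zK * u * zK⁻¹) = π u → Commute (u : G) z := by
    intro u hu e
    have h1 := (QuotientGroup.eq_one_iff _).1 (show π (u * zK * u⁻¹ * zK⁻¹) = 1 by
      have : π (u * (zK * u⁻¹ * zK⁻¹)) = 1 := by
        rw [map_mul, show zK * u⁻¹ * zK⁻¹ = (zK * u * zK⁻¹)⁻¹ by group, map_inv, e, mul_inv_cancel]
      rwa [show u * (zK * u⁻¹ * zK⁻¹) = u * zK * u⁻¹ * zK⁻¹ by group] at this)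
    obtain ⟨k, hk⟩ := h1
    have hk' : x ^ k = (u : G) * z * (u : G)⁻¹ * z⁻¹ := by
      have := congrArg Subtype.val hk
      simpa [xK, zK] using this
    have : x ^ k = 1 ∨ x ^ k = x := by
      rw [← zpow_mod_orderOf, hx.ord]
      rcases Int.emod_two_eq_zero_or_one k with e | e <;> simp [e]
    rcases this with e' | e' <;> rw [e'] at hk'
    · exact mul_inv_eq_iff_eq_mul.1 (mul_inv_eq_one.1 hk'.symm)
    · exact absurd (by
        rw [← eq_mul_inv_iff_mul_eq.1 hk', hxzc.eq] : (u : G) * z * (u : G)⁻¹ = z * x) (hr u hu)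
  have hT : ∀ t ∈ R, Commute t z → ∀ p ∈ Q, Commute p x →
      p * t * p⁻¹ * t⁻¹ = 1 ∨ p * t * p⁻¹ * t⁻¹ = x := by
    intro t ht htz p hp hpx
    refine hA _ (mul_mem (hx.normal p hpx t ht) (inv_mem ht)) ?_
    rw [show p * t * p⁻¹ * t⁻¹ = p * (t * p⁻¹ * t⁻¹) by group]
    exact mul_mem hp (h.normal t htz _ (inv_mem hp))
  have key : ∀ p ∈ Q, ∀ hpx : Commute p x, ∀ u : K, (u : G) ∈ R →
      ∃ t : K, (t : G) ∈ R ∧ Commute (t : G) z ∧
        (⟨p, mem_centralizer_singleton_iff.2 hpx.eq⟩ : K) * u *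
          (⟨p, mem_centralizer_singleton_iff.2 hpx.eq⟩ : K)⁻¹ = t * u := by
    intro p hp hpx u hu
    set pK : K := ⟨p, mem_centralizer_singleton_iff.2 hpx.eq⟩
    have hzu : (zK : G) * (u : G) * (zK : G)⁻¹ ∈ R := hx.normal z hxzc.symm _ hu
    set s := u⁻¹ * (zK * u * zK⁻¹) with hs
    have hsR : (s : G) ∈ R := mul_mem (inv_mem hu) hzu
    have hsT : Commute (s : G) z := by
      refine hfixT s hsR ?_
      have hzz : zK * zK = 1 := Subtype.ext h.mul_self
      have : zK * s * zK⁻¹ = s⁻¹ := by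
        rw [hs, inv_eq_of_mul_eq_one_right hzz]
        calc zK * (u⁻¹ * (zK * u * zK)) * zK = zK * u⁻¹ * zK * u * (zK * zK) := by group
          _ = (u⁻¹ * (zK * u * zK))⁻¹ := by
            rw [hzz, mul_one, mul_inv_rev, mul_inv_rev, mul_inv_rev, inv_inv,
              inv_eq_of_mul_eq_one_right hzz]
            group
      rw [this, map_inv]
      refine inv_eq_of_mul_eq_one_right ?_
      rw [← map_mul]
      exact hX _ (by simpa using hx.sq _ hsR)
    have hps := hT (s : G) hsR hsT p hp hpx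
    have hpu : ((pK * u * pK⁻¹ : K) : G) ∈ R := hx.normal p hpx _ hu
    refine ⟨pK * u * pK⁻¹ * u⁻¹, mul_mem hpu (inv_mem hu), ?_, by group⟩
    refine hfixT _ (mul_mem hpu (inv_mem hu)) ?_
    have hpz : pK * zK = zK * pK := Subtype.ext (h.le_cent p hp).eq
    have e1 : zK * (pK * u * pK⁻¹ * u⁻¹) * zK⁻¹ =
        (pK * u * pK⁻¹) * (pK * s * pK⁻¹ * s⁻¹) * u⁻¹ := by
      calc zK * (pK * u * pK⁻¹ * u⁻¹) * zK⁻¹
          = (zK * pK) * u * (zK * pK)⁻¹ * (zK * u⁻¹ * zK⁻¹) := by group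
        _ = (pK * zK) * u * (pK * zK)⁻¹ * (zK * u⁻¹ * zK⁻¹) := by rw [hpz]
        _ = _ := by rw [hs]; group
    rw [e1, map_mul, map_mul, hX (pK * s * pK⁻¹ * s⁻¹) hps, mul_one, ← map_mul]
  have hzR' : ∀ u : G, u ∈ R → Commute u z := by
    intro u hu
    let uK : K := ⟨u, hRK u hu⟩
    let aK : K := ⟨a, mem_centralizer_singleton_iff.2 hax.eq⟩
    let bK : K := ⟨b, mem_centralizer_singleton_iff.2 hbx.eq⟩
    refine hfixT uK hu ?_
    have hconjmap : ∀ (g v : K) (p : G) (hp : p ∈ Q) (hpx : Commute p x),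
        (g : G) = p → (v : G) ∈ R → Commute (v : G) z → π (g * v * g⁻¹) = π v := by
      intro g v p hp hpx hg hv hvz
      have := hX (g * v * g⁻¹ * v⁻¹) (by simpa [hg] using hT _ hv hvz p hp hpx)
      rwa [map_mul, map_inv, mul_inv_eq_one] at this
    obtain ⟨ta, hta, htaz, hea⟩ := key a ha hax uK hu
    obtain ⟨tb, htb, htbz, heb⟩ := key b hb hbx uK hu
    have eab : π ((aK * bK) * uK * (aK * bK)⁻¹) = π (tb * ta * uK) := by
      rw [show (aK * bK) * uK * (aK * bK)⁻¹ = aK * (bK * uK * bK⁻¹) * aK⁻¹ by group, heb,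
        show aK * (tb * uK) * aK⁻¹ = (aK * tb * aK⁻¹) * (aK * uK * aK⁻¹) by group, hea, map_mul,
        hconjmap aK tb a ha hax rfl htb htbz, ← map_mul, mul_assoc]
    have eba : π ((bK * aK) * uK * (bK * aK)⁻¹) = π (tb * ta * uK) := by
      rw [show (bK * aK) * uK * (bK * aK)⁻¹ = bK * (aK * uK * aK⁻¹) * bK⁻¹ by group, hea,
        show bK * (ta * uK) * bK⁻¹ = (bK * ta * bK⁻¹) * (bK * uK * bK⁻¹) by group, heb, map_mul,
        hconjmap bK ta b hb hbx rfl hta htaz, ← map_mul, ← mul_assoc, map_mul, map_mul π ta tb,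
        (hRab ta tb hta htb).eq, ← map_mul, ← map_mul]
    have hz' : aK * bK = zK * (bK * aK) := Subtype.ext (by
      show a * b = z * (b * a)
      rw [← habz, commutatorElement_def]; group)
    rw [hz', show zK * (bK * aK) * uK * (zK * (bK * aK))⁻¹ =
      zK * ((bK * aK) * uK * (bK * aK)⁻¹) * zK⁻¹ by group, map_mul, map_mul, eba] at eab
    have htc : Commute (π (tb * ta)) (π zK) := by
      rw [map_mul]
      exact ((show Commute tb zK from Subtype.ext htbz.eq).map π).mul_left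
        ((show Commute ta zK from Subtype.ext htaz.eq).map π)
    rw [map_mul π (tb * ta) uK, map_inv, ← mul_assoc, ← htc.eq] at eab
    rw [map_mul, map_mul, map_inv]
    refine mul_left_cancel (a := π (tb * ta)) ?_
    rw [← mul_assoc, ← mul_assoc]
    exact eab
  rcases hx.self_centralizing z (fun u hu => (hzR' u hu).symm) with e | e
  · exact h.ne_one e
  · exact hne e.symm

theorem ExData.eq_one_of_normal_odd (h : ExData Q z) {K : Subgroup G} (hK : Odd (Nat.card K))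
    {k : G} (hk : k ∈ K) (hQK : Q ≤ normalizer (K : Set G)) (hkz : Commute k z)
    (hQ2 : IsPGroup 2 Q) : k = 1 := by
  have hcent : ∀ q ∈ Q, Commute k q := by
    intro q hq
    have h1 : k * q * k⁻¹ * q⁻¹ ∈ Q := mul_mem (h.normal k hkz q hq) (inv_mem hq)
    have h2 : k * q * k⁻¹ * q⁻¹ ∈ K := by
      rw [mul_assoc, mul_assoc, ← mul_assoc q]
      exact mul_mem hk ((mem_normalizer_iff.1 (hQK hq) _).1 (inv_mem hk))
    have h3 : k * q * k⁻¹ * q⁻¹ = 1 := by
      obtain ⟨j, hj⟩ := hQ2 ⟨_, h1⟩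
      refine orderOf_eq_one_iff.1 (Nat.eq_one_of_dvd_coprimes
        (hK.coprime_two_right.pow_right j) (Subgroup.orderOf_dvd_natCard K h2) ?_)
      exact orderOf_dvd_of_pow_eq_one (congrArg Subtype.val hj)
    exact mul_inv_eq_iff_eq_mul.1 (mul_inv_eq_one.1 h3)
  rcases h.self_centralizing k hcent with e | e
  · exact e
  · have := Subgroup.orderOf_dvd_natCard K hk
    rw [e, h.ord] at this
    exact absurd (hK.of_dvd_nat this) (by norm_num)

theorem ExData.odd_eq_bot_of (h : ExData Q z) (hQ2 : IsPGroup 2 Q) {x : G} (hxQ : x ∈ Q)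
    (hxx : x * x = 1) (hx1 : x ≠ 1) (hne : x ≠ z) {K : Subgroup G} (hK : Odd (Nat.card K))
    (hQK : Q ≤ normalizer (K : Set G))
    (hCx' : ∀ k ∈ K, Commute k x → z * k * z⁻¹ = k⁻¹ → k = 1) : K = ⊥ := by
  classical
  obtain ⟨q, hq, hqx⟩ := h.mover hxQ hx1 hne
  have hinvK : ∀ v ∈ Q, ∀ k ∈ K, v * k * v⁻¹ ∈ K := fun v hv k hk =>
    (mem_normalizer_iff.1 (hQK hv) k).1 hk
  have inverts : ∀ v : G, v * v = 1 → v ∈ Q → (∀ k ∈ K, Commute k v → k = 1) →
      ∀ k ∈ K, v * k * v⁻¹ = k⁻¹ := by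
    intro v hv hvQ hfix k hk
    haveI := Fintype.ofFinite K
    let f : K → K := fun a => ⟨(a : G)⁻¹ * (v * a * v⁻¹), mul_mem (inv_mem a.2) (hinvK v hvQ a a.2)⟩
    have hinj : Function.Injective f := by
      intro a b e
      have e' : (a : G)⁻¹ * (v * a * v⁻¹) = (b : G)⁻¹ * (v * b * v⁻¹) := congrArg Subtype.val e
      refine Subtype.ext (mul_inv_eq_one.1 (hfix _ (mul_mem b.2 (inv_mem a.2)) ?_)).symm
      show (b : G) * (a : G)⁻¹ * v = v * ((b : G) * (a : G)⁻¹)
      calc (b : G) * (a : G)⁻¹ * v = (b : G) * ((a : G)⁻¹ * (v * a * v⁻¹)) * (v * (a : G)⁻¹) := by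
            group
        _ = v * ((b : G) * (v⁻¹ * v) * (a : G)⁻¹) := by rw [e']; group
        _ = _ := by group
    obtain ⟨a, ha⟩ := (Finite.injective_iff_surjective.1 hinj) ⟨k, hk⟩
    have hak : (a : G)⁻¹ * (v * a * v⁻¹) = k := congrArg Subtype.val ha
    rw [← hak, inv_eq_of_mul_eq_one_right hv]
    calc v * ((a : G)⁻¹ * (v * a * v)) * v = v * (a : G)⁻¹ * v * a * (v * v) := by group
      _ = ((a : G)⁻¹ * (v * a * v))⁻¹ := by
        rw [hv, mul_one, mul_inv_rev, mul_inv_rev, mul_inv_rev, inv_inv,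
          inv_eq_of_mul_eq_one_right hv]
        group
  have hz1 : ∀ k ∈ K, z * k * z⁻¹ = k⁻¹ := inverts z h.mul_self h.mem
    fun k hk hkz => h.eq_one_of_normal_odd hK hk hQK hkz hQ2
  have hCx : ∀ k ∈ K, Commute k x → k = 1 := fun k hk hkx => hCx' k hk hkx (hz1 k hk)
  have hxinv := inverts x hxx hxQ hCx
  have hxz1 := inverts (z * x) (by
      rw [mul_assoc, ← mul_assoc x, (h.le_cent x hxQ).eq, mul_assoc z x x, hxx, mul_one,
        h.mul_self]) (mul_mem h.mem hxQ) fun k hk hkv => by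
    have h1 := hinvK q⁻¹ (inv_mem hq) k hk
    have h2 : Commute (q⁻¹ * k * q⁻¹⁻¹) x := by
      have := hkv.map (MulAut.conj q⁻¹).toMonoidHom
      have e : q⁻¹ * (z * x) * q⁻¹⁻¹ = x := by
        rw [← hqx]; group
      simp only [MulEquiv.coe_toMonoidHom, MulAut.conj_apply] at this
      rwa [e] at this
    exact conj_eq_one_iff.1 (hCx _ h1 h2)
  refine (eq_bot_iff_forall K).2 fun k hk => ?_
  have e1 : z * x * k * (z * x)⁻¹ = k := by
    rw [show z * x * k * (z * x)⁻¹ = z * (x * k * x⁻¹) * z⁻¹ by group, hxinv k hk,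
      hz1 _ (inv_mem hk), inv_inv]
  rw [hxz1 k hk] at e1
  refine orderOf_eq_one_iff.1 (Nat.eq_one_of_dvd_coprimes
    hK.coprime_two_right (Subgroup.orderOf_dvd_natCard K hk)
    (orderOf_dvd_of_pow_eq_one (by rw [_root_.sq]; exact inv_eq_iff_mul_eq_one.1 e1)))

theorem ExData.odd_eq_bot (h : ExData Q z) (hQ2 : IsPGroup 2 Q) (hcard : 9 ≤ Nat.card Q) {g : G}
    (hgQ : g * z * g⁻¹ ∈ Q) (hne : g * z * g⁻¹ ≠ z) {K : Subgroup G} (hK : Odd (Nat.card K))
    (hQK : Q ≤ normalizer (K : Set G)) : K = ⊥ := by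
  have horth := h.orth hcard hgQ hne
  have hx := h.conj g
  refine h.odd_eq_bot_of hQ2 hgQ hx.mul_self hx.ne_one hne hK hQK fun k hk hkx hz1 => ?_
  have h1 : k * z * k⁻¹ * z⁻¹ ∈ Q.map (MulAut.conj g).toMonoidHom :=
    mul_mem (hx.normal k hkx _ horth) (inv_mem horth)
  have e : k * z * k⁻¹ * z⁻¹ = k * k := by
    rw [show k * z * k⁻¹ * z⁻¹ = k * (z * k * z⁻¹)⁻¹ by group, hz1, inv_inv]
  rw [e] at h1
  obtain ⟨j, hj⟩ := (hQ2.map _) ⟨_, h1⟩
  have hk2 : k * k = 1 := orderOf_eq_one_iff.1 (Nat.eq_one_of_dvd_coprimes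
    (hK.coprime_two_right.pow_right j) (Subgroup.orderOf_dvd_natCard K (mul_mem hk hk))
    (orderOf_dvd_of_pow_eq_one (congrArg Subtype.val hj)))
  exact orderOf_eq_one_iff.1 (Nat.eq_one_of_dvd_coprimes
    hK.coprime_two_right (Subgroup.orderOf_dvd_natCard K hk)
    (orderOf_dvd_of_pow_eq_one (by rw [_root_.sq, hk2])))

end Cfsg.Agent.BigExtra
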