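import Cfsg.Agent.Lib.BigExtra.Criteria

/-!
# Large extraspecial subgroups of sections
-/

set_option autoImplicit false
set_option linter.unusedSectionVars false

open scoped commutatorElement

namespace Cfsg.Agent.BigExtra

open Subgroup

universe u

variable {G : Type u} [Group G] [Finite G] {Q : Subgroup G} {z : G}

theorem quotient_large (h : ExData Q z) {A M R : Subgroup G} [(A.subgroupOf M).Normal]
    (hRQ : R ≤ Q) (hQ2 : IsPGroup 2 Q) (hRM : R ≤ M) (hzR : z ∈ R) (hzA : z ∉ A)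
    (hnorm : ∀ m ∈ M, m * z * m⁻¹ * z⁻¹ ∈ A → Commute m z)
    (hinv : ∀ c ∈ M, Commute c z → ∀ a ∈ R, c * a * c⁻¹ ∈ R)
    (hpair : ∀ a ∈ R, a ∉ A → a * z ∉ A → ∃ b ∈ R, ⁅a, b⁆ = z)
    (hself : ∀ m ∈ M, (∀ b ∈ R, ⁅m, b⁆ ∈ A) → m ∈ A ∨ m * z ∈ A)
    (hcard : 9 ≤ Nat.card ((R.subgroupOf M).map (QuotientGroup.mk' (A.subgroupOf M))))
    {x : G} (hxR : x ∈ R) (hxzA : x * z ∉ A) {m : G} (hm : m ∈ M) (hmx : m * x * m⁻¹ = z) :
    Cfsg.IsLargeExtraspecial ((R.subgroupOf M).map (QuotientGroup.mk' (A.subgroupOf M))) := by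
  set f := QuotientGroup.mk' (A.subgroupOf M)
  set S := (R.subgroupOf M).map f
  let zM : M := ⟨z, hRM hzR⟩
  have hf1 : ∀ v : M, f v = 1 ↔ (v : G) ∈ A := fun v =>
    (QuotientGroup.eq_one_iff v).trans mem_subgroupOf
  have hS : ∀ v : M, (v : G) ∈ R → f v ∈ S := fun v hv => mem_map_of_mem f (mem_subgroupOf.2 hv)
  have hzeq : ∀ v : M, f v = f zM ↔ (v : G) * z ∈ A := fun v => by
    rw [← mul_inv_eq_one, ← map_inv, ← map_mul, hf1,
      show ((v * zM⁻¹ : M) : G) = (v : G) * z⁻¹ from rfl, h.inv_eq]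
  have hzz : f zM * f zM = 1 := by
    rw [← map_mul, hf1]
    exact (show ((zM * zM : M) : G) = 1 from h.mul_self) ▸ one_mem A
  have hcom : ∀ u v : M, f ⁅u, v⁆ = ⁅f u, f v⁆ := fun u v => map_commutatorElement f u v
  have hval : ∀ u v : M, ((⁅u, v⁆ : M) : G) = ⁅(u : G), (v : G)⁆ := fun u v => rfl
  have hd : ExData S (f zM) := by
    refine ⟨orderOf_eq_prime (by rw [_root_.sq, hzz]) fun e => hzA ((hf1 zM).1 e), hS zM hzR,
      ?_, ?_, ?_, ?_, ?_, ?_⟩
    · rintro _ ⟨a, ha, rfl⟩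
      exact (show Commute a zM from Subtype.ext (h.le_cent a (hRQ ha)).eq).map f
    · rintro c hc _ ⟨a, ha, rfl⟩
      obtain ⟨c, rfl⟩ := QuotientGroup.mk'_surjective _ c
      have hcz : Commute (c : G) z := by
        refine hnorm c c.2 ((hf1 (c * zM * c⁻¹ * zM⁻¹)).1 ?_)
        rw [map_mul, map_mul, map_mul, map_inv, map_inv, hc.eq, mul_inv_cancel_right, mul_inv_cancel]
      rw [show f c * f a * (f c)⁻¹ = f (c * a * c⁻¹) by simp]
      exact hS _ (hinv c c.2 hcz _ ha)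
    · rintro _ ⟨a, ha, rfl⟩
      rw [← map_mul]
      rcases h.sq a (hRQ ha) with e | e
      · exact .inl ((hf1 _).2 ((show ((a * a : M) : G) = 1 from e) ▸ one_mem A))
      · exact .inr (congrArg f (Subtype.ext e))
    · rintro _ ⟨a, ha, rfl⟩ _ ⟨b, hb, rfl⟩
      rw [← hcom]
      rcases h.comm a (hRQ ha) b (hRQ hb) with e | e
      · exact .inl ((hf1 _).2 (by rw [hval, e]; exact one_mem A))
      · exact .inr (congrArg f (Subtype.ext e))
    · rintro _ ⟨a, ha, rfl⟩ h1 h2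
      obtain ⟨b, hb, hab⟩ := hpair a ha (fun e => h1 ((hf1 a).2 e)) fun e => h2 ((hzeq a).2 e)
      refine ⟨f ⟨b, hRM hb⟩, hS _ hb, ?_⟩
      rw [← hcom]
      exact congrArg f (Subtype.ext hab)
    · intro a ha
      obtain ⟨a, rfl⟩ := QuotientGroup.mk'_surjective _ a
      refine (hself a a.2 fun b hb => ?_).imp (fun e => (hf1 a).2 e) fun e => (hzeq a).2 e
      have := ha _ (hS ⟨b, hRM hb⟩ hb)
      exact (hf1 ⁅a, ⟨b, hRM hb⟩⁆).1 (by
        rw [hcom]; exact commutatorElement_eq_one_iff_commute.2 this)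
  let xM : M := ⟨x, hRM hxR⟩
  have e : (f ⟨m, hm⟩)⁻¹ * f zM * (f ⟨m, hm⟩)⁻¹⁻¹ = f xM := by
    rw [show zM = ⟨m, hm⟩ * xM * ⟨m, hm⟩⁻¹ from Subtype.ext hmx.symm, map_mul, map_mul, map_inv]
    group
  have hS2 : IsPGroup 2 S :=
    ((hQ2.to_le hRQ).of_equiv (subgroupOfEquivOfLe hRM).symm).map f
  exact hd.isLargeExtraspecial hcard fun K hK hSK =>
    hd.odd_eq_bot hS2 hcard (g := (f ⟨m, hm⟩)⁻¹) (e ▸ hS xM hxR)
      (fun e' => hxzA ((hzeq xM).1 (e.symm.trans e'))) hK hSK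

theorem card_le_two_mul_perp (h : ExData Q z) {t : G} (ht : t ∈ Q) (ht1 : t ≠ 1) (htz : t ≠ z) :
    Nat.card Q ≤ 2 * Nat.card (perpIn Q t) := by
  classical
  obtain ⟨q, hq, hqt⟩ := h.mover ht ht1 htz
  let f : Q → perpIn Q t × Bool := fun a =>
    if e : Commute (a : G) t then (⟨a, mem_perpIn.2 ⟨a.2, e⟩⟩, true)
    else (⟨(a : G) * q, mem_perpIn.2 ⟨mul_mem a.2 hq,
      (h.comm_or ht a.2 hq hqt).resolve_left e⟩⟩, false)
  have hf : Function.Injective f := by
    intro a b hab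
    simp only [f] at hab
    split_ifs at hab with ha hb hb
    · exact Subtype.ext (congrArg Subtype.val (Prod.ext_iff.1 hab).1 :)
    · exact absurd (Prod.ext_iff.1 hab).2 (by simp)
    · exact absurd (Prod.ext_iff.1 hab).2 (by simp)
    · exact Subtype.ext (mul_right_cancel (congrArg Subtype.val (Prod.ext_iff.1 hab).1 :))
  refine (Nat.card_le_card_of_injective f hf).trans ?_
  rw [Nat.card_prod, Nat.card_eq_fintype_card (α := Bool), Fintype.card_bool, mul_comm]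

theorem card_le_mul_map {A M R : Subgroup G} [(A.subgroupOf M).Normal] (hRM : R ≤ M) :
    Nat.card R ≤ Nat.card A *
      Nat.card ((R.subgroupOf M).map (QuotientGroup.mk' (A.subgroupOf M))) := by
  set φ := (QuotientGroup.mk' (A.subgroupOf M)).comp (inclusion hRM)
  have hr : φ.range = (R.subgroupOf M).map (QuotientGroup.mk' (A.subgroupOf M)) := by
    rw [MonoidHom.range_comp, inclusion_range]
  have h1 := φ.ker.card_mul_index
  rw [index_ker, hr] at h1
  rw [← h1]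
  refine Nat.mul_le_mul_right _ ?_
  refine Nat.card_le_card_of_injective (fun v => (⟨((v : R) : G), ?_⟩ : A))
    fun v w e => Subtype.ext (Subtype.ext (congrArg Subtype.val e :))
  exact mem_subgroupOf.1 ((QuotientGroup.eq_one_iff (inclusion hRM (v : R))).1 v.2)

end Cfsg.Agent.BigExtra
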