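import Cfsg.Agent.Lib.BigExtra.FourGroup

/-!
# The radical of a pair of cores
-/

set_option autoImplicit false
set_option linter.unusedSectionVars false

open scoped commutatorElement

namespace Cfsg.Agent.BigExtra

open Subgroup

universe u

variable {G : Type u} [Group G] [Finite G] {Q Q' : Subgroup G} {z x : G}

theorem Four.eq_of_centralizes_perp (d : Four Q Q' z x) {t : G} (htz : Commute t z)
    (hP : ∀ p ∈ perpIn Q x, Commute t p) : t ∈ fourV z x := by
  obtain ⟨q, hq, hqx⟩ := d.mover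
  have htx : Commute t x := hP x d.x_mem_perp
  set y := q⁻¹ * (t * q * t⁻¹) with hyd
  have htq : t * q * t⁻¹ = q * y := by rw [hyd]; group
  have hyQ : y ∈ Q := mul_mem (inv_mem hq) (d.h.normal t htz q hq)
  have hyP : ∀ p ∈ Q, Commute p x → Commute y p := by
    intro p hp hpx
    have hpP : p ∈ perpIn Q x := mem_perpIn.2 ⟨hp, hpx⟩
    have h2 := hP _ (d.conj_perp hq hpP)
    have e1 : y * p * y⁻¹ = p := by
      have e2 : t⁻¹ * p * t = p := by
        rw [mul_assoc, ← (hP p hpP).eq, inv_mul_cancel_left]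
      calc y * p * y⁻¹ = q⁻¹ * (t * (q * (t⁻¹ * p * t) * q⁻¹) * t⁻¹) * q := by rw [hyd]; group
        _ = p := by rw [e2, h2.eq, mul_inv_cancel_right]; group
    exact mul_inv_eq_iff_eq_mul.1 e1
  have hxx := d.h'.mul_self
  have hqi : q⁻¹ * x * q = z * x := by
    calc q⁻¹ * x * q = q⁻¹ * (z * (z * x)) * q := by rw [← mul_assoc z z, d.h.mul_self, one_mul]
      _ = (q⁻¹ * z * q) * x := by rw [← hqx]; group
      _ = z * x := by rw [mul_assoc q⁻¹ z, ← (d.h.le_cent q hq).eq, inv_mul_cancel_left]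
  -- an element centralizing the perp and the mover is central
  have key : ∀ s : G, (∀ p ∈ perpIn Q x, Commute s p) → Commute s q → s = 1 ∨ s = z := by
    intro s hsP hsq
    refine d.h.self_centralizing s fun b hb => ?_
    rcases d.h.comm_or d.memQ hb hq hqx with e | e
    · exact hsP b (mem_perpIn.2 ⟨hb, e⟩)
    · have := (hsP _ (mem_perpIn.2 ⟨mul_mem hb hq, e⟩)).mul_right hsq.inv_right
      rwa [mul_inv_cancel_right] at this
  rcases d.h.centralizer_perp d.memQ hxx d.h'.ne_one d.ne hyQ hyP with e | e | e | e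
  · refine d.mem_fourV.2 ((key t hP ?_).imp id .inl)
    rw [e, mul_one] at htq
    exact mul_inv_eq_iff_eq_mul.1 htq
  · have hq' : Commute (t * x) q := by
      refine mul_inv_eq_iff_eq_mul.1 ?_
      calc t * x * q * (t * x)⁻¹ = t * (x * q * x⁻¹) * t⁻¹ := by group
        _ = t * (q * (q⁻¹ * x * q) * x⁻¹) * t⁻¹ := by group
        _ = t * (q * z) * t⁻¹ := by rw [hqi, ← mul_assoc q, mul_inv_cancel_right]
        _ = (t * q * t⁻¹) * (t * z * t⁻¹) := by group
        _ = q := by rw [htq, e, htz.eq, mul_inv_cancel_right, mul_assoc, d.h.mul_self, mul_one]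
    have hP' : ∀ p ∈ perpIn Q x, Commute (t * x) p := fun p hp =>
      (hP p hp).mul_left (mem_perpIn.1 hp).2.symm
    have h1 : t * x ∈ fourV z x := d.mem_fourV.2 ((key _ hP' hq').imp id .inl)
    have := mul_mem h1 ((d.mem_fourV (v := x)).2 (by simp))
    rwa [mul_assoc, hxx, mul_one] at this
  all_goals
    exfalso
    have hy2 : y * y = 1 := by
      rw [e]
      first
        | exact hxx
        | rw [mul_assoc, ← mul_assoc z x z, ← d.comm.eq, mul_assoc x z z, d.h.mul_self, mul_one,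
            hxx]
    have hqy : q⁻¹ * y * q = z * y := by
      rw [e]
      first
        | exact hqi
        | rw [show q⁻¹ * (x * z) * q = (q⁻¹ * x * q) * (q⁻¹ * z * q) by group, hqi,
            mul_assoc q⁻¹ z, ← (d.h.le_cent q hq).eq, inv_mul_cancel_left, mul_assoc]
    have h1 : q * y * (q * y) = q * q * z := by
      calc q * y * (q * y) = q * q * ((q⁻¹ * y * q) * y) := by group
        _ = q * q * z := by rw [hqy, mul_assoc z, hy2, mul_one]
    have h2 : t * (q * q) * t⁻¹ = q * y * (q * y) := by rw [← htq]; group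
    rw [h1] at h2
    rcases d.h.sq q hq with e' | e' <;> rw [e'] at h2
    · rw [mul_one, mul_inv_cancel, one_mul] at h2
      exact d.h.ne_one h2.symm
    · rw [htz.eq, mul_inv_cancel_right, d.h.mul_self] at h2
      exact d.h.ne_one h2

theorem Four.center_radR (d : Four Q Q' z x) :
    (center ↥(radR Q Q' z x)).map (radR Q Q' z x).subtype = fourV z x := by
  refine le_antisymm ?_ ?_
  · rintro _ ⟨t, ht, rfl⟩
    refine d.eq_of_centralizes_perp ((mem_centralizer_fourV.1 (d.radR_le_centralizer t.2)).1)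
      fun p hp => ?_
    exact (congrArg Subtype.val (mem_center_iff.1 ht ⟨p, mem_sup_right hp⟩)).symm
  · intro v hv
    have hvR : v ∈ radR Q Q' z x := by
      refine (closure_le (radR Q Q' z x)).2 ?_ hv
      rintro a (rfl | rfl)
      exacts [mem_sup_right d.z_mem_perp, mem_sup_right d.x_mem_perp]
    exact ⟨⟨v, hvR⟩, mem_center_iff.2 fun u => Subtype.ext
      (mem_centralizer_iff.1 (d.radR_le_centralizer u.2) v hv).symm, rfl⟩

theorem Four.inter_eq (d : Four Q Q' z x) : perpIn Q' z ⊓ perpIn Q x = Q ⊓ Q' := by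
  refine le_antisymm (le_inf (inf_le_right.trans inf_le_left) (inf_le_left.trans inf_le_left)) ?_
  rintro a ⟨ha, ha'⟩
  exact ⟨mem_perpIn.2 ⟨ha', d.h.le_cent a ha⟩, mem_perpIn.2 ⟨ha, d.h'.le_cent a ha'⟩⟩

theorem Four.inter_sq (d : Four Q Q' z x) {a : G} (ha : a ∈ Q ⊓ Q') : a * a = 1 := by
  rcases d.h.sq a ha.1 with e | e
  · exact e
  rcases d.h'.sq a ha.2 with e' | e'
  · exact e'
  · exact absurd (e'.symm.trans e) d.ne

theorem Four.inter_comm (d : Four Q Q' z x) {a b : G} (ha : a ∈ Q ⊓ Q') (hb : b ∈ Q ⊓ Q') :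
    Commute a b := by
  refine commutator_eq_one ?_
  rcases d.h.comm a ha.1 b hb.1 with e | e
  · exact e
  rcases d.h'.comm a ha.2 b hb.2 with e' | e'
  · exact e'
  · exact absurd (e'.symm.trans e) d.ne

theorem Four.commutator_inter (d : Four Q Q' z x) {u a : G} (hu : u ∈ Q ⊔ Q') (ha : a ∈ Q ⊓ Q') :
    ⁅u, a⁆ ∈ fourV z x := by
  have hQ : ∀ y ∈ Q, ⁅y, a⁆ ∈ fourV z x := fun y hy => by
    rcases d.h.comm y hy a ha.1 with e | e <;> rw [e]
    exacts [one_mem _, d.mem_fourV.2 (by simp)]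
  have hQ' : ∀ y ∈ Q', ⁅y, a⁆ ∈ fourV z x := fun y hy => by
    rcases d.h'.comm y hy a ha.2 with e | e <;> rw [e]
    exacts [one_mem _, d.mem_fourV.2 (by simp)]
  have hu' := hu
  rw [sup_eq_closure] at hu'
  induction hu' using closure_induction'' with
  | mem y hy => rcases hy with hy | hy <;> [exact hQ y hy; exact hQ' y hy]
  | inv_mem y hy =>
    rcases hy with hy | hy <;> [exact hQ _ (Q.inv_mem hy); exact hQ' _ (Q'.inv_mem hy)]
  | one => simp
  | mul y w hy hw ihy ihw =>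
    have hy' : y ∈ Q ⊔ Q' := by rw [sup_eq_closure]; exact hy
    have hw' : w ∈ Q ⊔ Q' := by rw [sup_eq_closure]; exact hw
    rw [show ⁅y * w, a⁆ = y * ⁅w, a⁆ * y⁻¹ * ⁅y, a⁆ by simp only [commutatorElement_def]; group]
    exact mul_mem ((mem_normalizer_iff.1 (d.sup_le_normalizer hy') _).1 (ihw hw')) (ihy hy')

theorem Four.conj_inter (d : Four Q Q' z x) {u a : G} (hu : u ∈ Q ⊔ Q') (ha : a ∈ Q ⊓ Q') :
    u * a * u⁻¹ ∈ Q ⊓ Q' := by
  have h1 : fourV z x ≤ Q ⊓ Q' := (closure_le _).2 (by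
    rintro v (rfl | rfl)
    exacts [⟨d.h.mem, d.memQ'⟩, ⟨d.memQ, d.h'.mem⟩])
  have := mul_mem (h1 (d.commutator_inter hu ha)) ha
  rwa [commutatorElement_def, inv_mul_cancel_right] at this

theorem Four.commutator_radR (d : Four Q Q' z x) {u v : G} (hu : u ∈ radR Q Q' z x)
    (hv : v ∈ radR Q Q' z x) : ⁅u, v⁆ ∈ Q ⊓ Q' := by
  have hz : ∀ a ∈ perpIn Q x, ∀ b ∈ perpIn Q x, ⁅a, b⁆ ∈ Q ⊓ Q' := fun a ha b hb => by
    rcases d.h.comm a (mem_perpIn.1 ha).1 b (mem_perpIn.1 hb).1 with e | e <;> rw [e]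
    exacts [one_mem _, ⟨d.h.mem, d.memQ'⟩]
  have hx : ∀ a ∈ perpIn Q' z, ∀ b ∈ perpIn Q' z, ⁅a, b⁆ ∈ Q ⊓ Q' := fun a ha b hb => by
    rcases d.h'.comm a (mem_perpIn.1 ha).1 b (mem_perpIn.1 hb).1 with e | e <;> rw [e]
    exacts [one_mem _, ⟨d.memQ, d.h'.mem⟩]
  have hm : ∀ a ∈ perpIn Q' z, ∀ b ∈ perpIn Q x, ⁅a, b⁆ ∈ Q ⊓ Q' := fun a ha b hb => by
    obtain ⟨haQ, haz⟩ := mem_perpIn.1 ha
    obtain ⟨hbQ, hbx⟩ := mem_perpIn.1 hb
    refine ⟨?_, ?_⟩
    · exact mul_mem (d.h.normal a haz b hbQ) (Q.inv_mem hbQ)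
    · rw [commutatorElement_def, show a * b * a⁻¹ * b⁻¹ = a * (b * a⁻¹ * b⁻¹) by group]
      exact mul_mem haQ (d.h'.normal b hbx _ (inv_mem haQ))
  let S : Set G := {w | w ∈ perpIn Q' z ∨ w ∈ perpIn Q x}
  have hS : ∀ a ∈ S, ∀ b ∈ S, ⁅a, b⁆ ∈ Q ⊓ Q' := by
    rintro a (ha | ha) b (hb | hb)
    · exact hx a ha b hb
    · exact hm a ha b hb
    · rw [← commutatorElement_inv]; exact inv_mem (hm b hb a ha)
    · exact hz a ha b hb
  have hle : ∀ w ∈ radR Q Q' z x, w ∈ Q ⊔ Q' := fun w hw => d.radR_le_sup hw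
  have hcl : radR Q Q' z x = closure S := sup_eq_closure _ _
  have hinv : ∀ a ∈ S, a⁻¹ ∈ S := fun a ha => ha.imp inv_mem inv_mem
  have step : ∀ w ∈ radR Q Q' z x, ∀ b ∈ S, ⁅w, b⁆ ∈ Q ⊓ Q' := by
    intro w hw b hb
    rw [hcl] at hw
    induction hw using closure_induction'' with
    | mem a ha => exact hS a ha b hb
    | inv_mem a ha => exact hS _ (hinv a ha) b hb
    | one => simp
    | mul y w hy _ ihy ihw =>
      rw [show ⁅y * w, b⁆ = y * ⁅w, b⁆ * y⁻¹ * ⁅y, b⁆ by simp only [commutatorElement_def]; group]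
      exact mul_mem (d.conj_inter (hle y (hcl ▸ hy)) ihw) ihy
  rw [hcl] at hv
  induction hv using closure_induction'' with
  | mem b hb => exact step u hu b hb
  | inv_mem b hb => exact step u hu _ (hinv b hb)
  | one => simp
  | mul y w hy _ ihy ihw =>
    rw [show ⁅u, y * w⁆ = ⁅u, y⁆ * (y * ⁅u, w⁆ * y⁻¹) by simp only [commutatorElement_def]; group]
    exact mul_mem ihy (d.conj_inter (hle y (hcl ▸ hy)) ihw)

theorem Four.sq_radR (d : Four Q Q' z x) {u : G} (hu : u ∈ radR Q Q' z x) : u * u ∈ Q ⊓ Q' := by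
  have hu' := hu
  rw [show radR Q Q' z x = closure ((perpIn Q' z : Set G) ∪ (perpIn Q x : Set G)) from
    sup_eq_closure _ _] at hu'
  induction hu' using closure_induction'' with
  | mem y hy =>
    rcases hy with hy | hy
    · rcases d.h'.sq y (mem_perpIn.1 hy).1 with e | e <;> rw [e]
      exacts [one_mem _, ⟨d.memQ, d.h'.mem⟩]
    · rcases d.h.sq y (mem_perpIn.1 hy).1 with e | e <;> rw [e]
      exacts [one_mem _, ⟨d.h.mem, d.memQ'⟩]
  | inv_mem y hy =>
    rw [← mul_inv_rev]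
    refine inv_mem ?_
    rcases hy with hy | hy
    · rcases d.h'.sq y (mem_perpIn.1 hy).1 with e | e <;> rw [e]
      exacts [one_mem _, ⟨d.memQ, d.h'.mem⟩]
    · rcases d.h.sq y (mem_perpIn.1 hy).1 with e | e <;> rw [e]
      exacts [one_mem _, ⟨d.h.mem, d.memQ'⟩]
  | one => simp
  | mul y w hy hw ihy ihw =>
    have hy' : y ∈ radR Q Q' z x := by rw [radR, sup_eq_closure]; exact hy
    have hw' : w ∈ radR Q Q' z x := by rw [radR, sup_eq_closure]; exact hw
    rw [show y * w * (y * w) = (y * ⁅w, y⁆ * y⁻¹) * (y * y) * (w * w) by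
      simp only [commutatorElement_def]; group]
    exact mul_mem (mul_mem (d.conj_inter (d.radR_le_sup hy') (d.commutator_radR hw' hy'))
      (ihy hy')) (ihw hw')

theorem four_of_large {Q : Subgroup G} (hQ : Cfsg.IsLargeExtraspecial Q) {z : G}
    (hz : (center ↥Q).map Q.subtype = zpowers z) {w : ℕ} (hw : 2 ≤ w)
    (hcard : Nat.card Q = 2 ^ (2 * w + 1)) {g : G} (hgH : g ∉ centralizer ({z} : Set G))
    (hgQ : g * z * g⁻¹ ∈ Q) :
    Four Q (Q.map (MulAut.conj g).toMonoidHom) z (g * z * g⁻¹) := by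
  refine Four.of_conj (exData_of_center hQ.1 hz hQ.2.1 hQ.2.2.1) ?_ hgQ fun e =>
    hgH (mem_centralizer_singleton_iff.2 (mul_inv_eq_iff_eq_mul.1 e))
  calc 9 ≤ 2 ^ 5 := by norm_num
    _ ≤ Nat.card Q := by rw [hcard]; exact Nat.pow_le_pow_right (by norm_num) (by omega)

end Cfsg.Agent.BigExtra
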