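import Cfsg.Agent.Lib.Spinor.Rows
import Cfsg.Agent.Lib.Spinor.Classify
import Cfsg.Agent.Lib.Fischer3.Primitive
import Cfsg.Agent.Lib.Fischer3.Central

/-!
# The reflections of one norm over the field with three elements
-/

set_option autoImplicit false
set_option linter.unusedSectionVars false

open scoped commutatorElement

namespace Cfsg.Agent.BigExtra.Refl3

open Cfsg FormsLib QuadraticMap

variable {n : ℕ} {Q : QuadraticForm (ZMod 3) (Fin n → ZMod 3)} {c : ZMod 3}

local notation "W" => (Fin n → ZMod 3)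

/-- The reflection as a member of the reflection subgroup. -/
noncomputable def ref (v : W) (hv : Q v = c) (hc : c ≠ 0) : reflectionSubgroup (⇑Q) c :=
  ⟨OrthRows.rf Q v (hv ▸ hc), Subgroup.subset_closure ⟨v, hv, OrthRows.rf_val _⟩⟩

/-- The class. -/
abbrev cls (Q : QuadraticForm (ZMod 3) (Fin n → ZMod 3)) (c : ZMod 3) :
    Set (reflectionSubgroup (⇑Q) c) :=
  {g | (g : ↥(Cfsg.isometryGroup (ZMod 3) (⇑Q))) ∈ Cfsg.reflectionsOfNorm (⇑Q) c}

/-- An element of the reflection subgroup as a linear map. -/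
noncomputable def op (g : reflectionSubgroup (⇑Q) c) : oGroup Q := oEquiv Q g.1

theorem op_ref {v : W} (hv : Q v = c) (hc : c ≠ 0) :
    op (ref v hv hc) = oRefl Q v (hv ▸ hc) := (oEquiv Q).apply_symm_apply _

theorem op_injective : Function.Injective (op : reflectionSubgroup (⇑Q) c → oGroup Q) :=
  fun _ _ h => Subtype.ext ((oEquiv Q).injective h)

theorem op_mul (g h : reflectionSubgroup (⇑Q) c) : op (g * h) = op g * op h := map_mul (oEquiv Q) _ _

theorem op_inv (g : reflectionSubgroup (⇑Q) c) : op g⁻¹ = (op g)⁻¹ := map_inv (oEquiv Q) _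

theorem op_one : op (1 : reflectionSubgroup (⇑Q) c) = 1 := map_one (oEquiv Q)

variable (hc : c ≠ 0)

include hc

theorem ref_mem {v : W} (hv : Q v = c) : ref v hv hc ∈ cls Q c := ⟨v, hv, OrthRows.rf_val _⟩

theorem exists_ref {g : reflectionSubgroup (⇑Q) c} (hg : g ∈ cls Q c) :
    ∃ v, ∃ hv : Q v = c, g = ref v hv hc := by
  obtain ⟨v, hv, h⟩ := hg
  exact ⟨v, hv, Subtype.ext (OrthRows.eq_rf (hv ▸ hc) h)⟩

theorem ref_congr {u v : W} (hu : Q u = c) (hv : Q v = c) (h : u = v ∨ u = -v) :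
    ref u hu hc = ref v hv hc := by
  apply op_injective
  rw [op_ref, op_ref]
  rcases h with rfl | rfl
  · rfl
  · have hv0 : Q v ≠ 0 := hv ▸ hc
    have hu0 : Q (-v) ≠ 0 := hu ▸ hc
    rw [oRefl_congr hu0 (by simpa using hu0) (neg_one_smul (ZMod 3) v).symm,
      Spinor.oRefl_smul hv0 (by decide)]

theorem conj_ref (g : reflectionSubgroup (⇑Q) c) {v : W} (hv : Q v = c) :
    g * ref v hv hc * g⁻¹ = ref ((op g).1 v) (((op g).2 v).trans hv) hc := by
  apply op_injective
  rw [op_mul, op_mul, op_inv, op_ref, op_ref, oRefl_conj]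

theorem ref_mul_self {v : W} (hv : Q v = c) : ref v hv hc * ref v hv hc = 1 :=
  Subtype.ext (OrthRows.rf_mul_self _)

theorem ref_inv {v : W} (hv : Q v = c) : (ref v hv hc)⁻¹ = ref v hv hc :=
  inv_eq_of_mul_eq_one_right (ref_mul_self hc hv)

theorem ref_apply {v : W} (hv : Q v = c) (x : W) :
    (op (ref v hv hc)).1 x = x - (c⁻¹ * polar Q x v) • v := by
  rw [op_ref]
  show refl Q v (by rw [hv]; exact hc) x = _
  rw [refl_apply, hv]

theorem polar_self_ne {v : W} (hv : Q v = c) : polar Q v v ≠ 0 := by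
  rw [polar_self', hv]
  exact mul_ne_zero (by decide) hc

theorem commute_of_polar {u v : W} (hu : Q u = c) (hv : Q v = c) (h : polar Q u v = 0) :
    Commute (ref u hu hc) (ref v hv hc) := by
  refine mul_inv_eq_iff_eq_mul.1 ?_
  rw [conj_ref]
  refine ref_congr hc _ hv (.inl ?_)
  rw [ref_apply, polar_comm, h, mul_zero, zero_smul, sub_zero]

theorem braid {u v : W} (hu : Q u = c) (hv : Q v = c) (h : polar Q u v ≠ 0) :
    ref u hu hc * ref v hv hc * ref u hu hc = ref v hv hc * ref u hu hc * ref v hv hc := by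
  have e : ∀ a b (ha : Q a = c) (hb : Q b = c), ref a ha hc * ref b hb hc * ref a ha hc =
      ref ((op (ref a ha hc)).1 b) (((op (ref a ha hc)).2 b).trans hb) hc := by
    intro a b ha hb
    rw [← conj_ref, ref_inv hc]
  rw [e, e]
  refine ref_congr hc _ _ ?_
  rw [ref_apply, ref_apply, polar_comm Q v u]
  rcases (by decide : ∀ k : ZMod 3, k ≠ 0 → k = 1 ∨ k = -1) (c⁻¹ * polar Q u v)
    (mul_ne_zero (inv_ne_zero hc) h) with e | e <;> rw [e]
  · right; simp
  · left; simp [add_comm]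

theorem commute_iff {u v : W} (hu : Q u = c) (hv : Q v = c) (h1 : u ≠ v) (h2 : u ≠ -v) :
    Commute (ref u hu hc) (ref v hv hc) ↔ polar Q u v = 0 := by
  refine ⟨fun hcm => by_contra fun h => ?_, commute_of_polar hc hu hv⟩
  have hb := braid hc hu hv h
  rw [hcm.eq, mul_assoc, ref_mul_self hc, mul_one, ← hcm.eq, mul_assoc, ref_mul_self hc,
    mul_one] at hb
  have := congrArg (fun g => (op g).1 v) hb
  simp only [ref_apply, polar_self', hv, polar_comm Q v u] at this
  have e2 : (c⁻¹ * (2 * c)) • v = (2 : ZMod 3) • v := by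
    rw [mul_comm (2 : ZMod 3), inv_mul_cancel_left₀ hc]
  rw [e2, sub_right_inj] at this
  rcases (by decide : ∀ k : ZMod 3, k ≠ 0 → k = 1 ∨ k = 2) (c⁻¹ * polar Q u v)
    (mul_ne_zero (inv_ne_zero hc) h) with e | e <;> rw [e] at this
  · rw [one_smul] at this
    refine h2 (funext fun i => ?_)
    have hi := congrFun this i
    simp only [Pi.smul_apply, smul_eq_mul] at hi
    rw [Pi.neg_apply]
    exact (by decide : ∀ a b : ZMod 3, 2 * a = b → b = -a) _ _ hi
  · exact h1 ((smul_right_injective W (by decide : (2 : ZMod 3) ≠ 0)) this).symm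

theorem three_transpositions : IsThreeTranspositionSet (cls Q c) := by
  refine ⟨fun d hd => ?_, fun d hd e he => ?_⟩
  · obtain ⟨v, hv, rfl⟩ := exists_ref hc hd
    refine orderOf_eq_prime (by rw [_root_.sq, ref_mul_self hc]) fun e => ?_
    have h := congrArg (fun g => (op g).1 v) e
    simp only [ref_apply, polar_self', hv, op_one] at h
    rw [mul_comm (2 : ZMod 3), inv_mul_cancel_left₀ hc] at h
    have h1 : (2 : ZMod 3) • v = 0 := sub_eq_self.1 h
    exact hc (by
      rw [← hv, (smul_eq_zero.1 h1).resolve_left (by decide : (2 : ZMod 3) ≠ 0), QuadraticMap.map_zero])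
  · obtain ⟨u, hu, rfl⟩ := exists_ref hc hd
    obtain ⟨v, hv, rfl⟩ := exists_ref hc he
    by_cases h : polar Q u v = 0
    · left
      rw [(commute_of_polar hc hu hv h).mul_pow, _root_.sq, _root_.sq, ref_mul_self hc,
        ref_mul_self hc, one_mul]
    · right
      have hb := braid hc hu hv h
      calc (ref u hu hc * ref v hv hc) ^ 3
          = (ref u hu hc * ref v hv hc * ref u hu hc) *
              (ref v hv hc * ref u hu hc * ref v hv hc) := by
            simp only [pow_succ, pow_zero, one_mul, mul_assoc]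
        _ = 1 := by
            rw [← hb, mul_assoc (ref u hu hc * ref v hv hc), ← mul_assoc (ref u hu hc),
              ← mul_assoc (ref u hu hc), ref_mul_self hc, one_mul, ← mul_assoc,
              mul_assoc (ref u hu hc), ref_mul_self hc, mul_one, ref_mul_self hc]

theorem conj_of_polar {u v : W} (hu : Q u = c) (hv : Q v = c) (h : polar Q u v ≠ 0) :
    ∃ g : reflectionSubgroup (⇑Q) c, g * ref u hu hc * g⁻¹ = ref v hv hc := by
  refine ⟨ref u hu hc * ref v hv hc, ?_⟩
  rw [mul_inv_rev, ref_inv hc, ref_inv hc]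
  calc ref u hu hc * ref v hv hc * ref u hu hc * (ref v hv hc * ref u hu hc)
      = ref v hv hc * ref u hu hc * ref v hv hc * (ref v hv hc * ref u hu hc) := by
        rw [braid hc hu hv h]
    _ = ref v hv hc * (ref u hu hc * (ref v hv hc * ref v hv hc) * ref u hu hc) := by
        simp only [mul_assoc]
    _ = ref v hv hc := by rw [ref_mul_self hc, mul_one, ref_mul_self hc, mul_one]

variable (hn : 5 ≤ n) (hQ : (polarBilin Q).Nondegenerate)

include hn hQ

local notation "B" => QuadraticMap.polarBilin Q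

theorem line_orth {u : W} (hu : Q u ≠ 0) :
    LinearMap.BilinForm.orthogonal B (Submodule.span (ZMod 3) {u}) ⊓
      LinearMap.BilinForm.orthogonal B
        (LinearMap.BilinForm.orthogonal B (Submodule.span (ZMod 3) {u})) = ⊥ ∧
    4 ≤ Module.finrank (ZMod 3) (LinearMap.BilinForm.orthogonal B (Submodule.span (ZMod 3) {u})) := by
  refine ⟨Spinor.orth_nondeg hQ ((Submodule.eq_bot_iff _).2 fun x hx => ?_), ?_⟩
  · obtain ⟨t, rfl⟩ := Submodule.mem_span_singleton.1 hx.1
    have h : polar Q u (t • u) = 0 := hx.2 u (Submodule.mem_span_singleton_self u)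
    rw [polar_smul_right, polar_self', smul_eq_mul] at h
    rw [(mul_eq_zero.1 h).resolve_right (mul_ne_zero (by decide) hu), zero_smul]
  · rw [Spinor.finrank_orth hQ, Module.finrank_fin_fun]
    have := finrank_span_singleton (K := ZMod 3) (fun e : u = 0 => hu (by rw [e, QuadraticMap.map_zero]))
    omega

omit hc in
theorem mem_line_orth {u x : W} :
    x ∈ LinearMap.BilinForm.orthogonal B (Submodule.span (ZMod 3) {u}) ↔ polar Q u x = 0 := by
  refine ⟨fun h => h u (Submodule.mem_span_singleton_self u), fun h y hy => ?_⟩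
  obtain ⟨t, rfl⟩ := Submodule.mem_span_singleton.1 hy
  show polar Q (t • u) x = 0
  rw [polar_smul_left, h, smul_zero]

omit hc hn hQ in
theorem finrank_cut (S : Submodule (ZMod 3) W) (φ : W →ₗ[ZMod 3] ZMod 3) :
    Module.finrank (ZMod 3) S ≤
      Module.finrank (ZMod 3) (S ⊓ LinearMap.ker φ : Submodule _ _) + 1 := by
  by_cases h : S ≤ LinearMap.ker φ
  · rw [inf_eq_left.2 h]; omega
  · have := Spinor.finrank_inf_ker h
    omega

omit hc hn hQ in
theorem cut {S : Submodule (ZMod 3) W} (hS : S ⊓ LinearMap.BilinForm.orthogonal B S = ⊥) {a : W}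
    (ha : a ∈ S) (hQa : Q a ≠ 0) :
    (S ⊓ LinearMap.ker ((polarBilin Q).flip a)) ⊓ LinearMap.BilinForm.orthogonal B
      (S ⊓ LinearMap.ker ((polarBilin Q).flip a)) = ⊥ := by
  rw [Submodule.eq_bot_iff]
  rintro x ⟨hx, hx'⟩
  have hxa : polar Q x a = 0 := Spinor.mem_ker_polar.1 hx.2
  refine (Submodule.eq_bot_iff _).1 hS x ⟨hx.1, fun z hz => ?_⟩
  show polar Q z x = 0
  have hp : z - (polar Q z a / (2 * Q a)) • a ∈ S ⊓ LinearMap.ker ((polarBilin Q).flip a) :=
    ⟨S.sub_mem hz (S.smul_mem _ ha), Spinor.mem_ker_polar.2 (by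
      rw [polar_sub_left, polar_smul_left, polar_self', smul_eq_mul,
        div_mul_cancel₀ _ (mul_ne_zero (by decide) hQa), sub_self])⟩
  have h3 : polar Q _ x = 0 := hx' _ hp
  rwa [polar_sub_left, polar_smul_left, polar_comm Q a x, hxa, smul_zero, sub_zero] at h3

/-- A reflection centre orthogonal to one vector and not to the other. -/
theorem exists_separating {u v : W} (hu : Q u = c) (hv : Q v = c) (h1 : v ≠ u) (h2 : v ≠ -u) :
    ∃ w, Q w = c ∧ polar Q u w = 0 ∧ polar Q v w ≠ 0 := by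
  obtain ⟨hW, hd⟩ := line_orth hc hn hQ (u := u) (hu ▸ hc)
  set U := LinearMap.BilinForm.orthogonal B (Submodule.span (ZMod 3) {u}) with hU
  have hperp : ∀ x, x ∈ U ↔ polar Q u x = 0 := fun x => mem_line_orth hn hQ
  by_contra! hall
  -- `v` annihilates the perp of `u`
  have hall' : ∀ w ∈ U, Q w = c → polar Q v w = 0 := fun w hw hQw => hall w hQw ((hperp w).1 hw)
  have hUv : ∀ y ∈ U, polar Q v y = 0 := by
    obtain ⟨a, ha, hQa⟩ := Spinor.exists_norm (Q := Q) hW (Or.inl (by omega)) hc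
    have hla := hall' a ha hQa
    intro y0 hy0
    obtain ⟨t, ht⟩ : ∃ t, t = polar Q a y0 / (2 * c) := ⟨_, rfl⟩
    obtain ⟨y, hy⟩ : ∃ y, y = y0 - t • a := ⟨_, rfl⟩
    have hyU : y ∈ U := hy ▸ U.sub_mem hy0 (U.smul_mem t ha)
    have hay : polar Q a y = 0 := by
      rw [hy, polar_sub_right, polar_smul_right, polar_self', hQa, smul_eq_mul, ht,
        div_mul_cancel₀ _ (mul_ne_zero (by decide) hc), sub_self]
    suffices h : polar Q v y = 0 by
      rw [hy, polar_sub_right, polar_smul_right, hla, smul_zero, sub_zero] at h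
      exact h
    rcases (by decide : ∀ k d : ZMod 3, d ≠ 0 → k = 0 ∨ k = d ∨ k = -d) (Q y) c hc with e | e | e
    · have := hall' (a + y) (U.add_mem ha hyU) (by rw [quad_add, hay, hQa, e]; simp)
      rwa [polar_add_right, hla, zero_add] at this
    · exact hall' y hyU e
    · -- a further vector orthogonal to both
      obtain ⟨P, hP⟩ : ∃ P, P = U ⊓ LinearMap.ker ((polarBilin Q).flip a) ⊓
          LinearMap.ker ((polarBilin Q).flip y) := ⟨_, rfl⟩
      have hPn : P ⊓ LinearMap.BilinForm.orthogonal B P = ⊥ := hP ▸ cut (cut hW ha (hQa ▸ hc))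
        ⟨hyU, Spinor.mem_ker_polar.2 (by rw [polar_comm, hay])⟩ (e ▸ neg_ne_zero.2 hc)
      have hPd : 2 ≤ Module.finrank (ZMod 3) P := by
        rw [hP]
        have h3 := finrank_cut U ((polarBilin Q).flip a)
        have h4 := finrank_cut (U ⊓ LinearMap.ker ((polarBilin Q).flip a)) ((polarBilin Q).flip y)
        omega
      obtain ⟨b, hb, hQb⟩ := Spinor.exists_norm (Q := Q) hPn (Or.inl hPd) hc
      rw [hP] at hb
      have hba : polar Q b a = 0 := Spinor.mem_ker_polar.1 hb.1.2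
      have hby : polar Q b y = 0 := Spinor.mem_ker_polar.1 hb.2
      have := hall' (b + (a + y)) (U.add_mem hb.1.1 (U.add_mem ha hyU)) (by
        rw [quad_add, quad_add, hay, polar_add_right, hba, hby, hQa, hQb, e]
        ring)
      rwa [polar_add_right, polar_add_right, hla, hall' b hb.1.1 hQb, zero_add, zero_add] at this
  -- so `v` is a multiple of `u`
  obtain ⟨t, ht⟩ : ∃ t, t = polar Q u v / (2 * c) := ⟨_, rfl⟩
  have hr : v - t • u = 0 := by
    refine hQ.2 _ fun y => ?_
    show polar Q y (v - t • u) = 0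
    obtain ⟨s, hs⟩ : ∃ s, s = polar Q u y / (2 * c) := ⟨_, rfl⟩
    have hyU : y - s • u ∈ U := (hperp _).2 (by
      rw [polar_sub_right, polar_smul_right, polar_self', hu, smul_eq_mul, hs,
        div_mul_cancel₀ _ (mul_ne_zero (by decide) hc), sub_self])
    have h1 := hUv _ hyU
    rw [polar_sub_right, polar_smul_right, smul_eq_mul, polar_comm Q v u, polar_comm Q v y] at h1
    rw [polar_sub_right, polar_smul_right, smul_eq_mul, polar_comm Q y u, ht]
    rw [hs] at h1
    rw [← h1]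
    ring
  rw [sub_eq_zero] at hr
  rcases (by decide : ∀ k : ZMod 3, k = 0 ∨ k = 1 ∨ k = -1) t with e | e | e <;> rw [e] at hr
  · rw [zero_smul] at hr
    exact hc (by rw [← hv, hr, QuadraticMap.map_zero])
  · exact h1 (by rw [hr, one_smul])
  · exact h2 (by rw [hr, neg_smul, one_smul])

theorem exists_common_orth {u v : W} (hu : Q u = c) (hv : Q v = c) (h : polar Q u v ≠ 0) :
    ∃ w, Q w = c ∧ polar Q u w = 0 ∧ polar Q v w = 0 := by
  obtain ⟨hW, hd⟩ := line_orth hc hn hQ (u := u) (hu ▸ hc)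
  set U := LinearMap.BilinForm.orthogonal B (Submodule.span (ZMod 3) {u}) with hU
  have hperp : ∀ x, x ∈ U ↔ polar Q u x = 0 := fun x => mem_line_orth hn hQ
  obtain ⟨t, ht⟩ : ∃ t, t = polar Q u v / (2 * c) := ⟨_, rfl⟩
  obtain ⟨s, hs⟩ : ∃ s, s = v - t • u := ⟨_, rfl⟩
  have hsU : s ∈ U := (hperp _).2 (by
    rw [hs, polar_sub_right, polar_smul_right, polar_self', hu, smul_eq_mul, ht,
      div_mul_cancel₀ _ (mul_ne_zero (by decide) hc), sub_self])
  suffices hex : ∃ w ∈ U, Q w = c ∧ polar Q s w = 0 by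
    obtain ⟨w, hw, hQw, hsw⟩ := hex
    refine ⟨w, hQw, (hperp w).1 hw, ?_⟩
    rw [hs, polar_sub_left, polar_smul_left, (hperp w).1 hw, smul_zero, sub_zero] at hsw
    exact hsw
  have hQs : Q s = 0 := by
    have ht1 : t ≠ 0 := ht ▸ div_ne_zero h (mul_ne_zero (by decide) hc)
    have hvs : v = s + t • u := by rw [hs, sub_add_cancel]
    rw [hvs, quad_add, QuadraticMap.map_smul, polar_smul_right, polar_comm Q s u, (hperp _).1 hsU,
      smul_zero, add_zero, hu, smul_eq_mul,
      show t * t = 1 from (by decide : ∀ k : ZMod 3, k ≠ 0 → k * k = 1) t ht1] at hv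
    simpa using hv
  by_cases hs0 : s = 0
  · obtain ⟨w, hw, hQw⟩ := Spinor.exists_norm (Q := Q) hW (Or.inl (by omega)) hc
    exact ⟨w, hw, hQw, by rw [hs0, polar_zero_left]⟩
  obtain ⟨y, hy, hQy, hsy⟩ := Spinor.exists_pair hW hsU hs0 hQs
  obtain ⟨P, hP⟩ : ∃ P, P = U ⊓ LinearMap.ker ((polarBilin Q).flip s) ⊓
      LinearMap.ker ((polarBilin Q).flip y) := ⟨_, rfl⟩
  have hPn : P ⊓ LinearMap.BilinForm.orthogonal B P = ⊥ := by
    rw [Submodule.eq_bot_iff]
    rintro x ⟨hx, hx'⟩
    rw [hP] at hx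
    have hxs : polar Q x s = 0 := Spinor.mem_ker_polar.1 hx.1.2
    have hxy : polar Q x y = 0 := Spinor.mem_ker_polar.1 hx.2
    refine (Submodule.eq_bot_iff _).1 hW x ⟨hx.1.1, fun z hz => ?_⟩
    show polar Q z x = 0
    have hp : z - polar Q z y • s - polar Q z s • y ∈ P := by
      rw [hP]
      refine ⟨⟨U.sub_mem (U.sub_mem hz (U.smul_mem _ hsU)) (U.smul_mem _ hy),
        Spinor.mem_ker_polar.2 ?_⟩, Spinor.mem_ker_polar.2 ?_⟩
      · rw [polar_sub_left, polar_sub_left, polar_smul_left, polar_smul_left, polar_self', hQs,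
          polar_comm Q y s, hsy]
        simp
      · rw [polar_sub_left, polar_sub_left, polar_smul_left, polar_smul_left, polar_self', hQy,
          hsy]
        simp
    have h3 : polar Q _ x = 0 := hx' _ hp
    rwa [polar_sub_left, polar_sub_left, polar_smul_left, polar_smul_left, polar_comm Q s x,
      polar_comm Q y x, hxs, hxy, smul_zero, smul_zero, sub_zero, sub_zero] at h3
  have hPd : 2 ≤ Module.finrank (ZMod 3) P := by
    rw [hP]
    have h3 := finrank_cut U ((polarBilin Q).flip s)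
    have h4 := finrank_cut (U ⊓ LinearMap.ker ((polarBilin Q).flip s)) ((polarBilin Q).flip y)
    omega
  obtain ⟨b, hb, hQb⟩ := Spinor.exists_norm (Q := Q) hPn (Or.inl hPd) hc
  rw [hP] at hb
  exact ⟨b, hb.1.1, hQb, by rw [polar_comm]; exact Spinor.mem_ker_polar.1 hb.1.2⟩

theorem exists_conj_ref {u v : W} (hu : Q u = c) (hv : Q v = c) :
    ∃ g : reflectionSubgroup (⇑Q) c, g * ref u hu hc * g⁻¹ = ref v hv hc := by
  by_cases h : polar Q u v = 0
  · have h1 : v ≠ u := fun e => polar_self_ne hc hu (e ▸ h)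
    have h2 : v ≠ -u := fun e => polar_self_ne hc hu (by
      rw [e, polar_neg_right, neg_eq_zero] at h; exact h)
    obtain ⟨hW, hd⟩ := line_orth hc hn hQ (u := u) (hu ▸ hc)
    set U := LinearMap.BilinForm.orthogonal B (Submodule.span (ZMod 3) {u})
    have hvU : v ∈ U := (mem_line_orth hn hQ).2 h
    have hd' := finrank_cut U ((polarBilin Q).flip v)
    obtain ⟨y, hy, hQy⟩ := Spinor.exists_norm (Q := Q) (cut hW hvU (hv ▸ hc))
      (Or.inl (by omega)) (neg_ne_zero.2 hc)
    have huy : polar Q u y = 0 := (mem_line_orth hn hQ).1 hy.1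
    have hvy : polar Q v y = 0 := by rw [polar_comm]; exact Spinor.mem_ker_polar.1 hy.2
    have hw : Q (u + (v + y)) = c := by
      rw [quad_add, quad_add, polar_add_right, h, huy, hvy, hu, hv, hQy]
      ring
    have hk1 : polar Q u (u + (v + y)) ≠ 0 := by
      rw [polar_add_right, polar_add_right, h, huy, add_zero, add_zero]
      exact polar_self_ne hc hu
    have hk2 : polar Q (u + (v + y)) v ≠ 0 := by
      rw [polar_comm, polar_add_right, polar_add_right, hvy, polar_comm Q v u, h, zero_add, add_zero]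
      exact polar_self_ne hc hv
    obtain ⟨g1, hg1⟩ := conj_of_polar hc hu hw hk1
    obtain ⟨g2, hg2⟩ := conj_of_polar hc hw hv hk2
    exact ⟨g2 * g1, by
      rw [show g2 * g1 * ref u hu hc * (g2 * g1)⁻¹ = g2 * (g1 * ref u hu hc * g1⁻¹) * g2⁻¹ by group,
        hg1, hg2]⟩
  · exact conj_of_polar hc hu hv h

theorem isClass : IsThreeTranspositionClass (cls Q c) := by
  obtain ⟨v, hv⟩ := OrthRows.exists_norm_all (Q := Q) hQ (by rw [Fintype.card_fin]; omega) hc
  refine ⟨three_transpositions hc, ⟨ref v hv hc, ref_mem hc hv, Set.ext fun g => ⟨fun hg => ?_,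
    fun hg => ?_⟩⟩, ?_⟩
  · obtain ⟨u, hu, rfl⟩ := exists_ref hc hg
    exact isConj_iff.2 (exists_conj_ref hc hn hQ hv hu)
  · obtain ⟨k, rfl⟩ := isConj_iff.1 hg
    rw [conj_ref]
    exact ref_mem hc _
  · exact Subgroup.closure_closure_coe_preimage

theorem exists_ne_comm : ∃ a ∈ cls Q c, ∃ b ∈ cls Q c, a ≠ b ∧ Commute a b := by
  obtain ⟨v, hv⟩ := OrthRows.exists_norm_all (Q := Q) hQ (by rw [Fintype.card_fin]; omega) hc
  obtain ⟨hW, hd⟩ := line_orth hc hn hQ (u := v) (hv ▸ hc)
  obtain ⟨w, hw, hQw⟩ := Spinor.exists_norm (Q := Q) hW (Or.inl (by omega)) hc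
  have hp : polar Q v w = 0 := (mem_line_orth hn hQ).1 hw
  refine ⟨_, ref_mem hc hv, _, ref_mem hc hQw, fun e => ?_, commute_of_polar hc hv hQw hp⟩
  have h := congrArg (fun g => (op g).1 v) e
  simp only [ref_apply, polar_self', hv, hp, mul_zero, zero_smul, sub_zero, sub_eq_self] at h
  rcases smul_eq_zero.1 h with h | h
  · exact mul_ne_zero (inv_ne_zero hc) (mul_ne_zero (by decide) hc) h
  · exact hc (by rw [← hv, h, QuadraticMap.map_zero])

theorem ref_ne {u v : W} (hu : Q u = c) (hv : Q v = c)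
    (h : ref u hu hc ≠ ref v hv hc) : v ≠ u ∧ v ≠ -u :=
  ⟨fun e => h (ref_congr hc hu hv (.inl e.symm)),
    fun e => h (ref_congr hc hu hv (.inr (by rw [e, neg_neg])))⟩

theorem eq_of_relV {d v : reflectionSubgroup (⇑Q) c} (hd : d ∈ cls Q c) (hv : v ∈ cls Q c)
    (h : Fischer3.RelV (cls Q c) d v) : d = v := by
  by_contra hne
  have hcm := Fischer3.relV_comm hd h
  obtain ⟨a, ha, rfl⟩ := exists_ref hc hd
  obtain ⟨b, hb, rfl⟩ := exists_ref hc hv
  obtain ⟨h1, h2⟩ := ref_ne hc hn hQ ha hb hne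
  have hab : polar Q a b = 0 :=
    (commute_iff hc ha hb (fun e => h1 e.symm) (fun e => h2 (by rw [e, neg_neg]))).1 hcm
  obtain ⟨hW, hdim⟩ := line_orth hc hn hQ (u := a) (ha ▸ hc)
  set U := LinearMap.BilinForm.orthogonal B (Submodule.span (ZMod 3) {a})
  have hbU : b ∈ U := (mem_line_orth hn hQ).2 hab
  have hW' := cut hW hbU (hb ▸ hc)
  have hd' := finrank_cut U ((polarBilin Q).flip b)
  obtain ⟨x, hx, hQx⟩ := Spinor.exists_norm (Q := Q) hW' (Or.inl (by omega)) hc
  have hd'' := finrank_cut (U ⊓ LinearMap.ker ((polarBilin Q).flip b)) ((polarBilin Q).flip x)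
  obtain ⟨y, hy, hQy⟩ := Spinor.exists_norm (Q := Q) (cut hW' hx (hQx ▸ hc)) (Or.inl (by omega))
    (neg_ne_zero.2 hc)
  have hbx : polar Q b x = 0 := by rw [polar_comm]; exact Spinor.mem_ker_polar.1 hx.2
  have hby : polar Q b y = 0 := by rw [polar_comm]; exact Spinor.mem_ker_polar.1 hy.1.2
  have hxy : polar Q x y = 0 := by rw [polar_comm]; exact Spinor.mem_ker_polar.1 hy.2
  have hw : Q (b + (x + y)) = c := by
    rw [quad_add, quad_add, polar_add_right, hbx, hby, hxy, hb, hQx, hQy]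
    ring
  have haw : polar Q a (b + (x + y)) = 0 :=
    (mem_line_orth hn hQ).1 (U.add_mem hbU (U.add_mem hx.1 hy.1.1))
  have hxw : polar Q x (b + (x + y)) ≠ 0 := by
    rw [polar_add_right, polar_add_right, hxy, polar_comm Q x b, hbx, zero_add, add_zero]
    exact polar_self_ne hc hQx
  have hbw : polar Q b (b + (x + y)) ≠ 0 := by
    rw [polar_add_right, polar_add_right, hbx, hby, add_zero, add_zero]
    exact polar_self_ne hc hb
  refine hbw ((commute_iff hc hb hw (fun e => hxw ?_) (fun e => hxw ?_)).1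
    ((h _ (ref_mem hc hw)).1 (commute_of_polar hc ha hw haw)))
  · rw [← e, polar_comm, hbx]
  · rw [eq_neg_iff_add_eq_zero, add_comm, ← eq_neg_iff_add_eq_zero] at e
    rw [e, polar_neg_right, polar_comm, hbx, neg_zero]

theorem eq_of_relW {d v : reflectionSubgroup (⇑Q) c} (hd : d ∈ cls Q c) (hv : v ∈ cls Q c)
    (h : Fischer3.RelW (cls Q c) d v) : d = v := by
  by_contra hne
  obtain ⟨a, ha, rfl⟩ := exists_ref hc hd
  obtain ⟨b, hb, rfl⟩ := exists_ref hc hv
  have hab : polar Q a b ≠ 0 := fun e =>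
    hne (Fischer3.relW_eq_of_commute hv h (commute_of_polar hc ha hb e))
  obtain ⟨h1, h2⟩ := ref_ne hc hn hQ ha hb hne
  obtain ⟨w, hw, haw, hbw⟩ := exists_separating hc hn hQ ha hb h1 h2
  have hwa : ref w hw hc ≠ ref a ha hc := fun e => by
    have hx := congrArg (fun g => (op g).1 a) e
    simp only [ref_apply, polar_comm Q a w, polar_self', ha] at hx
    rw [polar_comm Q w a] at hx
    simp only [haw, mul_zero, zero_smul, sub_zero] at hx
    rcases smul_eq_zero.1 (sub_eq_self.1 hx.symm) with h | h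
    · exact mul_ne_zero (inv_ne_zero hc) (mul_ne_zero (by decide) hc) h
    · exact hc (by rw [← ha, h, QuadraticMap.map_zero])
  refine hbw ((commute_iff hc hb hw (fun e => hab (e ▸ haw))
    (fun e => hab (by rw [e, polar_neg_right, haw, neg_zero]))).1
    ((h _ (ref_mem hc hw)).1 ⟨hwa, commute_of_polar hc ha hw haw⟩).2)

theorem core_central {p : ℕ} (hp : p = 2 ∨ p = 3) :
    Cfsg.pCore p ↥(reflectionSubgroup (⇑Q) c) ≤ Subgroup.center _ := by
  haveI : Fintype (reflectionSubgroup (⇑Q) c) := Fintype.ofFinite _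
  have hD := isClass hc hn hQ
  have hG := Fischer3.class_group hD
  by_contra hcon
  obtain ⟨d, hd, -⟩ := hD.2.1
  obtain ⟨g, hg, hgd⟩ := Fischer3.exists_moved hD hcon hd
  have hv : g * d * g⁻¹ ∈ cls Q c := hG.2.1 g d hd
  have hmem : d * (g * d * g⁻¹) ∈ Cfsg.pCore p _ := Fischer3.inv_mul_mem_of_conj hG hd hg
  rcases hp with rfl | rfl
  · exact hgd (eq_of_relV hc hn hQ hv hd ((Fischer3.relV_iff hG hv hd).2 hmem))
  · exact hgd (eq_of_relW hc hn hQ hv hd ((Fischer3.relW_iff hG hv hd).2 hmem))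

theorem connected : (commutingGraph (cls Q c)).Connected := by
  obtain ⟨a, ha, -⟩ := exists_ne_comm hc hn hQ
  haveI : Nonempty ↥(cls Q c) := ⟨⟨a, ha⟩⟩
  refine ⟨fun x y => ?_⟩
  have adj : ∀ x y : ↥(cls Q c), Commute (x : reflectionSubgroup (⇑Q) c) y →
      (commutingGraph (cls Q c)).Reachable x y := by
    intro x y h
    by_cases e : x = y
    · exact e ▸ SimpleGraph.Reachable.rfl
    · exact (show (commutingGraph (cls Q c)).Adj x y from ⟨e, .inl h⟩).reachable
  obtain ⟨x, hx⟩ := x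
  obtain ⟨y, hy⟩ := y
  obtain ⟨u, hu, rfl⟩ := exists_ref hc hx
  obtain ⟨v, hv, rfl⟩ := exists_ref hc hy
  by_cases h : polar Q u v = 0
  · exact adj ⟨ref u hu hc, hx⟩ ⟨ref v hv hc, hy⟩ (commute_of_polar hc hu hv h)
  · obtain ⟨w, hw, huw, hvw⟩ := exists_common_orth hc hn hQ hu hv h
    have hwv : polar Q w v = 0 := by rw [polar_comm]; exact hvw
    exact (adj ⟨ref u hu hc, hx⟩ ⟨ref w hw hc, ref_mem hc hw⟩ (commute_of_polar hc hu hw huw)).trans
      (adj ⟨ref w hw hc, ref_mem hc hw⟩ ⟨ref v hv hc, hy⟩ (commute_of_polar hc hw hv hwv))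

theorem structure_thm :
    IsQuasisimple (commutator ↥(reflectionSubgroup (⇑Q) c)) ∧
      (commutator ↥(reflectionSubgroup (⇑Q) c)).index ≤ 2 ∧
      generalizedFittingSubgroup ↥(reflectionSubgroup (⇑Q) c) =
        Subgroup.center ↥(reflectionSubgroup (⇑Q) c) ⊔ commutator ↥(reflectionSubgroup (⇑Q) c) ∧
      IsPrimitiveUnderConj (cls Q c) := by
  haveI : Fintype (reflectionSubgroup (⇑Q) c) := Fintype.ofFinite _
  have hD := isClass hc hn hQ
  have h2 := core_central hc hn hQ (.inl rfl)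
  have h3 := core_central hc hn hQ (.inr rfl)
  obtain ⟨a, ha, b, hb, hab, -⟩ := exists_ne_comm hc hn hQ
  obtain ⟨L, hLn, hL, hF⟩ :=
    Fischer3.exists_component_data hD ⟨a, ha, b, hb, hab⟩ h2 h3
  haveI := hLn
  have hidx := Fischer3.index_le_two_of_connected hD hL (connected hc hn hQ)
  have e := Fischer3.commutator_eq_of_index_le_two hL hidx
  rw [e]
  exact ⟨hL, hidx, by rw [hF, sup_comm],
    Fischer3.primitive_of_index_le_two hD ⟨a, ha, b, hb, hab⟩ h2 h3 hL hidx⟩

end Cfsg.Agent.BigExtra.Refl3
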