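import Cfsg.Agent.Lib.Spinor.Rows

/-!
# Reflections of one square class in dimension at least five
-/

set_option autoImplicit false
open Cfsg

namespace Cfsg.Agent.BigExtra

/-- Reflections with norms in one square class generate a subgroup of index two. -/
theorem reflections_index_two {F : Type*} [Field F] [Fintype F] (h2 : (2 : F) ≠ 0) {n : ℕ} (h5 : 5 ≤ n) (Q : QuadraticForm F (Fin n → F)) (hQ : (QuadraticMap.polarBilin Q).Nondegenerate) (c : F) (hc : c ≠ 0) : (Subgroup.closure {g : ↥(Cfsg.isometryGroup F ⇑Q) | ∃ (v : Fin n → F) (t : F), t ≠ 0 ∧ Q v = c * t ^ 2 ∧ ((g : Matrix.GeneralLinearGroup (Fin n) F) : Matrix (Fin n) (Fin n) F) = Cfsg.reflectionMatrix ⇑Q v}).index = 2 := by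
  classical
  have hn : 2 ≤ n := by omega
  have hexc : Fintype.card F ≠ 2 ∨ Fintype.card (Fin n) ≠ 4 := Or.inl (Spinor.card_ne_two h2)
  have hcls : ∀ x y : F, x ≠ 0 → y ≠ 0 → ((IsSquare x ↔ IsSquare y) ↔ ∃ t : F, t ≠ 0 ∧ x = y * t ^ 2) := by
    intro x y hx hy
    rw [← Spinor.isSquare_mul_iff' hx hy]
    constructor
    · rintro ⟨r, hr⟩
      refine ⟨r / y, div_ne_zero (fun e => mul_ne_zero hx hy (by rw [hr, e, mul_zero])) hy, ?_⟩
      field_simp
      linear_combination hr
    · rintro ⟨t, -, rfl⟩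
      exact ⟨y * t, by ring⟩
  obtain ⟨φ, hφ⟩ : ∃ φ : ↥(Cfsg.isometryGroup F ⇑Q) →* ℤˣ,
      φ = if IsSquare c then OrthRows.sp hQ hexc else OrthRows.sp hQ hexc * OrthRows.dk hQ hexc := ⟨_, rfl⟩
  have hφr : ∀ v (hv : Q v ≠ 0), φ (OrthRows.rf Q v hv) =
      if (IsSquare (Q v) ↔ IsSquare c) then 1 else -1 := by
    intro v hv
    rw [hφ]
    by_cases hs : IsSquare c <;> by_cases hv' : IsSquare (Q v) <;>
      simp [hs, hv', OrthRows.sp_rf hQ hexc hv, OrthRows.dk_rf hQ hexc hv]
  obtain ⟨K, hK⟩ : ∃ K, K = Subgroup.closure {g : ↥(Cfsg.isometryGroup F ⇑Q) | ∃ (v : Fin n → F) (t : F),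
      t ≠ 0 ∧ Q v = c * t ^ 2 ∧
        ((g : Matrix.GeneralLinearGroup (Fin n) F) : Matrix (Fin n) (Fin n) F) = Cfsg.reflectionMatrix ⇑Q v} :=
    ⟨_, rfl⟩
  rw [← hK]
  have hKgen : ∀ v (hv : Q v ≠ 0), (IsSquare (Q v) ↔ IsSquare c) → OrthRows.rf Q v hv ∈ K := by
    intro v hv e
    obtain ⟨t, ht, he⟩ := (hcls _ _ hv hc).1 e
    rw [hK]
    exact Subgroup.subset_closure ⟨v, t, ht, he, OrthRows.rf_val hv⟩
  have hKle : K ≤ φ.ker := by
    rw [hK, Subgroup.closure_le]
    rintro g ⟨v, t, ht, he, hg⟩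
    have hv : Q v ≠ 0 := by rw [he]; exact mul_ne_zero hc (pow_ne_zero _ ht)
    rw [OrthRows.eq_rf hv hg, SetLike.mem_coe, MonoidHom.mem_ker, hφr, if_pos]
    exact (hcls _ _ hv hc).2 ⟨t, ht, he⟩
  haveI hKn : K.Normal := by
    refine ⟨fun x hx g => ?_⟩
    rw [hK] at hx
    induction hx using Subgroup.closure_induction with
    | mem x hx =>
      obtain ⟨v, t, ht, he, hxv⟩ := hx
      have hv : Q v ≠ 0 := by rw [he]; exact mul_ne_zero hc (pow_ne_zero _ ht)
      rw [OrthRows.eq_rf hv hxv]
      have e : g * OrthRows.rf Q v hv * g⁻¹ = OrthRows.rf Q ((FormsLib.oEquiv Q g).1 v)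
          (by rw [(FormsLib.oEquiv Q g).2 v]; exact hv) := by
        refine (FormsLib.oEquiv Q).injective ?_
        simp only [OrthRows.rf, map_mul, map_inv, MulEquiv.apply_symm_apply]
        refine Subtype.ext ?_
        show (FormsLib.oEquiv Q g).1 * FormsLib.refl Q v hv * ((FormsLib.oEquiv Q g).1)⁻¹ = _
        rw [FormsLib.refl_conj Q hv (FormsLib.oEquiv Q g).2]
        rfl
      rw [e]
      refine hKgen _ _ ?_
      rw [(FormsLib.oEquiv Q g).2 v]
      exact (hcls _ _ hv hc).2 ⟨t, ht, he⟩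
    | one => simp
    | mul a b _ _ ha hb =>
      rw [show g * (a * b) * g⁻¹ = (g * a * g⁻¹) * (g * b * g⁻¹) by group]
      exact mul_mem ha hb
    | inv a _ ha =>
      rw [show g * a⁻¹ * g⁻¹ = (g * a * g⁻¹)⁻¹ by group]
      exact inv_mem ha
  have hn' : 2 ≤ Fintype.card (Fin n) := by rw [Fintype.card_fin]; exact hn
  -- products of two reflections outside the class, spanning a non-degenerate plane
  have plane : ∀ a b (ha : Q a ≠ 0) (hb : Q b ≠ 0), (IsSquare (Q a) ↔ IsSquare (Q b)) →
      QuadraticMap.polar Q a b ^ 2 ≠ 4 * (Q a * Q b) → OrthRows.rf Q a ha * OrthRows.rf Q b hb ∈ K := by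
    intro a b ha hb hab hD
    have hzero : ∀ α β : F, 2 * Q a * α + QuadraticMap.polar Q a b * β = 0 →
        QuadraticMap.polar Q a b * α + 2 * Q b * β = 0 → α = 0 ∧ β = 0 := fun α β h1 h3 => by
      have hD' : 4 * (Q a * Q b) - QuadraticMap.polar Q a b ^ 2 ≠ 0 := sub_ne_zero.2 hD.symm
      exact ⟨(mul_eq_zero.1 (show (4 * (Q a * Q b) - QuadraticMap.polar Q a b ^ 2) * α = 0 by
          linear_combination 2 * Q b * h1 - QuadraticMap.polar Q a b * h3)).resolve_left hD',
        (mul_eq_zero.1 (show (4 * (Q a * Q b) - QuadraticMap.polar Q a b ^ 2) * β = 0 by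
          linear_combination 2 * Q a * h3 - QuadraticMap.polar Q a b * h1)).resolve_left hD'⟩
    obtain ⟨P, hP⟩ : ∃ P, P = Submodule.span F (Set.range ![a, b]) := ⟨_, rfl⟩
    have haP : a ∈ P := hP ▸ Submodule.subset_span ⟨0, rfl⟩
    have hbP : b ∈ P := hP ▸ Submodule.subset_span ⟨1, rfl⟩
    have hli : LinearIndependent F ![a, b] := by
      refine LinearIndependent.pair_iff.2 fun s t e => hzero s t ?_ ?_
      · have := congrArg (QuadraticMap.polar Q a) e
        rw [QuadraticMap.polar_add_right, QuadraticMap.polar_smul_right, QuadraticMap.polar_smul_right,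
          FormsLib.polar_self', QuadraticMap.polar_zero_right, smul_eq_mul, smul_eq_mul] at this
        linear_combination this
      · have := congrArg (QuadraticMap.polar Q b) e
        rw [QuadraticMap.polar_add_right, QuadraticMap.polar_smul_right, QuadraticMap.polar_smul_right,
          FormsLib.polar_self', QuadraticMap.polar_zero_right, QuadraticMap.polar_comm Q b a, smul_eq_mul,
          smul_eq_mul] at this
        linear_combination this
    have hP2 : Module.finrank F P = 2 := by rw [hP, finrank_span_eq_card hli, Fintype.card_fin]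
    have hPn : P ⊓ LinearMap.BilinForm.orthogonal (QuadraticMap.polarBilin Q) P = ⊥ := by
      rw [Submodule.eq_bot_iff]
      rintro x ⟨hx, hx'⟩
      obtain ⟨co, rfl⟩ := Submodule.mem_span_range_iff_exists_fun F |>.1 (hP ▸ hx)
      rw [Fin.sum_univ_two]
      rw [Fin.sum_univ_two] at hx'
      have ea : QuadraticMap.polar Q a (co 0 • a + co 1 • b) = 0 := hx' a haP
      have eb : QuadraticMap.polar Q b (co 0 • a + co 1 • b) = 0 := hx' b hbP
      rw [QuadraticMap.polar_add_right, QuadraticMap.polar_smul_right, QuadraticMap.polar_smul_right,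
        FormsLib.polar_self', smul_eq_mul, smul_eq_mul] at ea eb
      rw [QuadraticMap.polar_comm Q b a] at eb
      obtain ⟨e0, e1⟩ := hzero (co 0) (co 1) (by linear_combination ea) (by linear_combination eb)
      simp [e0, e1]
    obtain ⟨e, heP, he⟩ := Spinor.exists_norm (Q := Q) hPn (Or.inl hP2.ge) hc
    have he0 : Q e ≠ 0 := he.symm ▸ hc
    have heK : OrthRows.rf Q e he0 ∈ K := hKgen e he0 (by rw [he])
    obtain ⟨g, hg⟩ : ∃ g, g = OrthRows.rf Q a ha * OrthRows.rf Q b hb * OrthRows.rf Q e he0 := ⟨_, rfl⟩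
    suffices hgK : g ∈ K by
      have := mul_mem hgK heK
      rwa [hg, mul_assoc _ (OrthRows.rf Q e he0), OrthRows.rf_mul_self, mul_one] at this
    -- `g` is a reflection
    obtain ⟨σ, hσ⟩ : ∃ σ, σ = FormsLib.oEquiv Q g := ⟨_, rfl⟩
    have hσ' : σ = FormsLib.oRefl Q a ha * FormsLib.oRefl Q b hb * FormsLib.oRefl Q e he0 := by
      simp [hσ, hg, OrthRows.rf]
    have hdk : Spinor.dick σ = -1 := by
      rw [hσ]
      show OrthRows.dk hQ hexc g = -1
      rw [hg, map_mul, map_mul, OrthRows.dk_rf hQ hexc, OrthRows.dk_rf hQ hexc, OrthRows.dk_rf hQ hexc]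
      rfl
    have hrk : Spinor.rk σ.1 ≤ 2 := by
      have hle : LinearMap.BilinForm.orthogonal (QuadraticMap.polarBilin Q) P ≤ Spinor.fixS σ.1 := by
        intro x hx
        have hxv : ∀ v ∈ P, QuadraticMap.polar Q x v = 0 := fun v hv => by
          rw [QuadraticMap.polar_comm]; exact hx v hv
        rw [Spinor.mem_fixS, hσ']
        show FormsLib.refl Q a ha (FormsLib.refl Q b hb (FormsLib.refl Q e he0 x)) = x
        rw [FormsLib.refl_fix Q he0 (hxv e heP), FormsLib.refl_fix Q hb (hxv b hbP),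
          FormsLib.refl_fix Q ha (hxv a haP)]
      have h1 := Submodule.finrank_mono hle
      rw [Spinor.finrank_orth hQ, hP2] at h1
      have h3 := Spinor.rk_add σ.1
      omega
    have hrk1 : Spinor.rk σ.1 = 1 := by
      unfold Spinor.dick at hdk
      interval_cases hr : Spinor.rk σ.1
      · simp at hdk
      · rfl
      · simp at hdk
    obtain ⟨f, hf, hf0⟩ : ∃ f ∈ Spinor.mov σ.1, Q f ≠ 0 := by
      by_contra hno
      push Not at hno
      exact Spinor.not_rk_eq_one σ.2 hQ hno hrk1
    have hσf : σ = FormsLib.oRefl Q f hf0 := by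
      have h1 := Spinor.rk_mul_refl_of_mem σ.2 hf0 hf
      rw [hrk1] at h1
      have h3 : σ.1 * FormsLib.refl Q f hf0 = 1 := Spinor.eq_one_of_rk_eq_zero (by omega)
      refine Subtype.ext ?_
      rw [eq_inv_of_mul_eq_one_left h3, FormsLib.refl_inv]
      rfl
    have hgf : g = OrthRows.rf Q f hf0 := by rw [OrthRows.rf, ← hσf, hσ, MulEquiv.symm_apply_apply]
    rw [hgf]
    refine hKgen f hf0 ?_
    by_contra hne
    have h1 := hφr f hf0
    rw [if_neg hne, ← hgf, hg, map_mul, map_mul, hφr, hφr, hφr, he, if_pos Iff.rfl, mul_one] at h1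
    by_cases hac : IsSquare (Q a) ↔ IsSquare c
    · rw [if_pos hac, if_pos (hab.symm.trans hac)] at h1
      exact absurd h1 (by decide)
    · rw [if_neg hac, if_neg (fun e => hac (hab.trans e))] at h1
      exact absurd h1 (by decide)
  -- all pairs in the other class
  have pair : ∀ a b (ha : Q a ≠ 0) (hb : Q b ≠ 0), (IsSquare (Q a) ↔ IsSquare (Q b)) →
      OrthRows.rf Q a ha * OrthRows.rf Q b hb ∈ K := by
    intro a b₀ ha hb₀ hab
    by_cases hD : QuadraticMap.polar Q a b₀ ^ 2 ≠ 4 * (Q a * Q b₀)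
    · exact plane a b₀ ha hb₀ hab hD
    push Not at hD
    -- normalise `b₀`
    have hB0 : QuadraticMap.polar Q a b₀ ≠ 0 := fun e => by
      rw [e, zero_pow two_ne_zero] at hD
      have h4 : (4 : F) ≠ 0 := by rw [show (4 : F) = 2 * 2 by norm_num]; exact mul_ne_zero h2 h2
      exact mul_ne_zero h4 (mul_ne_zero ha hb₀) hD.symm
    obtain ⟨s, hs⟩ : ∃ s, s = 2 * Q a / QuadraticMap.polar Q a b₀ := ⟨_, rfl⟩
    have hs0 : s ≠ 0 := hs ▸ div_ne_zero (mul_ne_zero h2 ha) hB0
    have hQb : Q (s • b₀) = Q a := by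
      rw [QuadraticMap.map_smul, smul_eq_mul, hs]
      field_simp
      linear_combination -(1 : F) * hD
    have hb : Q (s • b₀) ≠ 0 := hQb.symm ▸ ha
    have erf : OrthRows.rf Q (s • b₀) hb = OrthRows.rf Q b₀ hb₀ := by
      rw [OrthRows.rf, OrthRows.rf, Spinor.oRefl_smul hb₀ hs0]
    rw [← erf]
    obtain ⟨b, hbdef⟩ : ∃ b, b = s • b₀ := ⟨_, rfl⟩
    have hBab : QuadraticMap.polar Q a b = 2 * Q a := by
      rw [hbdef, QuadraticMap.polar_smul_right, smul_eq_mul, hs, div_mul_cancel₀ _ hB0]
    rw [← hbdef] at hQb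
    simp only [← hbdef]
    obtain ⟨z, hz⟩ : ∃ z, z = b - a := ⟨_, rfl⟩
    have hbz : b = a + z := by rw [hz]; abel
    have haz : QuadraticMap.polar Q a z = 0 := by
      rw [hbz, QuadraticMap.polar_add_right, FormsLib.polar_self'] at hBab
      linear_combination hBab
    have hQz : Q z = 0 := by
      rw [hbz, QuadraticMap.map_add Q, haz, add_zero] at hQb
      linear_combination hQb
    by_cases hz0 : z = 0
    · have hba : b = a := by rw [hbz, hz0, add_zero]
      subst hba
      rw [OrthRows.rf_mul_self]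
      exact one_mem _
    -- a singular partner of `z` orthogonal to `a`
    obtain ⟨y₀, hy₀⟩ : ∃ y, QuadraticMap.polar Q z y ≠ 0 := by
      by_contra hno
      push Not at hno
      exact hz0 (hQ.1 z hno)
    obtain ⟨y, hy⟩ : ∃ y, y = (QuadraticMap.polar Q z y₀)⁻¹ •
        (y₀ - (QuadraticMap.polar Q a y₀ / (2 * Q a)) • a) := ⟨_, rfl⟩
    have hza : QuadraticMap.polar Q z a = 0 := by rw [QuadraticMap.polar_comm, haz]
    have hay : QuadraticMap.polar Q a y = 0 := by
      rw [hy, QuadraticMap.polar_smul_right, QuadraticMap.polar_sub_right, QuadraticMap.polar_smul_right,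
        FormsLib.polar_self', smul_eq_mul, smul_eq_mul, div_mul_cancel₀ _ (mul_ne_zero h2 ha), sub_self,
        mul_zero]
    have hzy : QuadraticMap.polar Q z y = 1 := by
      rw [hy, QuadraticMap.polar_smul_right, QuadraticMap.polar_sub_right, QuadraticMap.polar_smul_right,
        hza, smul_zero, sub_zero, smul_eq_mul, inv_mul_cancel₀ hy₀]
    have hzz : QuadraticMap.polar Q z z = 0 := by rw [FormsLib.polar_self', hQz, mul_zero]
    obtain ⟨f, hf⟩ : ∃ f, f = y - Q y • z := ⟨_, rfl⟩
    have hzf : QuadraticMap.polar Q z f = 1 := by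
      rw [hf, QuadraticMap.polar_sub_right, QuadraticMap.polar_smul_right, hzy, hzz, smul_zero, sub_zero]
    have haf : QuadraticMap.polar Q a f = 0 := by
      rw [hf, QuadraticMap.polar_sub_right, QuadraticMap.polar_smul_right, hay, haz, smul_zero, sub_zero]
    have hQf : Q f = 0 := by
      rw [hf, sub_eq_add_neg, ← neg_smul, QuadraticMap.map_add Q, QuadraticMap.map_smul, hQz, smul_zero,
        add_zero, QuadraticMap.polar_smul_right, QuadraticMap.polar_comm Q y z, hzy]
      simp
    suffices he : ∃ e, Q e = Q a ∧ QuadraticMap.polar Q a e = 0 ∧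
        QuadraticMap.polar Q z e ^ 2 ≠ 4 * (Q a * Q a) by
      obtain ⟨e, hQe, hae, hze⟩ := he
      have he0 : Q e ≠ 0 := hQe.symm ▸ ha
      have h4 : (4 : F) ≠ 0 := by rw [show (4 : F) = 2 * 2 by norm_num]; exact mul_ne_zero h2 h2
      have k1 := plane a e ha he0 (by rw [hQe]) (by
        rw [hae, zero_pow two_ne_zero, hQe]
        exact (mul_ne_zero h4 (mul_ne_zero ha ha)).symm)
      have k3 := plane e b he0 (hQb.symm ▸ ha) (by rw [hQe, hQb]) (by
        rw [hQe, hQb, hbz, QuadraticMap.polar_add_right, QuadraticMap.polar_comm Q e a, hae, zero_add,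
          QuadraticMap.polar_comm Q e z]
        exact hze)
      have := mul_mem k1 k3
      rwa [mul_assoc, ← mul_assoc (OrthRows.rf Q e he0), OrthRows.rf_mul_self, one_mul] at this
    by_cases hq : 3 < Fintype.card F
    · obtain ⟨t, ht⟩ : ∃ t : F, t ∉ ({0, 2 * Q a, -(2 * Q a)} : Finset F) := by
        by_contra hc'
        push Not at hc'
        have h1 := Finset.card_le_card (s := (Finset.univ : Finset F))
          (t := ({0, 2 * Q a, -(2 * Q a)} : Finset F)) (fun x _ => hc' x)
        have h3 := Finset.card_le_three (a := (0 : F)) (b := 2 * Q a) (c := -(2 * Q a))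
        rw [Finset.card_univ] at h1
        omega
      simp only [Finset.mem_insert, Finset.mem_singleton, not_or] at ht
      refine ⟨(Q a / t) • z + t • f, ?_, ?_, ?_⟩
      · rw [QuadraticMap.map_add Q, QuadraticMap.map_smul, QuadraticMap.map_smul, hQz, hQf,
          QuadraticMap.polar_smul_left, QuadraticMap.polar_smul_right, hzf]
        simp [ht.1]
      · rw [QuadraticMap.polar_add_right, QuadraticMap.polar_smul_right, QuadraticMap.polar_smul_right, haz,
          haf, smul_zero, smul_zero, add_zero]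
      · rw [QuadraticMap.polar_add_right, QuadraticMap.polar_smul_right, QuadraticMap.polar_smul_right, hzz,
          hzf, smul_zero, zero_add, smul_eq_mul, mul_one]
        intro e
        rcases mul_eq_zero.1 (show (t - 2 * Q a) * (t + 2 * Q a) = 0 by linear_combination e) with h | h
        · exact ht.2.1 (sub_eq_zero.1 h)
        · exact ht.2.2 (eq_neg_of_add_eq_zero_left h)
    · -- three elements: the orthogonal complement of `a, z, f`
      obtain ⟨W, hW⟩ : ∃ W, W = LinearMap.BilinForm.orthogonal (QuadraticMap.polarBilin Q)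
          (Submodule.span F (Set.range ![a, z, f])) := ⟨_, rfl⟩
      have hWperp : ∀ x ∈ W, QuadraticMap.polar Q a x = 0 ∧ QuadraticMap.polar Q z x = 0 ∧
          QuadraticMap.polar Q f x = 0 := fun x hx => by
        rw [hW] at hx
        exact ⟨hx a (Submodule.subset_span ⟨0, rfl⟩), hx z (Submodule.subset_span ⟨1, rfl⟩),
          hx f (Submodule.subset_span ⟨2, rfl⟩)⟩
      have hWn : W ⊓ LinearMap.BilinForm.orthogonal (QuadraticMap.polarBilin Q) W = ⊥ := by
        rw [Submodule.eq_bot_iff]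
        rintro x ⟨hx, hx'⟩
        obtain ⟨xa, xz, xf⟩ := hWperp x hx
        refine hQ.2 x fun v => ?_
        obtain ⟨v', hv'⟩ : ∃ v', v' = v - (QuadraticMap.polar Q a v / (2 * Q a)) • a -
            QuadraticMap.polar Q f v • z - QuadraticMap.polar Q z v • f := ⟨_, rfl⟩
        have hv'W : v' ∈ W := by
          rw [hW]
          intro w hw
          obtain ⟨co, rfl⟩ := Submodule.mem_span_range_iff_exists_fun F |>.1 hw
          show QuadraticMap.polar Q _ v' = 0
          have e1 : QuadraticMap.polar Q a v' = 0 := by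
            rw [hv']
            simp only [QuadraticMap.polar_sub_right, QuadraticMap.polar_smul_right, FormsLib.polar_self',
              haz, haf, smul_eq_mul]
            field_simp
            ring
          have e2 : QuadraticMap.polar Q z v' = 0 := by
            rw [hv']
            simp [QuadraticMap.polar_sub_right, QuadraticMap.polar_smul_right, hza, hzz, hzf]
          have e3 : QuadraticMap.polar Q f v' = 0 := by
            rw [hv']
            simp [QuadraticMap.polar_sub_right, QuadraticMap.polar_smul_right, QuadraticMap.polar_comm Q f a,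
              haf, QuadraticMap.polar_comm Q f z, hzf, hQf, FormsLib.polar_self']
          rw [Fin.sum_univ_three]
          simp [QuadraticMap.polar_add_left, QuadraticMap.polar_smul_left, e1, e2, e3]
        have h1 : QuadraticMap.polar Q v' x = 0 := hx' v' hv'W
        rw [hv', QuadraticMap.polar_sub_left, QuadraticMap.polar_sub_left, QuadraticMap.polar_sub_left,
          QuadraticMap.polar_smul_left, QuadraticMap.polar_smul_left, QuadraticMap.polar_smul_left, xa, xz,
          xf, smul_zero, smul_zero, smul_zero, sub_zero, sub_zero, sub_zero] at h1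
        exact h1
      have hdimW : 2 ≤ Module.finrank F W ∨ ((2 : F) = 0 ∧ 1 ≤ Module.finrank F W) := by
        left
        rw [hW, Spinor.finrank_orth hQ, Module.finrank_fin_fun]
        have h1 : Module.finrank F ↥(Submodule.span F (Set.range ![a, z, f])) ≤ 3 :=
          (finrank_range_le_card ![a, z, f]).trans (by simp)
        have hq3 : Fintype.card F = 3 := by
          have := Spinor.card_ne_two h2
          have := Fintype.one_lt_card (α := F)
          omega
        omega
      obtain ⟨e, heW, hQe⟩ := Spinor.exists_norm (Q := Q) hWn hdimW ha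
      obtain ⟨ea, ez, -⟩ := hWperp e heW
      refine ⟨e, hQe, ea, ?_⟩
      rw [ez, zero_pow two_ne_zero]
      have h4 : (4 : F) ≠ 0 := by rw [show (4 : F) = 2 * 2 by norm_num]; exact mul_ne_zero h2 h2
      exact (mul_ne_zero h4 (mul_ne_zero ha ha)).symm
  -- conclusion
  obtain ⟨d, hd, hdc⟩ : ∃ d : F, d ≠ 0 ∧ ¬ (IsSquare d ↔ IsSquare c) := by
    obtain ⟨d, hd, hdn⟩ := Spinor.exists_nonsquare h2
    by_cases hs : IsSquare c
    · exact ⟨d, hd, fun e => hdn (e.2 hs)⟩
    · exact ⟨1, one_ne_zero, fun e => hs (e.1 IsSquare.one)⟩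
  obtain ⟨a₀, ha₀⟩ := OrthRows.exists_norm_all hQ hn' hd
  have ha₀0 : Q a₀ ≠ 0 := ha₀.symm ▸ hd
  obtain ⟨r, hr⟩ : ∃ r, r = OrthRows.rf Q a₀ ha₀0 := ⟨_, rfl⟩
  have hrr : r * r = 1 := hr ▸ OrthRows.rf_mul_self ha₀0
  have hφ0 : φ r = -1 := by rw [hr, hφr, ha₀, if_neg hdc]
  have hall : ∀ g, g ∈ K ∨ g * r ∈ K := by
    intro g
    have hmem : g ∈ (⊤ : Subgroup ↥(Cfsg.isometryGroup F ⇑Q)) := Subgroup.mem_top g
    rw [← OrthRows.closure_rf hQ hexc] at hmem
    have hcase : ∀ x (hx : Q x ≠ 0), OrthRows.rf Q x hx ∈ K ∨ OrthRows.rf Q x hx * r ∈ K := by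
      intro x hx
      by_cases e : IsSquare (Q x) ↔ IsSquare c
      · exact Or.inl (hKgen x hx e)
      · refine Or.inr (hr ▸ pair x a₀ hx ha₀0 ?_)
        rw [ha₀]
        tauto
    have step : ∀ x (hx : Q x ≠ 0) y, (y ∈ K ∨ y * r ∈ K) →
        (OrthRows.rf Q x hx * y ∈ K ∨ OrthRows.rf Q x hx * y * r ∈ K) := by
      intro x hx y hy
      rcases hcase x hx with h1 | h1 <;> rcases hy with h3 | h3
      · exact Or.inl (mul_mem h1 h3)
      · exact Or.inr (by rw [mul_assoc]; exact mul_mem h1 h3)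
      · refine Or.inr ?_
        have := mul_mem h1 (hKn.conj_mem y h3 r⁻¹)
        rwa [inv_inv, ← mul_assoc, ← mul_assoc, mul_assoc (OrthRows.rf Q x hx) r r⁻¹, mul_inv_cancel,
          mul_one] at this
      · refine Or.inl ?_
        have := mul_mem h1 (hKn.conj_mem _ h3 r)
        rwa [mul_inv_eq_of_eq_mul (show r * (y * r) = r * y * r by rw [mul_assoc]), ← mul_assoc,
          mul_assoc (OrthRows.rf Q x hx) r r, hrr, mul_one] at this
    induction hmem using Subgroup.closure_induction_left with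
    | one => exact Or.inl (one_mem K)
    | mul_left x hx y _ hy =>
      obtain ⟨v, hv, hxv⟩ := hx
      rw [OrthRows.eq_rf hv hxv]
      exact step v hv y hy
    | inv_mul_cancel x hx y _ hy =>
      obtain ⟨v, hv, hxv⟩ := hx
      rw [OrthRows.eq_rf hv hxv, OrthRows.rf_inv]
      exact step v hv y hy
  have hKeq : K = φ.ker := by
    refine le_antisymm hKle fun g hg => (hall g).resolve_right fun e => ?_
    have := hKle e
    rw [MonoidHom.mem_ker, map_mul, MonoidHom.mem_ker.1 hg, hφ0, one_mul] at this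
    exact absurd this (by decide)
  have hrange : φ.range = ⊤ := by
    rw [eq_top_iff]
    intro e _
    rcases Int.units_eq_one_or e with rfl | rfl
    · exact one_mem _
    · exact ⟨r, hφ0⟩
  rw [hKeq, Subgroup.index_ker, hrange, Subgroup.card_top, Nat.card_eq_fintype_card]
  rfl

end Cfsg.Agent.BigExtra
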