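import Cfsg.Agent.Lib.BigExtra.Criteria

/-!
# The centralizer of a transvection over the field with two elements
-/

set_option autoImplicit false
set_option linter.unusedSectionVars false

open scoped commutatorElement Matrix

namespace Cfsg.Agent.BigExtra.SLModel

open Matrix

variable {n : ℕ}

abbrev SLt (n : ℕ) := Matrix.SpecialLinearGroup (Fin n) (ZMod 2)

/-- The matrices in block form. -/
def blk (a : Fin n → ZMod 2) (b : ZMod 2) (c : Fin n → ZMod 2) (D : Matrix (Fin n) (Fin n) (ZMod 2)) :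
    Matrix (Fin (n + 2)) (Fin (n + 2)) (ZMod 2) :=
  Matrix.of (Fin.cons (Fin.cons 1 (Fin.cons b a))
    (Fin.cons (Fin.cons 0 (Fin.cons 1 0)) fun i => Fin.cons 0 (Fin.cons (c i) (D i))))

section apply
variable (a : Fin n → ZMod 2) (b : ZMod 2) (c : Fin n → ZMod 2) (D : Matrix (Fin n) (Fin n) (ZMod 2))
  (i j : Fin n)

@[simp] theorem blk00 : blk a b c D 0 0 = 1 := rfl
@[simp] theorem blk01 : blk a b c D 0 1 = b := by rw [← Fin.succ_zero_eq_one]; rfl
@[simp] theorem blk02 : blk a b c D 0 j.succ.succ = a j := rfl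
@[simp] theorem blk10 : blk a b c D 1 0 = 0 := by rw [← Fin.succ_zero_eq_one]; rfl
@[simp] theorem blk11 : blk a b c D 1 1 = 1 := by rw [← Fin.succ_zero_eq_one]; rfl
@[simp] theorem blk12 : blk a b c D 1 j.succ.succ = 0 := by rw [← Fin.succ_zero_eq_one]; rfl
@[simp] theorem blk20 : blk a b c D i.succ.succ 0 = 0 := rfl
@[simp] theorem blk21 : blk a b c D i.succ.succ 1 = c i := by rw [← Fin.succ_zero_eq_one]; rfl
@[simp] theorem blk22 : blk a b c D i.succ.succ j.succ.succ = D i j := rfl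

end apply

theorem cases3 {P : Fin (n + 2) → Prop} (h0 : P 0) (h1 : P 1)
    (h2 : ∀ i : Fin n, P i.succ.succ) (i : Fin (n + 2)) : P i :=
  Fin.cases h0 (fun k => Fin.cases (motive := fun k => P k.succ) (Fin.succ_zero_eq_one (n := n) ▸ h1) h2 k) i

@[simp] theorem one_ne (i : Fin n) : (1 : Fin (n + 2)) ≠ i.succ.succ := by
  rw [← Fin.succ_zero_eq_one]
  exact fun h => Fin.succ_ne_zero i (Fin.succ_inj.1 h).symm

@[simp] theorem ne_one (i : Fin n) : i.succ.succ ≠ (1 : Fin (n + 2)) := (one_ne i).symm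

theorem blk_mul (a a' : Fin n → ZMod 2) (b b' : ZMod 2) (c c' : Fin n → ZMod 2)
    (D D' : Matrix (Fin n) (Fin n) (ZMod 2)) :
    blk a b c D * blk a' b' c' D' =
      blk (a' + a ᵥ* D') (b' + b + a ⬝ᵥ c') (c + D *ᵥ c') (D * D') := by
  ext i j
  rw [Matrix.mul_apply, Fin.sum_univ_succ, Fin.sum_univ_succ]
  induction i using cases3 <;> induction j using cases3 <;>
    simp [Matrix.mul_apply, Matrix.mulVec, Matrix.vecMul, dotProduct, add_assoc]

theorem blk_one : blk (0 : Fin n → ZMod 2) 0 0 1 = 1 := by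
  ext i j
  induction i using cases3 <;> induction j using cases3 <;>
    simp [Matrix.one_apply, Fin.succ_ne_zero, Ne.symm (Fin.succ_ne_zero _)]

theorem blk_inj {a a' : Fin n → ZMod 2} {b b' : ZMod 2} {c c' : Fin n → ZMod 2}
    {D D' : Matrix (Fin n) (Fin n) (ZMod 2)} (h : blk a b c D = blk a' b' c' D') :
    a = a' ∧ b = b' ∧ c = c' ∧ D = D' := by
  refine ⟨funext fun j => ?_, ?_, funext fun i => ?_, Matrix.ext fun i j => ?_⟩
  · simpa using congrFun (congrFun h 0) j.succ.succ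
  · simpa using congrFun (congrFun h 0) (Fin.succ 0)
  · simpa using congrFun (congrFun h i.succ.succ) (Fin.succ 0)
  · simpa using congrFun (congrFun h i.succ.succ) j.succ.succ

theorem addf (a : Fin n → ZMod 2) : a + a = 0 := funext fun _ => CharTwo.add_self_eq_zero _

theorem eq_one_of_ne {x : ZMod 2} (h : x ≠ 0) : x = 1 := by
  revert h; revert x; decide

/-- A block element of the special linear group. -/
def el (a : Fin n → ZMod 2) (b : ZMod 2) (c : Fin n → ZMod 2) (D : SLt n) : SLt (n + 2) :=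
  ⟨blk a b c D, eq_one_of_ne (Matrix.det_ne_zero_of_right_inverse
    (B := blk (a ᵥ* (D⁻¹ : SLt n).1) (b + a ⬝ᵥ ((D⁻¹ : SLt n).1 *ᵥ c)) ((D⁻¹ : SLt n).1 *ᵥ c)
      (D⁻¹ : SLt n).1) (by
    rw [blk_mul, addf, add_right_comm b _ b, CharTwo.add_self_eq_zero, zero_add,
      CharTwo.add_self_eq_zero, Matrix.mulVec_mulVec, ← Matrix.SpecialLinearGroup.coe_mul,
      mul_inv_cancel, Matrix.SpecialLinearGroup.coe_one, Matrix.one_mulVec, addf, blk_one]))⟩

theorem el_mul (a a' : Fin n → ZMod 2) (b b' : ZMod 2) (c c' : Fin n → ZMod 2) (D D' : SLt n) :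
    el a b c D * el a' b' c' D' =
      el (a' + a ᵥ* D'.1) (b' + b + a ⬝ᵥ c') (c + D.1 *ᵥ c') (D * D') :=
  Subtype.ext (blk_mul a a' b b' c c' D.1 D'.1)

theorem el_one : el (0 : Fin n → ZMod 2) 0 0 1 = 1 := Subtype.ext blk_one

theorem el_mul_one (a a' : Fin n → ZMod 2) (b b' : ZMod 2) (c c' : Fin n → ZMod 2) :
    el a b c 1 * el a' b' c' (1 : SLt n) = el (a' + a) (b' + b + a ⬝ᵥ c') (c + c') 1 := by
  rw [el_mul, mul_one]
  simp

theorem el_inj {a a' : Fin n → ZMod 2} {b b' : ZMod 2} {c c' : Fin n → ZMod 2} {D D' : SLt n}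
    (h : el a b c D = el a' b' c' D') : a = a' ∧ b = b' ∧ c = c' ∧ D = D' := by
  obtain ⟨h1, h2, h3, h4⟩ := blk_inj (congrArg Subtype.val h)
  exact ⟨h1, h2, h3, Subtype.ext h4⟩

/-- The transvection. -/
def zt : SLt (n + 2) := el 0 1 0 1

theorem zt_val : (zt : SLt (n + 2)).1 = Matrix.transvection 0 1 1 := by
  show blk 0 1 0 1 = _
  rw [show (1 : Fin (n + 2)) = Fin.succ 0 from rfl]
  ext i j
  induction i using cases3 <;> induction j using cases3 <;>
    simp [Matrix.transvection, Matrix.single_apply, Matrix.one_apply, Fin.succ_ne_zero,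
      Ne.symm (Fin.succ_ne_zero _)]

theorem el_comm_zt (a : Fin n → ZMod 2) (b : ZMod 2) (c : Fin n → ZMod 2) (D : SLt n) :
    Commute (el a b c D) zt := by
  show el a b c D * el 0 1 0 1 = el 0 1 0 1 * el a b c D
  rw [el_mul, el_mul]
  simp [add_comm]

theorem exists_el {g : SLt (n + 2)} (hg : Commute g zt) : ∃ a b c D, g = el a b c D := by
  have shape : ∀ g : SLt (n + 2), Commute g zt →
      (g : Matrix _ _ (ZMod 2)) = blk (fun j => g.1 0 j.succ.succ) (g.1 0 (Fin.succ 0))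
        (fun i => g.1 i.succ.succ (Fin.succ 0)) (Matrix.of fun i j => g.1 i.succ.succ j.succ.succ) := by
    intro g hg
    have e : g.1 * Matrix.transvection 0 (Fin.succ 0) 1 =
        Matrix.transvection 0 (Fin.succ 0) 1 * g.1 := by
      have := congrArg Subtype.val hg.eq
      rwa [Matrix.SpecialLinearGroup.coe_mul, Matrix.SpecialLinearGroup.coe_mul, zt_val] at this
    rw [Matrix.transvection, mul_add, add_mul, mul_one, one_mul, add_right_inj] at e
    have h0 : ∀ k, k ≠ 0 → g.1 k 0 = 0 := fun k hk => by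
      have := congrFun (congrFun e k) (Fin.succ 0)
      rwa [Matrix.mul_single_apply_same, Matrix.single_mul_apply_of_ne _ _ _ _ _ hk, mul_one] at this
    have h1 : ∀ l, l ≠ Fin.succ 0 → g.1 (Fin.succ 0) l = 0 := fun l hl => by
      have := congrFun (congrFun e 0) l
      rw [Matrix.mul_single_apply_of_ne _ _ _ _ _ hl, Matrix.single_mul_apply_same, one_mul] at this
      exact this.symm
    have h00 : g.1 0 0 = 1 := eq_one_of_ne fun h => by
      have hd : g.1.det = 0 := Matrix.det_eq_zero_of_column_eq_zero 0 fun k => by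
        rcases eq_or_ne k 0 with rfl | hk
        exacts [h, h0 k hk]
      rw [g.2] at hd
      exact one_ne_zero hd
    have h11 : g.1 (Fin.succ 0) (Fin.succ 0) = 1 := by
      have := congrFun (congrFun e 0) (Fin.succ 0)
      rw [Matrix.mul_single_apply_same, Matrix.single_mul_apply_same, mul_one, one_mul] at this
      rw [← this, h00]
    rw [Fin.succ_zero_eq_one] at h11
    have h11' := h11
    have h10 : g.1 1 0 = 0 := by
      rw [← Fin.succ_zero_eq_one]; exact h1 0 (Ne.symm (Fin.succ_ne_zero _))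
    have h1' : ∀ l : Fin n, g.1 1 l.succ.succ = 0 := fun l => by
      rw [← Fin.succ_zero_eq_one]
      exact h1 _ fun e => Fin.succ_ne_zero l (Fin.succ_inj.1 e)
    refine Matrix.ext fun i j => ?_
    induction i using cases3 with
    | h0 => induction j using cases3 <;> simp [h00]
    | h1 => induction j using cases3 <;>
        simp [h11', h1', h10]
    | h2 i => induction j using cases3 <;> simp [h0, Fin.succ_ne_zero]
  have h1 := shape g hg
  have h2 := shape g⁻¹ hg.inv_left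
  set D : Matrix (Fin n) (Fin n) (ZMod 2) := Matrix.of fun i j => g.1 i.succ.succ j.succ.succ
  set D' : Matrix (Fin n) (Fin n) (ZMod 2) := Matrix.of fun i j => (g⁻¹).1 i.succ.succ j.succ.succ
  have hDD : D * D' = 1 := by
    have e := congrArg Subtype.val (mul_inv_cancel g)
    rw [Matrix.SpecialLinearGroup.coe_mul, h1, h2, blk_mul, Matrix.SpecialLinearGroup.coe_one,
      ← blk_one] at e
    exact (blk_inj e).2.2.2
  exact ⟨_, _, _, ⟨D, eq_one_of_ne (Matrix.det_ne_zero_of_right_inverse hDD)⟩, Subtype.ext h1⟩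

theorem mem_cent_iff {g : SLt (n + 2)} :
    g ∈ Subgroup.centralizer ({zt} : Set (SLt (n + 2))) ↔ ∃ a b c D, g = el a b c D :=
  ⟨fun h => exists_el (Subgroup.mem_centralizer_singleton_iff.1 h),
    fun ⟨a, b, c, D, e⟩ => Subgroup.mem_centralizer_singleton_iff.2 (e ▸ (el_comm_zt a b c D).eq)⟩

theorem el_inv_one (a : Fin n → ZMod 2) (b : ZMod 2) (c : Fin n → ZMod 2) :
    (el a b c (1 : SLt n))⁻¹ = el a (b + a ⬝ᵥ c) c 1 := by
  refine inv_eq_of_mul_eq_one_right ?_
  rw [el_mul_one, add_right_comm b (a ⬝ᵥ c) b, CharTwo.add_self_eq_zero (R := ZMod 2), zero_add,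
    CharTwo.add_self_eq_zero (R := ZMod 2), addf, addf, el_one]

/-- The radical. -/
def rad (n : ℕ) : Subgroup (SLt (n + 2)) where
  carrier := {g | ∃ a b c, g = el a b c 1}
  one_mem' := ⟨0, 0, 0, el_one.symm⟩
  mul_mem' := by
    rintro _ _ ⟨a, b, c, rfl⟩ ⟨a', b', c', rfl⟩
    exact ⟨_, _, _, el_mul_one a a' b b' c c'⟩
  inv_mem' := by
    rintro _ ⟨a, b, c, rfl⟩
    exact ⟨_, _, _, el_inv_one a b c⟩

/-- The complement. -/
def kemb (n : ℕ) : SLt n →* SLt (n + 2) :=
  MonoidHom.mk' (fun D => el 0 0 0 D) fun D D' => by rw [el_mul]; simp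

theorem kemb_injective : Function.Injective (kemb n) := fun _ _ h => (el_inj h).2.2.2

theorem rad_le : rad n ≤ Subgroup.centralizer ({zt} : Set (SLt (n + 2))) := by
  rintro _ ⟨a, b, c, rfl⟩
  exact mem_cent_iff.2 ⟨a, b, c, 1, rfl⟩

theorem decomp (a : Fin n → ZMod 2) (b : ZMod 2) (c : Fin n → ZMod 2) (D : SLt n) :
    el a b c D = el (a ᵥ* (D⁻¹ : SLt n).1) b c 1 * kemb n D := by
  show _ = el _ _ _ 1 * el 0 0 0 D
  rw [el_mul, one_mul, Matrix.vecMul_vecMul, ← Matrix.SpecialLinearGroup.coe_mul, inv_mul_cancel]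
  simp

theorem rad_normal : ∀ g, Commute g zt → ∀ q ∈ rad n, g * q * g⁻¹ ∈ rad n := by
  rintro g hg _ ⟨a, b, c, rfl⟩
  obtain ⟨a', b', c', D, rfl⟩ := exists_el hg
  obtain ⟨a'', b'', c'', D'', e⟩ := exists_el hg.inv_left
  have hD : D * D'' = 1 := by
    have h := mul_inv_cancel (el a' b' c' D)
    rw [e, el_mul, ← el_one] at h
    exact (el_inj h).2.2.2
  rw [e, el_mul, el_mul, mul_one, hD]
  exact ⟨_, _, _, rfl⟩

theorem card_rad : Nat.card (rad n) = 2 ^ (2 * n + 1) := by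
  have e : Nat.card ((Fin n → ZMod 2) × ZMod 2 × (Fin n → ZMod 2)) = Nat.card (rad n) :=
    Nat.card_congr (Equiv.ofBijective (fun v => ⟨el v.1 v.2.1 v.2.2 1, _, _, _, rfl⟩)
      ⟨fun v w h => by
        obtain ⟨h1, h2, h3, -⟩ := el_inj (congrArg Subtype.val h)
        exact Prod.ext h1 (Prod.ext h2 h3),
      fun ⟨g, a, b, c, hg⟩ => ⟨(a, b, c), Subtype.ext hg.symm⟩⟩)
  rw [← e, Nat.card_prod, Nat.card_prod, Nat.card_fun, Nat.card_zmod, Nat.card_fin]
  ring

/-- The elementary abelian part. -/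
def elem (n : ℕ) : Subgroup (SLt (n + 2)) where
  carrier := {g | ∃ a b, g = el a b 0 1}
  one_mem' := ⟨0, 0, el_one.symm⟩
  mul_mem' := by
    rintro _ _ ⟨a, b, rfl⟩ ⟨a', b', rfl⟩
    exact ⟨a' + a, b' + b, by rw [el_mul_one]; simp⟩
  inv_mem' := by
    rintro _ ⟨a, b, rfl⟩
    exact ⟨a, b, by rw [el_inv_one]; simp⟩

theorem elem_le : elem n ≤ rad n := fun _ ⟨a, b, e⟩ => ⟨a, b, 0, e⟩

theorem elem_props : Cfsg.IsElementaryAbelian 2 (elem n) ∧ Nat.card (elem n) = 2 ^ (n + 1) := by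
  refine ⟨⟨⟨⟨?_⟩⟩, ?_⟩, ?_⟩
  · rintro ⟨_, a, b, rfl⟩ ⟨_, a', b', rfl⟩
    refine Subtype.ext ?_
    show el a b 0 1 * el a' b' 0 1 = el a' b' 0 1 * el a b 0 1
    rw [el_mul_one, el_mul_one]
    simp [add_comm]
  · rintro _ ⟨a, b, rfl⟩
    rw [sq, el_mul_one, dotProduct_zero, add_zero, add_zero, addf,
      CharTwo.add_self_eq_zero (R := ZMod 2), el_one]
  · have e : Nat.card ((Fin n → ZMod 2) × ZMod 2) = Nat.card (elem n) :=
      Nat.card_congr (Equiv.ofBijective (fun v => ⟨el v.1 v.2 0 1, _, _, rfl⟩)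
        ⟨fun v w h => by
          obtain ⟨h1, h2, -, -⟩ := el_inj (congrArg Subtype.val h)
          exact Prod.ext h1 h2,
        fun ⟨g, a, b, hg⟩ => ⟨(a, b), Subtype.ext hg.symm⟩⟩)
    rw [← e, Nat.card_prod, Nat.card_fun, Nat.card_zmod, Nat.card_fin, pow_succ]

theorem comm_one (a a' : Fin n → ZMod 2) (b b' : ZMod 2) (c c' : Fin n → ZMod 2) :
    ⁅el a b c (1 : SLt n), el a' b' c' 1⁆ = el 0 (a ⬝ᵥ c' + a' ⬝ᵥ c) 0 1 := by
  rw [commutatorElement_def, mul_inv_eq_iff_eq_mul, mul_inv_eq_iff_eq_mul, el_mul_one, el_mul_one,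
    el_mul_one]
  congr 1
  · simp [add_comm]
  · simp only [zero_dotProduct, add_zero]
    generalize a ⬝ᵥ c' = x
    generalize a' ⬝ᵥ c = y
    exact (show ∀ b b' x y : ZMod 2, b' + b + x = b + (b' + (x + y)) + y by decide) b b' x y
  · rw [zero_add, add_comm]

theorem exists_dot_eq_one {v : Fin n → ZMod 2} (hv : v ≠ 0) : ∃ w, w ⬝ᵥ v = 1 := by
  obtain ⟨j, hj⟩ := Function.ne_iff.1 hv
  exact ⟨Pi.single j 1, by rw [single_one_dotProduct]; exact eq_one_of_ne hj⟩

theorem zt_eq : (zt : SLt (n + 2)) = el 0 1 0 1 := rfl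

theorem exData : ExData (rad n) zt := by
  have hb : ∀ b : ZMod 2, el (0 : Fin n → ZMod 2) b 0 1 = 1 ∨ el 0 b 0 1 = (zt : SLt (n + 2)) := by
    intro b
    rcases eq_or_ne b 0 with e | e
    · exact .inl (e ▸ el_one)
    · exact .inr (eq_one_of_ne e ▸ rfl)
  refine ⟨?_, ⟨0, 1, 0, rfl⟩, ?_, rad_normal, ?_, ?_, ?_, ?_⟩
  · refine orderOf_eq_prime ?_ ?_
    · rw [sq, zt_eq, el_mul_one, zero_dotProduct, CharTwo.add_self_eq_zero (R := ZMod 2)]
      simpa using el_one
    · rw [zt_eq, ← el_one]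
      exact fun h => one_ne_zero (el_inj h).2.1
  · rintro _ ⟨a, b, c, rfl⟩
    exact el_comm_zt a b c 1
  · rintro _ ⟨a, b, c, rfl⟩
    rw [el_mul_one, CharTwo.add_self_eq_zero (R := ZMod 2), zero_add, addf, addf]
    exact hb _
  · rintro _ ⟨a, b, c, rfl⟩ _ ⟨a', b', c', rfl⟩
    rw [comm_one]
    exact hb _
  · rintro _ ⟨a, b, c, rfl⟩ h1 h2
    by_cases hc : c = 0
    · have ha : a ≠ 0 := fun e => (hb b).elim (fun e' => h1 (e ▸ hc ▸ e'))
        fun e' => h2 (e ▸ hc ▸ e')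
      obtain ⟨w, hw⟩ := exists_dot_eq_one ha
      refine ⟨el 0 0 w 1, ⟨_, _, _, rfl⟩, ?_⟩
      rw [comm_one, hc, dotProduct_comm, hw, zero_dotProduct, add_zero]
      rfl
    · obtain ⟨w, hw⟩ := exists_dot_eq_one hc
      refine ⟨el w 0 0 1, ⟨_, _, _, rfl⟩, ?_⟩
      rw [comm_one, hw, dotProduct_zero, zero_add]
      rfl
  · intro g hg
    obtain ⟨a, b, c, D, rfl⟩ := exists_el (hg zt ⟨0, 1, 0, rfl⟩)
    have h1 : ∀ a' c' : Fin n → ZMod 2,
        a' + a = a + a' ᵥ* D.1 ∧ a ⬝ᵥ c' = a' ⬝ᵥ c ∧ c + D.1 *ᵥ c' = c' + c := by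
      intro a' c'
      have h := (hg (el a' 0 c' 1) ⟨_, _, _, rfl⟩).eq
      rw [el_mul, el_mul] at h
      obtain ⟨e1, e2, e3, -⟩ := el_inj h
      simp only [Matrix.SpecialLinearGroup.coe_one, Matrix.vecMul_one, Matrix.one_mulVec,
        add_zero, zero_add] at e1 e2 e3
      exact ⟨e1, add_left_cancel (e2.trans (by rw [add_comm])), e3⟩
    have ha : a = 0 := funext fun j => by
      have := (h1 0 (Pi.single j 1)).2.1
      simpa using this
    have hc : c = 0 := funext fun j => by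
      have := (h1 (Pi.single j 1) 0).2.1
      simpa using this.symm
    subst ha hc
    have hD : D = 1 := by
      refine Subtype.ext (Matrix.ext fun i j => ?_)
      have := congrFun (h1 0 (Pi.single j 1)).2.2 i
      simpa [Matrix.mulVec, Matrix.one_apply, Pi.single_apply] using this
    subst hD
    exact hb b

theorem eq_bot_of_normal (hn : 2 ≤ n) {N : Subgroup (SLt n)} (hN : N.Normal) (h2 : IsPGroup 2 N) :
    N = ⊥ := by
  haveI := Fact.mk Nat.prime_two
  letI : MulAction N (Fin n → ZMod 2) :=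
    { smul := fun g v => (g : SLt n).1 *ᵥ v
      one_smul := fun v => by
        show ((1 : N) : SLt n).1 *ᵥ v = v
        simp
      mul_smul := fun g h v => by
        show ((g * h : N) : SLt n).1 *ᵥ v = (g : SLt n).1 *ᵥ ((h : SLt n).1 *ᵥ v)
        rw [Subgroup.coe_mul, Matrix.SpecialLinearGroup.coe_mul, Matrix.mulVec_mulVec] }
  obtain ⟨v, hv, hv0⟩ := h2.exists_fixed_point_of_prime_dvd_card_of_fixed_point (Fin n → ZMod 2)
    (by rw [Nat.card_fun, Nat.card_zmod, Nat.card_fin]; exact dvd_pow_self 2 (by omega))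
    (a := 0) (fun g => Matrix.mulVec_zero _)
  have hinv : ∀ (w : Fin n → ZMod 2), (∀ g : N, (g : SLt n).1 *ᵥ w = w) → ∀ u : SLt n,
      ∀ g : N, (g : SLt n).1 *ᵥ (u.1 *ᵥ w) = u.1 *ᵥ w := by
    intro w hw u g
    have h := hw ⟨u⁻¹ * g * u, hN.conj_mem' _ g.2 u⟩
    calc (g : SLt n).1 *ᵥ (u.1 *ᵥ w) = (u * (u⁻¹ * (g : SLt n) * u)).1 *ᵥ w := by
          rw [show u * (u⁻¹ * (g : SLt n) * u) = (g : SLt n) * u by group,
            Matrix.SpecialLinearGroup.coe_mul, Matrix.mulVec_mulVec]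
      _ = u.1 *ᵥ w := by
          rw [Matrix.SpecialLinearGroup.coe_mul, ← Matrix.mulVec_mulVec]
          exact congrArg _ h
  let W : Submodule (ZMod 2) (Fin n → ZMod 2) :=
    { carrier := {w | ∀ g : N, (g : SLt n).1 *ᵥ w = w}
      zero_mem' := fun g => Matrix.mulVec_zero _
      add_mem' := fun ha hb g => by rw [Matrix.mulVec_add, ha g, hb g]
      smul_mem' := fun c w hw g => by rw [Matrix.mulVec_smul, hw g] }
  have htr : ∀ w ∈ W, ∀ i j : Fin n, i ≠ j → Pi.single i (w j) ∈ W := by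
    intro w hw i j hij
    have h := W.sub_mem (hinv w hw ⟨Matrix.transvection i j 1,
      Matrix.det_transvection_of_ne i j hij 1⟩) hw
    convert h using 1
    funext k
    simp only [Matrix.transvection, Matrix.add_mulVec, Matrix.one_mulVec, Pi.sub_apply,
      Pi.add_apply, Matrix.single_mulVec, one_mul, Pi.single_apply, Function.update_apply,
      Pi.zero_apply, add_sub_cancel_left]
  obtain ⟨j, hj⟩ := Function.ne_iff.1 (Ne.symm hv0)
  have hoff : ∀ i, i ≠ j → Pi.single i (1 : ZMod 2) ∈ W := fun i hi =>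
    eq_one_of_ne hj ▸ htr v hv i j hi
  have hall : ∀ i, Pi.single i (1 : ZMod 2) ∈ W := by
    intro i
    rcases eq_or_ne i j with rfl | hi
    · haveI : Nontrivial (Fin n) := Fin.nontrivial_iff_two_le.2 hn
      obtain ⟨k, hk⟩ := exists_ne i
      have h := htr _ (hoff k hk) i k hk.symm
      simpa using h
    · exact hoff i hi
  refine (Subgroup.eq_bot_iff_forall N).2 fun g hg => Subtype.ext (Matrix.ext fun i k => ?_)
  have h : g.1 *ᵥ Pi.single k 1 = Pi.single k 1 := hall k ⟨g, hg⟩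
  simpa [Matrix.one_apply, Pi.single_apply] using congrFun h i

theorem pCore_eq (hn : 2 ≤ n) :
    (Cfsg.pCore 2 ↥(Subgroup.centralizer ({zt} : Set (SLt (n + 2))))).map
      (Subgroup.centralizer ({zt} : Set (SLt (n + 2)))).subtype = rad n := by
  haveI := Fact.mk Nat.prime_two
  refine le_antisymm ?_ (le_coreAt (IsPGroup.of_card card_rad) rad_le rad_normal)
  change coreAt zt ≤ rad n
  let N : Subgroup (SLt n) := (coreAt (zt : SLt (n + 2)) ⊔ rad n).comap (kemb n)
  have hS : IsPGroup 2 (coreAt (zt : SLt (n + 2)) ⊔ rad n : Subgroup _) := by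
    rw [sup_eq_left.2 (le_coreAt (IsPGroup.of_card card_rad) rad_le rad_normal)]
    exact coreAt_isPGroup _
  have hNn : N.Normal := ⟨fun D hD u => by
    have hc : Commute (kemb n u) zt := el_comm_zt 0 0 0 u
    show kemb n (u * D * u⁻¹) ∈ coreAt zt ⊔ rad n
    rw [map_mul, map_mul, map_inv]
    suffices coreAt zt ⊔ rad n ≤
        (coreAt zt ⊔ rad n).comap (MulAut.conj (kemb n u)).toMonoidHom from this hD
    exact sup_le (fun a ha => Subgroup.mem_sup_left (coreAt_conj_mem hc ha))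
      fun a ha => Subgroup.mem_sup_right (rad_normal _ hc a ha)⟩
  have hN : N = ⊥ := eq_bot_of_normal hn hNn (hS.comap_of_injective _ kemb_injective)
  intro g hg
  obtain ⟨a, b, c, D, rfl⟩ := exists_el (commute_of_mem hg)
  have : D ∈ N := by
    show kemb n D ∈ coreAt zt ⊔ rad n
    rw [show kemb n D = (el (a ᵥ* (D⁻¹ : SLt n).1) b c 1)⁻¹ * el a b c D by
      rw [decomp a b c D, inv_mul_cancel_left]]
    exact mul_mem (Subgroup.mem_sup_right ((rad n).inv_mem ⟨_, _, _, rfl⟩))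
      (Subgroup.mem_sup_left hg)
  rw [hN, Subgroup.mem_bot] at this
  subst this
  exact ⟨a, b, c, rfl⟩

theorem large (hn : 2 ≤ n) : Cfsg.IsLargeExtraspecial (rad n) := by
  haveI := Fact.mk Nat.prime_two
  obtain ⟨o⟩ : Nonempty (Fin n) := ⟨⟨0, by omega⟩⟩
  have h := exData (n := n)
  have h9 : 9 ≤ Nat.card (rad n) := by
    rw [card_rad]
    calc 9 ≤ 2 ^ 5 := by norm_num
      _ ≤ _ := Nat.pow_le_pow_right (by norm_num) (by omega)
  let k : Fin (n + 2) := o.succ.succ
  have hk1 : (1 : Fin (n + 2)) ≠ k := one_ne _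
  have hk0 : (0 : Fin (n + 2)) ≠ k := (Fin.succ_ne_zero _).symm
  have h01 : (0 : Fin (n + 2)) ≠ 1 := by
    rw [← Fin.succ_zero_eq_one]; exact (Fin.succ_ne_zero _).symm
  let v : SLt (n + 2) := ⟨Matrix.transvection 1 k 1, Matrix.det_transvection_of_ne _ _ hk1 1⟩
  have hvv : v.1 * v.1 = 1 := by
    show Matrix.transvection 1 k 1 * Matrix.transvection 1 k 1 = 1
    rw [Matrix.transvection_mul_transvection_same _ _ hk1, CharTwo.add_self_eq_zero (R := ZMod 2),
      Matrix.transvection_zero]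
  have hvinv : v⁻¹ = v := inv_eq_of_mul_eq_one_right (Subtype.ext hvv)
  have he : (el (Pi.single o 1) 0 0 1).1 = Matrix.transvection 0 k (1 : ZMod 2) := by
    ext i j
    show blk _ _ _ _ i j = _
    induction i using cases3 <;> induction j using cases3 <;>
      simp [k, Matrix.transvection, Matrix.single_apply, Matrix.one_apply, Fin.succ_ne_zero,
        Ne.symm (Fin.succ_ne_zero _), Pi.single_apply, h01, h01.symm, eq_comm]
  have hx : v * zt * v⁻¹ = zt * el (Pi.single o 1) 0 0 1 := by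
    rw [hvinv]
    refine Subtype.ext ?_
    rw [Matrix.SpecialLinearGroup.coe_mul, Matrix.SpecialLinearGroup.coe_mul,
      Matrix.SpecialLinearGroup.coe_mul, zt_val, he]
    show Matrix.transvection 1 k 1 * _ * Matrix.transvection 1 k 1 = _
    have e2 : ∀ M : Matrix (Fin (n + 2)) (Fin (n + 2)) (ZMod 2), M + M = 0 := fun M =>
      Matrix.ext fun _ _ => CharTwo.add_self_eq_zero _
    simp only [Matrix.transvection, mul_add, add_mul, mul_one, one_mul,
      Matrix.single_mul_single_same, Matrix.single_mul_single_of_ne _ _ _ _ hk1.symm,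
      Matrix.single_mul_single_of_ne _ _ _ _ h01.symm,
      Matrix.single_mul_single_of_ne _ _ _ _ hk0.symm, zero_mul, add_zero, zero_add]
    have e := e2 (Matrix.single (1 : Fin (n + 2)) k (1 : ZMod 2))
    linear_combination (norm := abel) e
  refine h.isLargeExtraspecial h9 fun K hK hQK => h.odd_eq_bot (IsPGroup.of_card card_rad) h9
    (g := v) (hx ▸ mul_mem h.mem ⟨_, _, _, rfl⟩) (fun e => ?_) hK hQK
  rw [hx, mul_eq_left, ← el_one] at e
  exact (one_ne_zero : (1 : ZMod 2) ≠ 0) (by simpa using congrFun (el_inj e).1 o)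

end Cfsg.Agent.BigExtra.SLModel
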