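import Cfsg.Agent.Lib.BigExtra.Symm

/-!
# Singular subgroups
-/

set_option autoImplicit false
set_option linter.unusedSectionVars false

open scoped commutatorElement

namespace Cfsg.Agent.BigExtra

open Subgroup

universe u

variable {G : Type u} [Group G] [Finite G]

theorem conj_cases {z : G} (h : Large z) {a b : G} (ha : a ∈ coreAt z) (hb : b ∈ coreAt z) :
    a * b * a⁻¹ = b ∨ a * b * a⁻¹ = z * b := by
  rcases h.comm a ha b hb with e | e
  · exact .inl (by rw [conj_eq_of_commutator e, one_mul])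
  · exact .inr (conj_eq_of_commutator e)

theorem exists_moves_of_finset {z : G} (h : Large z) : ∀ s : Finset G, (∀ a ∈ s, a ∈ coreAt z) →
    ∀ c ∈ coreAt z, c ∉ closure (insert z (s : Set G)) →
      ∃ q ∈ coreAt z, (∀ a ∈ s, Commute q a) ∧ q * c * q⁻¹ = z * c := by
  classical
  intro s
  induction s using Finset.induction with
  | empty =>
    intro _ c hc hcn
    obtain ⟨b, hb, hcb⟩ := h.pair c hc (fun e => hcn (e ▸ one_mem _))
      (fun e => hcn (e ▸ subset_closure (by simp)))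
    refine ⟨b, hb, by simp, ?_⟩
    refine conj_eq_of_commutator ?_
    rw [← commutatorElement_inv, hcb, h.inv_eq]
  | @insert a s _ ih =>
    intro hs c hc hcn
    have hins : ∀ q : G, Commute q a → (∀ b ∈ s, Commute q b) → ∀ b ∈ insert a s, Commute q b :=
      fun q h1 h2 b hb => by
        rcases Finset.mem_insert.1 hb with rfl | hb
        exacts [h1, h2 b hb]
    have hsa : a ∈ coreAt z := hs a (Finset.mem_insert_self a s)
    have hs' : ∀ b ∈ s, b ∈ coreAt z := fun b hb => hs b (Finset.mem_insert_of_mem hb)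
    rw [Finset.coe_insert, Set.insert_comm] at hcn
    have hle : closure (insert z (s : Set G)) ≤ closure (insert a (insert z (s : Set G))) :=
      closure_mono (Set.subset_insert _ _)
    by_cases ha : a ∈ closure (insert z (s : Set G))
    · obtain ⟨q, hq, hqs, hqc⟩ := ih hs' c hc fun e => hcn (hle e)
      refine ⟨q, hq, hins q ?_ hqs, hqc⟩
      have : closure (insert z (s : Set G)) ≤ centralizer ({q} : Set G) := (closure_le _).2 (by
        rintro b (rfl | hb)
        · exact mem_centralizer_singleton_iff.2 (commute_of_mem hq).eq.symm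
        · exact mem_centralizer_singleton_iff.2 (hqs b hb).eq.symm)
      exact (mem_centralizer_singleton_iff.1 (this ha)).symm
    obtain ⟨q0, hq0, hq0s, hq0a⟩ := ih hs' a hsa ha
    by_cases hq0c : Commute q0 c
    · -- correct a mover of `c` by `q0`
      obtain ⟨q, hq, hqs, hqc⟩ := ih hs' c hc fun e => hcn (hle e)
      rcases conj_cases h hq hsa with e | e
      · exact ⟨q, hq, hins _ (mul_inv_eq_iff_eq_mul.1 e) hqs, hqc⟩
      · refine ⟨q * q0, mul_mem hq hq0, hins _
          (mul_inv_eq_iff_eq_mul.1 ?_) fun b hb => (hqs b hb).mul_left (hq0s b hb), ?_⟩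
        · calc q * q0 * a * (q * q0)⁻¹ = q * (q0 * a * q0⁻¹) * q⁻¹ := by group
            _ = (q * z * q⁻¹) * (q * a * q⁻¹) := by rw [hq0a]; group
            _ = a := by
              rw [e, (commute_of_mem hq).eq, mul_inv_cancel_right, ← mul_assoc, h.mul_self, one_mul]
        · calc q * q0 * c * (q * q0)⁻¹ = q * (q0 * c * q0⁻¹) * q⁻¹ := by group
            _ = z * c := by rw [hq0c.eq, mul_inv_cancel_right, hqc]
    · -- `q0` moves `c`; use a mover of `c * a`
      have hca : c * a ∉ closure (insert z (s : Set G)) := fun e => hcn (by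
        have := mul_mem (hle e) (inv_mem (subset_closure (Set.mem_insert a _)))
        rwa [mul_inv_cancel_right] at this)
      obtain ⟨q, hq, hqs, hqca⟩ := ih hs' (c * a) (mul_mem hc hsa) hca
      have hq0c' : q0 * c * q0⁻¹ = z * c :=
        (conj_cases h hq0 hc).resolve_left fun e => hq0c (mul_inv_eq_iff_eq_mul.1 e)
      have hzc : Commute c z := commute_of_mem hc
      rcases conj_cases h hq hsa with e | e
      · refine ⟨q, hq, hins _ (mul_inv_eq_iff_eq_mul.1 e) hqs, ?_⟩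
        rw [show q * (c * a) * q⁻¹ = (q * c * q⁻¹) * (q * a * q⁻¹) by group, e, ← mul_assoc] at hqca
        exact mul_right_cancel hqca
      · refine ⟨q * q0, mul_mem hq hq0, hins _
          (mul_inv_eq_iff_eq_mul.1 ?_) fun b hb => (hqs b hb).mul_left (hq0s b hb), ?_⟩
        · calc q * q0 * a * (q * q0)⁻¹ = q * (q0 * a * q0⁻¹) * q⁻¹ := by group
            _ = (q * z * q⁻¹) * (q * a * q⁻¹) := by rw [hq0a]; group
            _ = a := by
              rw [e, (commute_of_mem hq).eq, mul_inv_cancel_right, ← mul_assoc, h.mul_self, one_mul]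
        · rw [show q * (c * a) * q⁻¹ = (q * c * q⁻¹) * (q * a * q⁻¹) by group, e, ← mul_assoc,
            ← mul_assoc] at hqca
          have hqc : q * c * q⁻¹ = c := by
            have h1 := mul_right_cancel hqca
            rw [← hzc.eq] at h1
            exact mul_right_cancel h1
          calc q * q0 * c * (q * q0)⁻¹ = q * (q0 * c * q0⁻¹) * q⁻¹ := by group
            _ = (q * z * q⁻¹) * (q * c * q⁻¹) := by rw [hq0c']; group
            _ = z * c := by rw [hqc, (commute_of_mem hq).eq, mul_inv_cancel_right]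

/-- An element outside a subgroup of the core is moved by something centralizing the subgroup. -/
theorem exists_moves {z : G} (h : Large z) {V : Subgroup G} (hV : V ≤ coreAt z) (hzV : z ∈ V)
    {c : G} (hc : c ∈ coreAt z) (hcV : c ∉ V) :
    ∃ q ∈ coreAt z, (∀ a ∈ V, Commute q a) ∧ q * c * q⁻¹ = z * c := by
  classical
  haveI := Fintype.ofFinite V
  obtain ⟨q, hq, hqs, hqc⟩ := exists_moves_of_finset h ((V : Set G).toFinite.toFinset)
    (fun a ha => hV (by simpa using ha)) c hc (fun e => hcV (by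
      refine (closure_le V).2 ?_ e
      rintro a (rfl | ha)
      · exact hzV
      · simpa using ha))
  exact ⟨q, hq, fun a ha => hqs a (by simpa using ha), hqc⟩

/-- A singular subgroup. -/
structure Singular (U : Subgroup G) : Prop where
  sq : ∀ u ∈ U, u * u = 1
  large : ∀ u ∈ U, u ≠ 1 → Large u
  orth : ∀ u ∈ U, ∀ v ∈ U, u ≠ 1 → v ≠ 1 → v ∈ coreAt u

theorem singular_of {z : G} (h : Large z) {U : Subgroup G} (hU2 : ∀ u ∈ U, u * u = 1)
    (hS : ∀ u ∈ U, u ≠ 1 → ∃ g : G, g * z * g⁻¹ = u)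
    (hO : ∀ u ∈ U, ∀ v ∈ U, u ≠ 1 → v ≠ 1 → v ∈ coreAt u) : Singular U :=
  ⟨hU2, fun u hu hu1 => by obtain ⟨g, rfl⟩ := hS u hu hu1; exact h.conj g, hO⟩

variable {U : Subgroup G}

theorem Singular.le_coreAt (h : Singular U) {u : G} (hu : u ∈ U) (hu1 : u ≠ 1) : U ≤ coreAt u := by
  intro v hv
  by_cases hv1 : v = 1
  · rw [hv1]; exact one_mem _
  · exact h.orth u hu v hv hu1 hv1

theorem Singular.le_QU (h : Singular U) : U ≤ ⨅ u ∈ ((U : Set G) \ {1}), coreAt u :=
  le_iInf₂ fun _ hu => h.le_coreAt hu.1 hu.2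

theorem Singular.inter_le (h : Singular U) {u v : G} (hu : u ∈ U) (hv : v ∈ U) (hu1 : u ≠ 1)
    (hv1 : v ≠ 1) (huv : u ≠ v) {y : G} (hyu : y ∈ coreAt u) (hyv : y ∈ coreAt v) :
    y ∈ coreAt (u * v) := by
  have hL := h.large u hu hu1
  obtain ⟨g, hg, hgv⟩ := hL.pair v (h.orth u hu v hv hu1 hv1) hv1 (Ne.symm huv)
  have hgv' : g * v * g⁻¹ = u * v := conj_eq_of_commutator (by
    rw [← commutatorElement_inv, hgv, hL.inv_eq])
  have h1 := conj_mem_coreAt (g := g) hyv
  rw [hgv'] at h1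
  have hne : u * v ≠ 1 := fun e => huv ((inv_eq_of_mul_eq_one_right e).symm.trans hL.inv_eq).symm
  have hmem : u ∈ coreAt (u * v) := h.orth _ (mul_mem hu hv) u hu hne hu1
  rcases conj_cases hL hg hyu with e | e <;> rw [e] at h1
  · exact h1
  · have := mul_mem (inv_mem hmem) h1
    rwa [inv_mul_cancel_left] at this

theorem Singular.iInf_gen (h : Singular U) {T : Set G} (hT : closure T = U) (hT1 : (1 : G) ∉ T) :
    (⨅ u ∈ ((U : Set G) \ {1}), coreAt u) = ⨅ t ∈ T, coreAt t := by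
  have hTU : T ⊆ U := by rw [← hT]; exact subset_closure
  refine le_antisymm (le_iInf₂ fun t ht =>
    iInf₂_le t (show t ∈ ((U : Set G) \ {1}) from ⟨hTU ht, fun e => hT1 (e ▸ ht)⟩)) ?_
  refine le_iInf₂ fun u hu => ?_
  obtain ⟨huU, hu1⟩ := hu
  have key : ∀ g ∈ closure T, g ∈ U ∧ (g ≠ 1 → (⨅ t ∈ T, coreAt t) ≤ coreAt g) := by
    intro g hg
    induction hg using closure_induction with
    | mem g hg => exact ⟨hTU hg, fun _ => iInf₂_le g hg⟩
    | one => exact ⟨one_mem U, fun e => absurd rfl e⟩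
    | mul a b _ _ iha ihb =>
      refine ⟨mul_mem iha.1 ihb.1, fun hne y hy => ?_⟩
      by_cases ha1 : a = 1
      · subst ha1; rw [one_mul] at hne ⊢; exact ihb.2 hne hy
      by_cases hb1 : b = 1
      · subst hb1; rw [mul_one] at hne ⊢; exact iha.2 hne hy
      exact h.inter_le iha.1 ihb.1 ha1 hb1 (fun e => hne (by rw [e, h.sq b ihb.1]))
        (iha.2 ha1 hy) (ihb.2 hb1 hy)
    | inv a _ ih => rw [inv_eq_of_mul_eq_one_right (h.sq a ih.1)]; exact ih
  exact (key u (hT ▸ huU)).2 hu1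

theorem Singular.sup_le_normalizer (h : Singular U) :
    (⨆ u ∈ ((U : Set G) \ {1}), coreAt u) ≤ normalizer (U : Set G) := by
  refine iSup₂_le fun u hu g hg => ?_
  have key : ∀ g ∈ coreAt u, ∀ v ∈ U, g * v * g⁻¹ ∈ U := fun g hg v hv => by
    rcases conj_cases (h.large u hu.1 hu.2) hg (h.le_coreAt hu.1 hu.2 hv) with e | e <;> rw [e]
    exacts [hv, mul_mem hu.1 hv]
  refine mem_normalizer_iff.2 fun v => ⟨key g hg v, fun hv => ?_⟩
  have := key g⁻¹ (inv_mem hg) _ hv
  rwa [show g⁻¹ * (g * v * g⁻¹) * g⁻¹⁻¹ = v by group] at this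

theorem Singular.commutator_mem (h : Singular U) {g x : G}
    (hg : g ∈ ⨆ u ∈ ((U : Set G) \ {1}), coreAt u)
    (hx : x ∈ ⨅ u ∈ ((U : Set G) \ {1}), coreAt u) : g * x * g⁻¹ * x⁻¹ ∈ U := by
  have hN := h.sup_le_normalizer
  let M : Subgroup G :=
    { carrier := {g | g ∈ normalizer (U : Set G) ∧
        ∀ y ∈ (⨅ u ∈ ((U : Set G) \ {1}), coreAt u), g * y * g⁻¹ * y⁻¹ ∈ U}
      one_mem' := ⟨one_mem _, fun y _ => by simp⟩
      mul_mem' := fun {a b} ha hb => ⟨mul_mem ha.1 hb.1, fun y hy => by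
        rw [show a * b * y * (a * b)⁻¹ * y⁻¹ =
          a * (b * y * b⁻¹ * y⁻¹) * a⁻¹ * (a * y * a⁻¹ * y⁻¹) by group]
        exact mul_mem ((mem_normalizer_iff.1 ha.1 _).1 (hb.2 y hy)) (ha.2 y hy)⟩
      inv_mem' := fun {a} ha => ⟨inv_mem ha.1, fun y hy => by
        rw [show a⁻¹ * y * a⁻¹⁻¹ * y⁻¹ = a⁻¹ * (a * y * a⁻¹ * y⁻¹)⁻¹ * a⁻¹⁻¹ by group]
        exact (mem_normalizer_iff.1 (inv_mem ha.1) _).1 (inv_mem (ha.2 y hy))⟩ }
  have hle : (⨆ u ∈ ((U : Set G) \ {1}), coreAt u) ≤ M := by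
    refine iSup₂_le fun u hu g hg => ⟨hN (mem_iSup_of_mem u (mem_iSup_of_mem hu hg)), fun y hy => ?_⟩
    have hy' : y ∈ coreAt u := (mem_iInf.1 ((mem_iInf.1 hy) u) hu)
    rcases conj_cases (h.large u hu.1 hu.2) hg hy' with e | e <;> rw [e]
    · rw [mul_inv_cancel]; exact one_mem U
    · rw [mul_inv_cancel_right]; exact hu.1
  exact (hle hg).2 x hx

theorem Singular.exists_shift (h : Singular U) {x : G}
    (hx : x ∈ ⨅ u ∈ ((U : Set G) \ {1}), coreAt u) (hxU : x ∉ U) {u : G} (hu : u ∈ U) :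
    ∃ g ∈ (⨆ u ∈ ((U : Set G) \ {1}), coreAt u) ⊓ centralizer (U : Set G), g * x * g⁻¹ = x * u := by
  by_cases hu1 : u = 1
  · exact ⟨1, one_mem _, by simp [hu1]⟩
  have hu' : u ∈ ((U : Set G) \ {1}) := ⟨hu, hu1⟩
  have hxu : x ∈ coreAt u := mem_iInf.1 (mem_iInf.1 hx u) hu'
  obtain ⟨q, hq, hqU, hqx⟩ := exists_moves (h.large u hu hu1) (h.le_coreAt hu hu1) hu hxu hxU
  refine ⟨q, mem_inf.2 ⟨mem_iSup_of_mem u (mem_iSup_of_mem hu' hq),
    fun a ha => (hqU a ha).eq.symm⟩, ?_⟩
  rw [hqx, (commute_of_mem hxu).eq]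

theorem Singular.induces (h : Singular U) (φ : ↥U ≃* ↥U) :
    ∀ (n : ℕ) (W : Subgroup G), W ≤ U → U.index ≠ 0 → Nat.card U - Nat.card W = n →
    (∃ g ∈ (⨆ u ∈ ((U : Set G) \ {1}), coreAt u),
      ∀ w : ↥U, (w : G) ∈ W → g * (w : G) * g⁻¹ = ((φ w : ↥U) : G)) →
    ∃ g ∈ (⨆ u ∈ ((U : Set G) \ {1}), coreAt u), ∀ w : ↥U, g * (w : G) * g⁻¹ = ((φ w : ↥U) : G) := by
  intro n
  induction n using Nat.strong_induction_on with
  | _ n ih =>
    rintro W hWU hi hn ⟨g, hg, hgW⟩
    by_cases hall : U ≤ W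
    · exact ⟨g, hg, fun w => hgW w (hall w.2)⟩
    obtain ⟨a, ha, haW⟩ := SetLike.not_le_iff_exists.1 hall
    have hgN := h.sup_le_normalizer hg
    set b : G := ((φ ⟨a, ha⟩ : ↥U) : G) with hb
    have hbU : b ∈ U := (φ ⟨a, ha⟩).2
    set c : G := g * a * g⁻¹ with hc
    have hcU : c ∈ U := (mem_normalizer_iff.1 hgN a).1 ha
    set W' := W.map (MulAut.conj g).toMonoidHom with hW'
    have hW'U : W' ≤ U := by
      rintro _ ⟨w, hw, rfl⟩
      exact (mem_normalizer_iff.1 hgN w).1 (hWU hw)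
    have hcW' : c ∉ W' := by
      rintro ⟨w, hw, hwe⟩
      exact haW ((mul_left_cancel (mul_right_cancel hwe)) ▸ hw)
    have hbW' : b ∉ W' := by
      rintro ⟨w, hw, hwe⟩
      change g * w * g⁻¹ = b at hwe
      rw [hgW ⟨w, hWU hw⟩ hw, hb] at hwe
      have := φ.injective (Subtype.ext hwe)
      exact haW (by rw [← show w = a from congrArg Subtype.val this]; exact hw)
    have hstep : ∃ q ∈ (⨆ u ∈ ((U : Set G) \ {1}), coreAt u),
        (∀ w ∈ W', q * w * q⁻¹ = w) ∧ q * c * q⁻¹ = b := by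
      by_cases hcb : c = b
      · exact ⟨1, one_mem _, fun w _ => by group, by rw [← hcb]; group⟩
      set u := b * c with hu
      have huU : u ∈ U := mul_mem hbU hcU
      have hu1 : u ≠ 1 := fun e => hcb
        ((inv_eq_of_mul_eq_one_right e).symm.trans (inv_eq_of_mul_eq_one_right (h.sq b hbU)))
      have hucomm : ∀ v ∈ U, Commute u v := fun v hv => by
        show u * v = v * u
        have h1 := h.sq _ (mul_mem huU hv)
        have h2 := inv_eq_of_mul_eq_one_right h1
        rwa [mul_inv_rev, inv_eq_of_mul_eq_one_right (h.sq u huU),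
          inv_eq_of_mul_eq_one_right (h.sq v hv), eq_comm] at h2
      have hbcu : b = u * c := by rw [hu, mul_assoc, h.sq c hcU, mul_one]
      have hV : W' ⊔ zpowers u ≤ U := sup_le hW'U (zpowers_le.2 huU)
      have hcV : c ∉ W' ⊔ zpowers u := by
        intro hcm
        have hnorm : zpowers u ≤ normalizer (W' : Set G) := zpowers_le.2
          (mem_normalizer_iff.2 fun v => by
            constructor
            · intro hv
              rwa [(hucomm v (hW'U hv)).eq, mul_inv_cancel_right]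
            · intro hv
              have hv' := hucomm _ (hW'U hv)
              have : u * v * u⁻¹ = v := by
                have h3 := conj_eq_of_commutator (commutatorElement_eq_one_iff_commute.2 hv')
                rw [one_mul] at h3
                exact mul_left_cancel (mul_right_cancel h3)
              rwa [this] at hv)
        rw [← SetLike.mem_coe, coe_mul_of_right_le_normalizer_left W' (zpowers u) hnorm] at hcm
        obtain ⟨w, hw, t, ht, hwt⟩ := hcm
        obtain ⟨k, rfl⟩ := mem_zpowers_iff.1 ht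
        have ho : orderOf u = 2 := orderOf_eq_prime (by rw [_root_.sq, h.sq u huU]) hu1
        have : u ^ k = 1 ∨ u ^ k = u := by
          rw [← zpow_mod_orderOf, ho]
          rcases Int.emod_two_eq_zero_or_one k with e | e <;> simp [e]
        rcases this with e | e <;> simp only [e] at hwt
        · rw [mul_one] at hwt; exact hcW' (hwt ▸ hw)
        · refine hbW' ?_
          rw [hbcu, ← hwt, ← (hucomm w (hW'U hw)).eq, ← mul_assoc, h.sq u huU, one_mul]
          exact hw
      obtain ⟨q, hq, hqV, hqc⟩ := exists_moves (h.large u huU hu1)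
        (hV.trans (h.le_coreAt huU hu1)) (mem_sup_right (mem_zpowers u))
        (h.le_coreAt huU hu1 hcU) hcV
      exact ⟨q, mem_iSup_of_mem u (mem_iSup_of_mem ⟨huU, hu1⟩ hq),
        fun w hw => by rw [(hqV w (mem_sup_left hw)).eq, mul_inv_cancel_right],
        hqc.trans hbcu.symm⟩
    obtain ⟨q, hq, hqW, hqc⟩ := hstep
    let F : Subgroup G :=
      (MonoidHom.eqLocus ((MulAut.conj (q * g)).toMonoidHom.comp U.subtype)
        (U.subtype.comp φ.toMonoidHom)).map U.subtype
    have hF : ∀ w : ↥U, (w : G) ∈ F → q * g * (w : G) * (q * g)⁻¹ = ((φ w : ↥U) : G) := by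
      rintro w ⟨w', hw', hww⟩
      obtain rfl : w' = w := Subtype.ext hww
      exact hw'
    have hWF : W ≤ F := fun w hw => by
      refine ⟨⟨w, hWU hw⟩, ?_, rfl⟩
      show q * g * w * (q * g)⁻¹ = ((φ ⟨w, hWU hw⟩ : ↥U) : G)
      rw [show q * g * w * (q * g)⁻¹ = q * (g * w * g⁻¹) * q⁻¹ by group,
        hqW (g * w * g⁻¹) ⟨w, hw, rfl⟩, hgW ⟨w, hWU hw⟩ hw]
    have haF : a ∈ F := by
      refine ⟨⟨a, ha⟩, ?_, rfl⟩
      show q * g * a * (q * g)⁻¹ = _
      rw [show q * g * a * (q * g)⁻¹ = q * (g * a * g⁻¹) * q⁻¹ by group, ← hc, hqc, hb]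
      rfl
    have hlt : Nat.card W < Nat.card F := lt_of_le_of_ne (card_le_of_le hWF) fun e =>
      haW ((eq_of_le_of_card_ge hWF e.ge).symm ▸ haF)
    have hFU : Nat.card F ≤ Nat.card U := card_le_of_le (map_subtype_le _)
    exact ih _ (by omega) F (map_subtype_le _) hi rfl ⟨q * g, mul_mem hq hg, hF⟩

theorem Singular.induces_all (h : Singular U) (φ : ↥U ≃* ↥U) :
    ∃ g ∈ (⨆ u ∈ ((U : Set G) \ {1}), coreAt u), ∀ w : ↥U, g * (w : G) * g⁻¹ = ((φ w : ↥U) : G) :=
  h.induces φ _ ⊥ bot_le index_ne_zero_of_finite rfl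
    ⟨1, one_mem _, fun w hw => by
      have h1 : w = 1 := Subtype.ext (mem_bot.1 hw)
      simp [h1]⟩

end Cfsg.Agent.BigExtra
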