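import Mathlib
import Cfsg.Prelude.Def_Transfer
import Cfsg.Prelude.Def_Solvable
import Cfsg.Agent.Lib.Basics.Cores
import Cfsg.Agent.Lib.Invol.ExtraPairs

/-!
# Orthogonality in a group with a large extraspecial 2-subgroup is symmetric
-/

set_option autoImplicit false
set_option linter.unusedSectionVars false

open scoped commutatorElement

namespace Cfsg.Agent.BigExtra

open Subgroup

universe u

variable {G : Type u} [Group G] [Finite G]

/-- The largest normal 2-subgroup of the centralizer of `y`. -/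
def coreAt (y : G) : Subgroup G :=
  (Cfsg.pCore 2 ↥(centralizer ({y} : Set G))).map (centralizer ({y} : Set G)).subtype

theorem coreAt_le (y : G) : coreAt y ≤ centralizer ({y} : Set G) := map_subtype_le _

theorem coreAt_isPGroup (y : G) : IsPGroup 2 (coreAt y) :=
  haveI := Fact.mk Nat.prime_two
  (Basics.pCore_isPGroup 2).map _

theorem commute_of_mem {y a : G} (h : a ∈ coreAt y) : Commute a y :=
  mem_centralizer_singleton_iff.1 (coreAt_le y h)

theorem coreAt_conj_mem {y c : G} (hc : Commute c y) {a : G} (h : a ∈ coreAt y) :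
    c * a * c⁻¹ ∈ coreAt y := by
  obtain ⟨a', ha, rfl⟩ := h
  exact ⟨⟨c, mem_centralizer_singleton_iff.2 hc.eq⟩ * a' * ⟨c, mem_centralizer_singleton_iff.2 hc.eq⟩⁻¹,
    (inferInstance : (Cfsg.pCore 2 ↥(centralizer ({y} : Set G))).Normal).conj_mem _ ha _, rfl⟩

theorem le_coreAt {y : G} {S : Subgroup G} (hS : IsPGroup 2 S)
    (hle : S ≤ centralizer ({y} : Set G)) (hn : ∀ c, Commute c y → ∀ s ∈ S, c * s * c⁻¹ ∈ S) :
    S ≤ coreAt y := by
  haveI : (S.subgroupOf (centralizer ({y} : Set G))).Normal := ⟨fun a ha g => by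
    rw [mem_subgroupOf] at ha ⊢
    exact hn g (mem_centralizer_singleton_iff.1 g.2) _ ha⟩
  have h := map_mono (f := (centralizer ({y} : Set G)).subtype)
    (Basics.le_pCore (hS.of_equiv (subgroupOfEquivOfLe hle).symm) :
      S.subgroupOf (centralizer ({y} : Set G)) ≤ Cfsg.pCore 2 ↥(centralizer ({y} : Set G)))
  rwa [map_subgroupOf_eq_of_le hle] at h

theorem map_coreAt_le (g y : G) :
    (coreAt y).map (MulAut.conj g).toMonoidHom ≤ coreAt (g * y * g⁻¹) := by
  refine le_coreAt ((coreAt_isPGroup y).map _) ?_ ?_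
  · rintro _ ⟨a, ha, rfl⟩
    exact mem_centralizer_singleton_iff.2 ((commute_of_mem ha).map (MulAut.conj g).toMonoidHom).eq
  · rintro c hc _ ⟨a, ha, rfl⟩
    have hc' : Commute (g⁻¹ * c * g⁻¹⁻¹) y := by
      have := hc.map (MulAut.conj g⁻¹).toMonoidHom
      simpa [mul_assoc] using this
    refine ⟨_, coreAt_conj_mem hc' ha, ?_⟩
    show g * (g⁻¹ * c * g⁻¹⁻¹ * a * (g⁻¹ * c * g⁻¹⁻¹)⁻¹) * g⁻¹ = c * (g * a * g⁻¹) * c⁻¹
    group

theorem conj_mem_coreAt {g y a : G} (h : a ∈ coreAt y) : g * a * g⁻¹ ∈ coreAt (g * y * g⁻¹) :=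
  map_coreAt_le g y ⟨a, h, rfl⟩

/-- The properties of the core of the centralizer used below. -/
structure Large (z : G) : Prop where
  ord : orderOf z = 2
  mem : z ∈ coreAt z
  sq : ∀ a ∈ coreAt z, a * a = 1 ∨ a * a = z
  comm : ∀ a ∈ coreAt z, ∀ b ∈ coreAt z, ⁅a, b⁆ = 1 ∨ ⁅a, b⁆ = z
  pair : ∀ a ∈ coreAt z, a ≠ 1 → a ≠ z → ∃ b ∈ coreAt z, ⁅a, b⁆ = z
  self_centralizing : ∀ a : G, (∀ b ∈ coreAt z, Commute a b) → a ∈ coreAt z

theorem self_mem {y : G} (hy : orderOf y = 2) : y ∈ coreAt y := by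
  refine le_coreAt (S := zpowers y) (IsPGroup.of_card (n := 1) (by
    rw [Nat.card_zpowers, hy, pow_one])) (zpowers_le.2 (mem_centralizer_singleton_iff.2 rfl))
    (fun c hc s hs => ?_) (mem_zpowers y)
  obtain ⟨k, rfl⟩ := hs
  exact ⟨k, by simp only; rw [(hc.zpow_right k).eq, mul_inv_cancel_right]⟩

theorem large_of_extraspecial {z : G} (hz : orderOf z = 2)
    (hE : Cfsg.IsExtraspecial 2 ↥(coreAt z))
    (hC : centralizer ((coreAt z : Subgroup G) : Set G) ≤ coreAt z) : Large z := by
  haveI := Fact.mk Nat.prime_two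
  obtain ⟨w, hw⟩ := Invol.ExtraPairs.pre_of_extraspecial hE
  have hzc : (⟨z, self_mem hz⟩ : coreAt z) ∈ center (coreAt z) :=
    mem_center_iff.2 fun q => Subtype.ext (commute_of_mem q.2).eq
  have hcases : ∀ t ∈ zpowers w, t = 1 ∨ t = w := fun t ht => by
    obtain ⟨k, rfl⟩ := mem_zpowers_iff.1 ht
    rw [← zpow_mod_orderOf, hw.ordz]
    rcases Int.emod_two_eq_zero_or_one k with e | e <;> simp [e]
  rw [hw.center_eq] at hzc
  have hwz : (w : G) = z := by
    rcases hcases _ hzc with h | h
    · have h1 : z = 1 := congrArg Subtype.val h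
      rw [h1, orderOf_one] at hz
      omega
    · exact (congrArg Subtype.val h).symm
  have htwo : ∀ t : coreAt z, t ∈ zpowers w → (t : G) = 1 ∨ (t : G) = z := fun t ht =>
    (hcases t ht).imp (fun h => by rw [h, OneMemClass.coe_one]) (fun h => by rw [h, hwz])
  refine ⟨hz, self_mem hz, fun a ha => ?_, fun a ha b hb => ?_, fun a ha h1 hne => ?_,
    fun a h => hC fun b hb => (h b hb).eq.symm⟩
  · have := htwo _ (hw.pow_mem ⟨a, ha⟩)
    rwa [SubmonoidClass.coe_pow, sq] at this
  · simpa [commutatorElement_def] using htwo _ (hw.comm_mem ⟨a, ha⟩ ⟨b, hb⟩)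
  · obtain ⟨y, hy⟩ := hw.exists_pair (x := ⟨a, ha⟩) fun h => by
      rw [hw.center_eq] at h
      exact (htwo _ h).elim h1 hne
    refine ⟨y, y.2, ?_⟩
    exact (show ⁅a, (y : G)⁆ = (w : G) by
      simpa [commutatorElement_def] using congrArg Subtype.val hy).trans hwz

theorem Large.conj {z : G} (h : Large z) (g : G) : Large (g * z * g⁻¹) := by
  have back : ∀ a ∈ coreAt (g * z * g⁻¹), g⁻¹ * a * g⁻¹⁻¹ ∈ coreAt z := fun a ha => by
    have := conj_mem_coreAt (g := g⁻¹) ha
    rwa [show g⁻¹ * (g * z * g⁻¹) * g⁻¹⁻¹ = z by group] at this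
  have ecomm : ∀ a b : G, ⁅g⁻¹ * a * g⁻¹⁻¹, g⁻¹ * b * g⁻¹⁻¹⁆ = g⁻¹ * ⁅a, b⁆ * g⁻¹⁻¹ := fun a b => by
    simp only [commutatorElement_def]; group
  refine ⟨((MulAut.conj g).orderOf_eq z).trans h.ord, conj_mem_coreAt h.mem, fun a ha => ?_,
    fun a ha b hb => ?_, fun a ha h1 hne => ?_, fun a hc => ?_⟩
  · refine (h.sq _ (back a ha)).imp (fun e => ?_) (fun e => ?_) <;>
      rw [show a * a = g * ((g⁻¹ * a * g⁻¹⁻¹) * (g⁻¹ * a * g⁻¹⁻¹)) * g⁻¹ by group, e]
    group
  · refine (h.comm _ (back a ha) _ (back b hb)).imp (fun e => ?_) (fun e => ?_) <;>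
      rw [ecomm] at e <;> rw [show ⁅a, b⁆ = g * (g⁻¹ * ⁅a, b⁆ * g⁻¹⁻¹) * g⁻¹ by group, e]
    group
  · obtain ⟨b, hb, hab⟩ := h.pair _ (back a ha)
      (fun e => h1 (by rw [show a = g * (g⁻¹ * a * g⁻¹⁻¹) * g⁻¹ by group, e]; group))
      (fun e => hne (by rw [show a = g * (g⁻¹ * a * g⁻¹⁻¹) * g⁻¹ by group, e]))
    refine ⟨g * b * g⁻¹, conj_mem_coreAt hb, ?_⟩
    rw [show b = g⁻¹ * (g * b * g⁻¹) * g⁻¹⁻¹ by group, ecomm] at hab
    rw [← hab]; group
  · have := h.self_centralizing (g⁻¹ * a * g⁻¹⁻¹) fun b hb => by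
      have := (hc _ (conj_mem_coreAt (g := g) hb)).map (MulAut.conj g⁻¹).toMonoidHom
      simpa [mul_assoc] using this
    rw [show a = g * (g⁻¹ * a * g⁻¹⁻¹) * g⁻¹ by group]
    exact conj_mem_coreAt this

theorem Large.mul_self {z : G} (h : Large z) : z * z = 1 := by
  rw [← _root_.sq, ← h.ord, pow_orderOf_eq_one]

theorem Large.inv_eq {z : G} (h : Large z) : z⁻¹ = z := inv_eq_of_mul_eq_one_right h.mul_self

theorem Large.ne_one {z : G} (h : Large z) : z ≠ 1 := fun e => by
  have := h.ord
  rw [e, orderOf_one] at this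
  omega

theorem commutator_eq_one {a b : G} (h : ⁅a, b⁆ = 1) : Commute a b :=
  commutatorElement_eq_one_iff_commute.1 h

theorem conj_eq_of_commutator {a b c : G} (h : ⁅a, b⁆ = c) : a * b * a⁻¹ = c * b := by
  rw [← h, commutatorElement_def]; group

/-- If `x` in the core at `z` commutes with everything commuting with `z`..., the small case. -/
theorem isPGroup_centralizer_of_small {z x : G} (h : Large z) (hxQ : x ∈ coreAt z) (hx : x * x = 1)
    (hx1 : x ≠ 1) (hxz : x ≠ z)
    (hsmall : ∀ a ∈ coreAt z, Commute a x → a = 1 ∨ a = z ∨ a = x ∨ a = x * z) :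
    IsPGroup 2 (centralizer ({z} : Set G)) := by
  obtain ⟨q, hq, hqx⟩ := h.pair x hxQ hx1 hxz
  have hcz : ∀ a ∈ coreAt z, Commute a z := fun a ha => commute_of_mem ha
  -- pick the representative whose square is `z`
  have hxconj : x * q * x⁻¹ = z * q := conj_eq_of_commutator hqx
  obtain ⟨f, hf, hfx, hff⟩ : ∃ f ∈ coreAt z, ⁅x, f⁆ = z ∧ f * f = z := by
    rcases h.sq q hq with e | e
    · refine ⟨x * q, mul_mem hxQ hq, ?_, ?_⟩
      · rw [commutatorElement_def]
        calc x * (x * q) * x⁻¹ * (x * q)⁻¹ = x * (x * q * x⁻¹) * q⁻¹ * x⁻¹ := by group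
          _ = x * z * x⁻¹ := by rw [hxconj]; group
          _ = z := by rw [(hcz x hxQ).eq, mul_inv_cancel_right]
      · calc x * q * (x * q) = (x * q * x⁻¹) * q := by
              rw [inv_eq_of_mul_eq_one_right hx]; group
          _ = z := by rw [hxconj, mul_assoc, e, mul_one]
    · exact ⟨q, hq, hqx, e⟩
  have hcomm2 : ∀ a ∈ coreAt z, Commute a x ∨ Commute (a * f) x := by
    intro a ha
    rcases h.comm a ha x hxQ with e | e
    · exact .inl (commutator_eq_one e)
    · refine .inr ?_
      have h1 : a * x * a⁻¹ = z * x := conj_eq_of_commutator e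
      have h2 : x * f * x⁻¹ = z * f := conj_eq_of_commutator hfx
      show a * f * x = x * (a * f)
      calc a * f * x = a * (f * x) := mul_assoc _ _ _
        _ = a * (z * x * f) := by
          congr 1
          calc f * x = z * (z * f) * x := by rw [← mul_assoc z z, h.mul_self, one_mul]
            _ = z * (x * f * x⁻¹) * x := by rw [h2]
            _ = z * x * f := by group
        _ = z * (a * x * a⁻¹) * a * f := by
          rw [← mul_assoc a, ← mul_assoc a, (hcz a ha).eq]; group
        _ = x * (a * f) := by rw [h1, ← mul_assoc z z, h.mul_self, one_mul, mul_assoc]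
  have hfQ : f⁻¹ ∈ coreAt z := inv_mem hf
  have hff' : f⁻¹ * f⁻¹ = z := by rw [← mul_inv_rev, hff, h.inv_eq]
  have hxz2 : x * z * (x * z) = 1 := by
    calc x * z * (x * z) = x * (z * x) * z := by group
      _ = (x * x) * (z * z) := by rw [(hcz x hxQ).eq.symm]; group
      _ = 1 := by rw [hx, h.mul_self, one_mul]
  have hxf : ⁅x, f⁻¹⁆ = z := by
    rcases h.comm x hxQ f⁻¹ hfQ with e | e
    · exact absurd ((commutator_eq_one e).inv_right) (fun e' => by
        rw [inv_inv] at e'
        exact h.ne_one (hfx.symm.trans (commutatorElement_eq_one_iff_commute.2 e')))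
    · exact e
  have hxfsq : x * f⁻¹ * (x * f⁻¹) = 1 := by
    calc x * f⁻¹ * (x * f⁻¹) = (x * f⁻¹ * x⁻¹) * f⁻¹ := by
          rw [inv_eq_of_mul_eq_one_right hx]; group
      _ = 1 := by rw [conj_eq_of_commutator hxf, mul_assoc, hff', h.mul_self]
  have hzleft : ∀ a ∈ coreAt z, z * a * (z * a) = a * a := by
    intro a ha
    calc z * a * (z * a) = z * (a * z) * a := by group
      _ = (z * z) * (a * a) := by rw [(hcz a ha).eq]; group
      _ = a * a := by rw [h.mul_self, one_mul]
  -- every member is `w * (x or 1) * (f⁻¹ or 1)`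
  have hshape : ∀ a ∈ coreAt z, Commute a x ∨
      ∃ w, (w = 1 ∨ w = z) ∧ (a = w * f⁻¹ ∨ a = w * (x * f⁻¹)) := by
    intro a ha
    refine (hcomm2 a ha).imp id fun e => ?_
    have haf : a = a * f * f⁻¹ := by group
    rcases hsmall _ (mul_mem ha hf) e with e' | e' | e' | e' <;> rw [e'] at haf
    · exact ⟨1, .inl rfl, .inl haf⟩
    · exact ⟨z, .inr rfl, .inl haf⟩
    · exact ⟨1, .inl rfl, .inr (by rw [one_mul]; exact haf)⟩
    · exact ⟨z, .inr rfl, .inr (by rw [← mul_assoc, ← (hcz x hxQ).eq]; exact haf)⟩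
  have hsquare : ∀ a ∈ coreAt z, Commute a x → a * a = 1 := by
    intro a ha e
    rcases hsmall a ha e with rfl | rfl | rfl | rfl
    exacts [one_mul 1, h.mul_self, hx, hxz2]
  haveI := Fact.mk Nat.prime_two
  intro c
  have hcQ : ∀ a ∈ coreAt z, (c : G) * a * (c : G)⁻¹ ∈ coreAt z := fun a ha =>
    coreAt_conj_mem (mem_centralizer_singleton_iff.1 c.2) ha
  have hczz : (c : G) * z * (c : G)⁻¹ = z := by
    rw [mem_centralizer_singleton_iff.1 c.2, mul_inv_cancel_right]
  have hcw : ∀ w : G, (w = 1 ∨ w = z) → ∀ k : G, k * z * k⁻¹ = z → k * w * k⁻¹ = w := by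
    rintro w (rfl | rfl) k hk
    · group
    · exact hk
  obtain ⟨wf, hwf, hcf⟩ : ∃ w, (w = 1 ∨ w = z) ∧ (c : G) * f⁻¹ * (c : G)⁻¹ = w * f⁻¹ := by
    have hsq : ((c : G) * f⁻¹ * (c : G)⁻¹) * ((c : G) * f⁻¹ * (c : G)⁻¹) = z := by
      rw [show ((c : G) * f⁻¹ * (c : G)⁻¹) * ((c : G) * f⁻¹ * (c : G)⁻¹) =
        (c : G) * (f⁻¹ * f⁻¹) * (c : G)⁻¹ by group, hff', hczz]
    rcases hshape _ (hcQ _ hfQ) with e | ⟨w, hw, e | e⟩
    · exact absurd ((hsquare _ (hcQ _ hfQ) e).symm.trans hsq) h.ne_one.symm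
    · exact ⟨w, hw, e⟩
    · rw [e] at hsq
      have hw2 : w * (x * f⁻¹) * (w * (x * f⁻¹)) = 1 := by
        rcases hw with rfl | rfl
        · rwa [one_mul]
        · rw [hzleft _ (mul_mem hxQ hfQ), hxfsq]
      exact absurd (hw2.symm.trans hsq) h.ne_one.symm
  have hc2f : ((c : G) * (c : G)) * f⁻¹ * ((c : G) * (c : G))⁻¹ = f⁻¹ := by
    calc ((c : G) * (c : G)) * f⁻¹ * ((c : G) * (c : G))⁻¹
        = (c : G) * ((c : G) * f⁻¹ * (c : G)⁻¹) * (c : G)⁻¹ := by group
      _ = ((c : G) * wf * (c : G)⁻¹) * ((c : G) * f⁻¹ * (c : G)⁻¹) := by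
          conv_lhs => rw [hcf]
          group
      _ = wf * wf * f⁻¹ := by rw [hcw wf hwf _ hczz, hcf, mul_assoc]
      _ = f⁻¹ := by rcases hwf with rfl | rfl <;> simp [h.mul_self]
  obtain ⟨wx, hwx, hc2x⟩ : ∃ w, (w = 1 ∨ w = z) ∧
      ((c : G) * (c : G)) * x * ((c : G) * (c : G))⁻¹ = w * x := by
    have hsq : ((c : G) * x * (c : G)⁻¹) * ((c : G) * x * (c : G)⁻¹) = 1 := by
      rw [show ((c : G) * x * (c : G)⁻¹) * ((c : G) * x * (c : G)⁻¹) =
        (c : G) * (x * x) * (c : G)⁻¹ by group, hx]; group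
    have hcc : ((c : G) * (c : G)) * x * ((c : G) * (c : G))⁻¹ =
        (c : G) * ((c : G) * x * (c : G)⁻¹) * (c : G)⁻¹ := by group
    rcases hshape _ (hcQ x hxQ) with e | ⟨w, hw, e | e⟩
    · rcases hsmall _ (hcQ x hxQ) e with e' | e' | e' | e'
      · exact absurd (conj_eq_one_iff.1 e') hx1
      · exact absurd (mul_left_cancel (mul_right_cancel (e'.trans hczz.symm))) hxz
      · exact ⟨1, .inl rfl, by rw [hcc, e', e', one_mul]⟩
      · refine ⟨1, .inl rfl, ?_⟩
        rw [hcc, e', show (c : G) * (x * z) * (c : G)⁻¹ =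
          ((c : G) * x * (c : G)⁻¹) * ((c : G) * z * (c : G)⁻¹) by group, e', hczz, mul_assoc,
          h.mul_self, mul_one, one_mul]
    · rw [e] at hsq
      have hw2 : w * f⁻¹ * (w * f⁻¹) = z := by
        rcases hw with rfl | rfl
        · rwa [one_mul]
        · rw [hzleft _ hfQ, hff']
      exact absurd (hw2.symm.trans hsq) h.ne_one
    · refine ⟨z * wf, ?_, ?_⟩
      · rcases hwf with rfl | rfl <;> simp [h.mul_self]
      · rw [hcc, e, show (c : G) * (w * (x * f⁻¹)) * (c : G)⁻¹ = ((c : G) * w * (c : G)⁻¹) *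
          (((c : G) * x * (c : G)⁻¹) * ((c : G) * f⁻¹ * (c : G)⁻¹)) by group,
          hcw w hw _ hczz, e, hcf]
        have hww : w * w = 1 := by rcases hw with rfl | rfl <;> simp [h.mul_self]
        have hwfc : ∀ a ∈ coreAt z, Commute wf a := fun a ha => by
          rcases hwf with rfl | rfl
          exacts [Commute.one_left a, (hcz a ha).symm]
        calc w * (w * (x * f⁻¹) * (wf * f⁻¹)) = w * w * (x * ((f⁻¹ * wf) * f⁻¹)) := by group
          _ = x * ((wf * f⁻¹) * f⁻¹) := by rw [hww, one_mul, (hwfc _ hfQ).eq]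
          _ = x * (wf * z) := by rw [mul_assoc wf, hff']
          _ = z * wf * x := by
            rcases hwf with rfl | rfl
            · simp [(hcz x hxQ).eq]
            · simp [h.mul_self]
  set d := (c : G) * (c : G) * ((c : G) * (c : G)) with hd
  have hc2z : ((c : G) * (c : G)) * z * ((c : G) * (c : G))⁻¹ = z := by
    calc ((c : G) * (c : G)) * z * ((c : G) * (c : G))⁻¹
        = (c : G) * ((c : G) * z * (c : G)⁻¹) * (c : G)⁻¹ := by group
      _ = z := by rw [hczz, hczz]
  have hdx : Commute d x := by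
    refine mul_inv_eq_iff_eq_mul.1 ?_
    rw [hd]
    calc (c : G) * (c : G) * ((c : G) * (c : G)) * x * ((c : G) * (c : G) * ((c : G) * (c : G)))⁻¹
        = ((c : G) * (c : G)) * (((c : G) * (c : G)) * x * ((c : G) * (c : G))⁻¹) *
            ((c : G) * (c : G))⁻¹ := by group
      _ = (((c : G) * (c : G)) * wx * ((c : G) * (c : G))⁻¹) *
            (((c : G) * (c : G)) * x * ((c : G) * (c : G))⁻¹) := by
          conv_lhs => rw [hc2x]
          group
      _ = x := by
        rw [hcw wx hwx _ hc2z, hc2x]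
        rcases hwx with rfl | rfl <;> simp [← mul_assoc, h.mul_self]
  have hdf : Commute d f := by
    have h2 : Commute ((c : G) * (c : G)) f⁻¹ := mul_inv_eq_iff_eq_mul.1 hc2f
    have h3 := (h2.mul_left h2).inv_right
    rwa [inv_inv] at h3
  have hdz : Commute d z := by
    have h2 : Commute ((c : G) * (c : G)) z := mul_inv_eq_iff_eq_mul.1 hc2z
    exact h2.mul_left h2
  have hdQ : d ∈ coreAt z := h.self_centralizing d fun a ha => by
    rcases hshape a ha with e | ⟨w, hw, e | e⟩
    · rcases hsmall a ha e with rfl | rfl | rfl | rfl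
      exacts [Commute.one_right d, hdz, hdx, hdx.mul_right hdz]
    · rw [e]
      rcases hw with rfl | rfl
      exacts [(Commute.one_right d).mul_right hdf.inv_right, hdz.mul_right hdf.inv_right]
    · rw [e]
      rcases hw with rfl | rfl
      exacts [(Commute.one_right d).mul_right (hdx.mul_right hdf.inv_right),
        hdz.mul_right (hdx.mul_right hdf.inv_right)]
  obtain ⟨k, hk⟩ := coreAt_isPGroup z ⟨d, hdQ⟩
  refine ⟨k + 2, Subtype.ext ?_⟩
  have hk' : d ^ 2 ^ k = 1 := congrArg Subtype.val hk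
  rw [SubmonoidClass.coe_pow, OneMemClass.coe_one, pow_add, mul_comm, pow_mul]
  rwa [show (c : G) ^ 2 ^ 2 = d by rw [hd]; norm_num [pow_succ, mul_assoc]]

/-- Orthogonality is symmetric. -/
theorem orth_symm {z x : G} (h : Large z) (hx : Large x) (hconj : ∃ g : G, g * z * g⁻¹ = x)
    (hxQ : x ∈ coreAt z) : z ∈ coreAt x := by
  by_cases hxz : x = z
  · exact hxz ▸ hx.mem
  have hxx := hx.mul_self
  have hcz : ∀ a ∈ coreAt z, Commute a z := fun a ha => commute_of_mem ha
  have hxzc : Commute x z := hcz x hxQ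
  by_cases hr : ∃ r ∈ coreAt x, r * z * r⁻¹ = z * x
  · -- a symmetric group on the three involutions
    obtain ⟨r, hr, hrz⟩ := hr
    obtain ⟨q, hq, hqx⟩ := h.pair x hxQ hx.ne_one hxz
    have h1 := conj_mem_coreAt (g := r) hxQ
    rw [hrz, (commute_of_mem hr).eq, mul_inv_cancel_right] at h1
    have h2 := conj_mem_coreAt (g := q) h1
    have hqx' : q * x * q⁻¹ = x * z := by
      have e : x * q * x⁻¹ = z * q := conj_eq_of_commutator hqx
      calc q * x * q⁻¹ = z * ((z * q) * x * q⁻¹) := by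
            rw [show z * (z * q * x * q⁻¹) = (z * z) * (q * x * q⁻¹) by group, h.mul_self, one_mul]
        _ = z * x := by rw [← e]; group
        _ = x * z := hxzc.eq.symm
    rw [hqx', show q * (z * x) * q⁻¹ = (q * z * q⁻¹) * (q * x * q⁻¹) by group, hqx',
      (hcz q hq).eq, mul_inv_cancel_right, hxzc.eq, ← mul_assoc, h.mul_self, one_mul] at h2
    have h3 := mul_mem h2 hx.mem
    rwa [mul_assoc, hxx, mul_one] at h3
  push Not at hr
  by_cases hP : ∀ a ∈ coreAt z, ∀ b ∈ coreAt z, Commute a x → Commute b x → Commute a b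
  · -- the core is dihedral of order eight
    have hsmall : ∀ a ∈ coreAt z, Commute a x → a = 1 ∨ a = z ∨ a = x ∨ a = x * z := by
      intro a ha hax
      by_contra! hne
      obtain ⟨b, hb, hab⟩ := h.pair a ha hne.1 hne.2.1
      obtain ⟨q, hq, hqx⟩ := h.pair x hxQ hx.ne_one hxz
      have hbx : ¬ Commute b x := fun e => h.ne_one
        (hab.symm.trans (commutatorElement_eq_one_iff_commute.2 (hP a ha b hb hax e)))
      have hxb : ⁅x, b⁆ = z := (h.comm x hxQ b hb).resolve_left fun e =>
        hbx (commutator_eq_one e).symm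
      obtain ⟨c, hc, hac⟩ := h.pair (x * a) (mul_mem hxQ ha) (fun e => hne.2.2.1 (by
        rw [← inv_eq_of_mul_eq_one_right hxx]; exact (inv_eq_of_mul_eq_one_right e).symm))
        (fun e => hne.2.2.2 (by
          calc a = (x * x) * a := by rw [hxx, one_mul]
            _ = x * z := by rw [mul_assoc, e]))
      have hhom : ∀ e ∈ coreAt z, ⁅x * a, e⁆ = ⁅x, e⁆ * ⁅a, e⁆ := fun e he => by
        have hzc : x * ⁅a, e⁆ * x⁻¹ = ⁅a, e⁆ := by
          rcases h.comm a ha e he with e' | e' <;> rw [e']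
          · group
          · rw [hxzc.eq, mul_inv_cancel_right]
        have e2 : Commute ⁅a, e⁆ ⁅x, e⁆ := by
          rcases h.comm a ha e he with e' | e' <;> rw [e']
          · exact Commute.one_left _
          · rcases h.comm x hxQ e he with e'' | e'' <;> rw [e'']
            exact Commute.one_right _
        calc ⁅x * a, e⁆ = (x * ⁅a, e⁆ * x⁻¹) * ⁅x, e⁆ := by
              simp only [commutatorElement_def]; group
          _ = ⁅x, e⁆ * ⁅a, e⁆ := by rw [hzc, e2.eq]
      rw [hhom c hc] at hac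
      by_cases hcx : Commute c x
      · rw [commutatorElement_eq_one_iff_commute.2 hcx.symm, one_mul,
          commutatorElement_eq_one_iff_commute.2 (hP a ha c hc hax hcx)] at hac
        exact h.ne_one hac.symm
      · have hxc : ⁅x, c⁆ = z := (h.comm x hxQ c hc).resolve_left fun e =>
          hcx (commutator_eq_one e).symm
        rw [hxc, mul_eq_left, commutatorElement_eq_one_iff_commute] at hac
        have hbc : Commute (b * c) x := by
          show b * c * x = x * (b * c)
          have e1 : x * b * x⁻¹ = z * b := conj_eq_of_commutator hxb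
          have e2 : x * c * x⁻¹ = z * c := conj_eq_of_commutator hxc
          calc b * c * x = (z * z) * (b * c) * x := by rw [h.mul_self, one_mul]
            _ = (z * b) * (z * c) * x := by
              rw [show z * b * (z * c) = z * (b * z) * c by group, (hcz b hb).eq]; group
            _ = x * (b * c) := by rw [← e1, ← e2]; group
        have := hP a ha (b * c) (mul_mem hb hc) hax hbc
        have hab' : Commute a b := by
          have h4 := this.mul_right hac.inv_right
          rwa [mul_inv_cancel_right] at h4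
        exact h.ne_one (hab.symm.trans (commutatorElement_eq_one_iff_commute.2 hab'))
    have h2g := isPGroup_centralizer_of_small h hxQ hxx hx.ne_one hxz hsmall
    obtain ⟨g, hg⟩ := hconj
    have hall : centralizer ({x} : Set G) ≤ coreAt x := by
      refine le_coreAt ?_ le_rfl (fun c hc s hs => ?_)
      · have e : (centralizer ({z} : Set G)).map (MulAut.conj g).toMonoidHom =
            centralizer ({x} : Set G) := by
          ext k
          rw [mem_map_equiv, MulAut.conj_symm_apply, mem_centralizer_singleton_iff,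
            mem_centralizer_singleton_iff, ← hg]
          constructor
          · intro hk
            calc k * (g * z * g⁻¹) = g * (g⁻¹ * k * g * z) * g⁻¹ := by group
              _ = g * (z * (g⁻¹ * k * g)) * g⁻¹ := by rw [hk]
              _ = g * z * g⁻¹ * k := by group
          · intro hk
            calc g⁻¹ * k * g * z = g⁻¹ * (k * (g * z * g⁻¹)) * g := by group
              _ = g⁻¹ * (g * z * g⁻¹ * k) * g := by rw [hk]
              _ = z * (g⁻¹ * k * g) := by group
        rw [← e]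
        exact h2g.map _
      · exact mul_mem (mul_mem (mem_centralizer_singleton_iff.2 hc.eq) hs)
          (inv_mem (mem_centralizer_singleton_iff.2 hc.eq))
    exact hall (mem_centralizer_singleton_iff.2 hxzc.eq.symm)
  push Not at hP
  obtain ⟨a, ha, b, hb, hax, hbx, hab⟩ := hP
  have habz : ⁅a, b⁆ = z := (h.comm a ha b hb).resolve_left fun e => hab (commutator_eq_one e)
  by_contra hzR
  -- the intersection of the two cores inside the centralizer of `x` is `⟨x⟩`
  have hA : ∀ u ∈ coreAt x, u ∈ coreAt z → u = 1 ∨ u = x := by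
    intro u huR huQ
    have hup : ∀ p ∈ coreAt z, Commute p x → Commute u p := by
      intro p hp hpx
      refine commutator_eq_one ((h.comm u huQ p hp).resolve_right fun e => hzR ?_)
      have := mul_mem huR (coreAt_conj_mem hpx (inv_mem huR))
      rw [show u * (p * u⁻¹ * p⁻¹) = ⁅u, p⁆ by rw [commutatorElement_def]; group, e] at this
      exact this
    by_contra! hne
    obtain ⟨q, hq, hqu⟩ := h.pair u huQ hne.1 (fun e => hzR (e ▸ huR))
    have hqx : ¬ Commute q x := fun e => h.ne_one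
      (hqu.symm.trans (commutatorElement_eq_one_iff_commute.2 (hup q hq e)))
    have hxq : ⁅x, q⁆ = z := (h.comm x hxQ q hq).resolve_left fun e =>
      hqx (commutator_eq_one e).symm
    obtain ⟨q', hq', hqu'⟩ := h.pair (x * u) (mul_mem hxQ huQ) (fun e => hne.2 (by
        rw [← inv_eq_of_mul_eq_one_right hxx]; exact (inv_eq_of_mul_eq_one_right e).symm))
      (fun e => hzR (by
        have := mul_mem hx.mem huR
        rwa [e] at this))
    have e1 : x * q * x⁻¹ = z * q := conj_eq_of_commutator hxq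
    have e2 : u * q * u⁻¹ = z * q := conj_eq_of_commutator hqu
    have hq'x : Commute q' x ∨ Commute (q * q') x := by
      rcases h.comm x hxQ q' hq' with e | e
      · exact .inl (commutator_eq_one e).symm
      · refine .inr ?_
        show q * q' * x = x * (q * q')
        have e3 : x * q' * x⁻¹ = z * q' := conj_eq_of_commutator e
        calc q * q' * x = (z * z) * (q * q') * x := by rw [h.mul_self, one_mul]
          _ = (z * q) * (z * q') * x := by
            rw [show z * q * (z * q') = z * (q * z) * q' by group, (hcz q hq).eq]; group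
          _ = x * (q * q') := by rw [← e1, ← e3]; group
    apply h.ne_one
    rw [← hqu']
    rcases hq'x with e | e
    · exact commutatorElement_eq_one_iff_commute.2 (e.symm.mul_left (hup q' hq' e))
    · refine commutatorElement_eq_one_iff_commute.2 ?_
      have h5 : Commute (x * u) (q * q') := e.symm.mul_left (hup _ (mul_mem hq hq') e)
      have h6 : Commute (x * u) q := by
        show x * u * q = q * (x * u)
        calc x * u * q = x * (u * q * u⁻¹) * u := by group
          _ = x * (z * q) * u := by rw [e2]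
          _ = (x * z) * q * u := by group
          _ = z * ((x * q * x⁻¹) * x) * u := by rw [hxzc.eq]; group
          _ = q * (x * u) := by rw [e1, ← mul_assoc z (z * q), ← mul_assoc z z, h.mul_self]; group
      have h7 := h6.inv_right.mul_right h5
      rwa [← mul_assoc, inv_mul_cancel, one_mul] at h7
  -- the action on the quotient of the core at `x`
  let K := centralizer ({x} : Set G)
  let R : Subgroup K := (coreAt x).subgroupOf K
  let xK : K := ⟨x, mem_centralizer_singleton_iff.2 rfl⟩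
  haveI hXn : (zpowers xK).Normal := ⟨fun y hy g => by
    obtain ⟨k, rfl⟩ := hy
    refine ⟨k, ?_⟩
    have : Commute g xK := Subtype.ext (mem_centralizer_singleton_iff.1 g.2)
    rw [(this.zpow_right k).eq, mul_inv_cancel_right]⟩
  let π := QuotientGroup.mk' (zpowers xK)
  have hX : ∀ u : K, (u : G) = 1 ∨ (u : G) = x → π u = 1 := by
    rintro u (e | e) <;> refine (QuotientGroup.eq_one_iff u).2 ?_
    · rw [show u = 1 from Subtype.ext e]; exact one_mem _
    · rw [show u = xK from Subtype.ext e]; exact mem_zpowers xK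
  have hRab : ∀ u v : K, (u : G) ∈ coreAt x → (v : G) ∈ coreAt x → Commute (π u) (π v) := by
    intro u v hu hv
    refine commutatorElement_eq_one_iff_commute.1 ?_
    rw [← map_commutatorElement]
    refine hX _ ?_
    simpa [commutatorElement_def] using hx.comm _ hu _ hv
  let zK : K := ⟨z, mem_centralizer_singleton_iff.2 hxzc.eq.symm⟩
  have hfixT : ∀ u : K, (u : G) ∈ coreAt x → π (zK * u * zK⁻¹) = π u → Commute (u : G) z := by
    intro u hu e
    have h1 := (QuotientGroup.eq_one_iff _).1 (show π (u * zK * u⁻¹ * zK⁻¹) = 1 by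
      have : π (u * (zK * u⁻¹ * zK⁻¹)) = 1 := by
        rw [map_mul, show zK * u⁻¹ * zK⁻¹ = (zK * u * zK⁻¹)⁻¹ by group, map_inv, e, mul_inv_cancel]
      rwa [show u * (zK * u⁻¹ * zK⁻¹) = u * zK * u⁻¹ * zK⁻¹ by group] at this)
    obtain ⟨k, hk⟩ := h1
    have hk' : x ^ k = (u : G) * z * (u : G)⁻¹ * z⁻¹ := by
      have := congrArg Subtype.val hk
      simpa [xK, zK] using this
    have : x ^ k = 1 ∨ x ^ k = x := by
      rw [← zpow_mod_orderOf, hx.ord]
      rcases Int.emod_two_eq_zero_or_one k with e | e <;> simp [e]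
    rcases this with e' | e' <;> rw [e'] at hk'
    · exact mul_inv_eq_iff_eq_mul.1 (mul_inv_eq_one.1 hk'.symm)
    · exact absurd (by
        rw [← eq_mul_inv_iff_mul_eq.1 hk', hxzc.eq] : (u : G) * z * (u : G)⁻¹ = z * x) (hr u hu)
  have hT : ∀ t ∈ coreAt x, Commute t z → ∀ p ∈ coreAt z, Commute p x →
      p * t * p⁻¹ * t⁻¹ = 1 ∨ p * t * p⁻¹ * t⁻¹ = x := by
    intro t ht htz p hp hpx
    refine hA _ (mul_mem (coreAt_conj_mem hpx ht) (inv_mem ht)) ?_
    rw [show p * t * p⁻¹ * t⁻¹ = p * (t * p⁻¹ * t⁻¹) by group]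
    exact mul_mem hp (coreAt_conj_mem htz (inv_mem hp))
  -- each element of `C_Q(x)` moves `R` only inside `C_R(z)`, on which it is trivial
  have key : ∀ p ∈ coreAt z, ∀ hpx : Commute p x, ∀ u : K, (u : G) ∈ coreAt x →
      ∃ t : K, (t : G) ∈ coreAt x ∧ Commute (t : G) z ∧
        (⟨p, mem_centralizer_singleton_iff.2 hpx.eq⟩ : K) * u *
          (⟨p, mem_centralizer_singleton_iff.2 hpx.eq⟩ : K)⁻¹ = t * u := by
    intro p hp hpx u hu
    set pK : K := ⟨p, mem_centralizer_singleton_iff.2 hpx.eq⟩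
    have hzu : (zK : G) * (u : G) * (zK : G)⁻¹ ∈ coreAt x := coreAt_conj_mem hxzc.symm hu
    set s := u⁻¹ * (zK * u * zK⁻¹) with hs
    have hsR : (s : G) ∈ coreAt x := mul_mem (inv_mem hu) hzu
    -- `s` is inverted by `z`, hence centralized by it modulo `x`
    have hsT : Commute (s : G) z := by
      refine hfixT s hsR ?_
      have hzz : zK * zK = 1 := Subtype.ext h.mul_self
      have : zK * s * zK⁻¹ = s⁻¹ := by
        rw [hs, inv_eq_of_mul_eq_one_right hzz]
        calc zK * (u⁻¹ * (zK * u * zK)) * zK = zK * u⁻¹ * zK * u * (zK * zK) := by group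
          _ = (u⁻¹ * (zK * u * zK))⁻¹ := by
            rw [hzz, mul_one, mul_inv_rev, mul_inv_rev, mul_inv_rev, inv_inv,
              inv_eq_of_mul_eq_one_right hzz]
            group
      rw [this, map_inv]
      refine inv_eq_of_mul_eq_one_right ?_
      rw [← map_mul]
      exact hX _ (by simpa using hx.sq _ hsR)
    have hps := hT (s : G) hsR hsT p hp hpx
    have hpu : ((pK * u * pK⁻¹ : K) : G) ∈ coreAt x := coreAt_conj_mem hpx hu
    refine ⟨pK * u * pK⁻¹ * u⁻¹, mul_mem hpu (inv_mem hu), ?_, by group⟩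
    refine hfixT _ (mul_mem hpu (inv_mem hu)) ?_
    have hpz : pK * zK = zK * pK := Subtype.ext (hcz p hp).eq
    have e1 : zK * (pK * u * pK⁻¹ * u⁻¹) * zK⁻¹ =
        (pK * u * pK⁻¹) * (pK * s * pK⁻¹ * s⁻¹) * u⁻¹ := by
      calc zK * (pK * u * pK⁻¹ * u⁻¹) * zK⁻¹
          = (zK * pK) * u * (zK * pK)⁻¹ * (zK * u⁻¹ * zK⁻¹) := by group
        _ = (pK * zK) * u * (pK * zK)⁻¹ * (zK * u⁻¹ * zK⁻¹) := by rw [hpz]
        _ = _ := by rw [hs]; group
    rw [e1, map_mul, map_mul, hX (pK * s * pK⁻¹ * s⁻¹) hps, mul_one, ← map_mul]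
  have hzR' : ∀ u : G, u ∈ coreAt x → Commute u z := by
    intro u hu
    let uK : K := ⟨u, coreAt_le x hu⟩
    let aK : K := ⟨a, mem_centralizer_singleton_iff.2 hax.eq⟩
    let bK : K := ⟨b, mem_centralizer_singleton_iff.2 hbx.eq⟩
    refine hfixT uK hu ?_
    have hconjmap : ∀ (g v : K) (p : G) (hp : p ∈ coreAt z) (hpx : Commute p x),
        (g : G) = p → (v : G) ∈ coreAt x → Commute (v : G) z → π (g * v * g⁻¹) = π v := by
      intro g v p hp hpx hg hv hvz
      have := hX (g * v * g⁻¹ * v⁻¹) (by simpa [hg] using hT _ hv hvz p hp hpx)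
      rwa [map_mul, map_inv, mul_inv_eq_one] at this
    obtain ⟨ta, hta, htaz, hea⟩ := key a ha hax uK hu
    obtain ⟨tb, htb, htbz, heb⟩ := key b hb hbx uK hu
    have eab : π ((aK * bK) * uK * (aK * bK)⁻¹) = π (tb * ta * uK) := by
      rw [show (aK * bK) * uK * (aK * bK)⁻¹ = aK * (bK * uK * bK⁻¹) * aK⁻¹ by group, heb,
        show aK * (tb * uK) * aK⁻¹ = (aK * tb * aK⁻¹) * (aK * uK * aK⁻¹) by group, hea, map_mul,
        hconjmap aK tb a ha hax rfl htb htbz, ← map_mul, mul_assoc]
    have eba : π ((bK * aK) * uK * (bK * aK)⁻¹) = π (tb * ta * uK) := by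
      rw [show (bK * aK) * uK * (bK * aK)⁻¹ = bK * (aK * uK * aK⁻¹) * bK⁻¹ by group, hea,
        show bK * (ta * uK) * bK⁻¹ = (bK * ta * bK⁻¹) * (bK * uK * bK⁻¹) by group, heb, map_mul,
        hconjmap bK ta b hb hbx rfl hta htaz, ← map_mul, ← mul_assoc, map_mul, map_mul π ta tb,
        (hRab ta tb hta htb).eq, ← map_mul, ← map_mul]
    have hz' : aK * bK = zK * (bK * aK) := Subtype.ext (by
      show a * b = z * (b * a)
      rw [← habz, commutatorElement_def]; group)
    rw [hz', show zK * (bK * aK) * uK * (zK * (bK * aK))⁻¹ =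
      zK * ((bK * aK) * uK * (bK * aK)⁻¹) * zK⁻¹ by group, map_mul, map_mul, eba] at eab
    have htc : Commute (π (tb * ta)) (π zK) := by
      rw [map_mul]
      exact ((show Commute tb zK from Subtype.ext htbz.eq).map π).mul_left
        ((show Commute ta zK from Subtype.ext htaz.eq).map π)
    rw [map_mul π (tb * ta) uK, map_inv, ← mul_assoc, ← htc.eq] at eab
    rw [map_mul, map_mul, map_inv]
    refine mul_left_cancel (a := π (tb * ta)) ?_
    rw [← mul_assoc, ← mul_assoc]
    exact eab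
  exact hzR (hx.self_centralizing z fun u hu => (hzR' u hu).symm)

end Cfsg.Agent.BigExtra
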